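import Cfsg.Agent.AutPSU.Rigid

/-!
The structure of the automorphism group of PSU: uniqueness, determinants and counting.
-/

set_option autoImplicit false

namespace Cfsg.Agent.AutPSU

open Matrix Classical.Herm

variable {n q : ℕ} {F : Type*} [Field F] [Fintype F] {σ : F →+* F} (hu : UCtx σ q)
include hu

/-- The determinant of a unitary matrix. -/
noncomputable def detU : Cfsg.GU n F q →* (normHom σ).ker :=
  (Matrix.GeneralLinearGroup.det.comp (Cfsg.GU n F q).subtype).codRestrict _ fun g =>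
    Units.ext (Classical.det_norm_GU hu.pow g.2)

theorem detU_coe (g : Cfsg.GU n F q) : (((detU hu g).1 : Fˣ) : F) = (gmat g.1).det := rfl

omit [Fintype F] in
theorem norm_ker_val (a : (normHom σ).ker) : ((a.1 : Fˣ) : F) * σ ((a.1 : Fˣ) : F) = 1 := congrArg Units.val a.2

theorem detU_surjective (hn : 1 ≤ n) : Function.Surjective (detU (n := n) hu) := fun z => by
  obtain ⟨g, -, -, hd⟩ := exists_refl hu (n := n) (b := Pi.single ⟨0, hn⟩ 1)
    (by rw [Classical.isON_single n ⟨0, hn⟩ ⟨0, hn⟩, if_pos rfl]) (norm_ker_val hu z)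
  exact ⟨g, Subtype.ext (Units.ext hd)⟩

theorem range_suToGU : (suToGU (n := n) (F := F) (q := q)).range = (detU hu).ker := by
  ext g
  constructor
  · rintro ⟨s, rfl⟩
    exact Subtype.ext (Units.ext s.1.2)
  · intro hg
    obtain ⟨s, hs⟩ := exists_su_of_gu hu g (congrArg (fun z : (normHom σ).ker => ((z.1 : Fˣ) : F)) hg)
    exact ⟨s, Subtype.ext (Units.ext hs)⟩

/-- The scalar unitary matrices. -/
noncomputable def scalarU : (normHom σ).ker →* Cfsg.GU n F q where
  toFun a := ⟨Matrix.GeneralLinearGroup.scalar (Fin n) a.1, (Classical.mem_GU_iff hu.pow _).2 fun u v => by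
    show hB n σ (Matrix.scalar (Fin n) ((a.1 : Fˣ) : F) *ᵥ u) (Matrix.scalar (Fin n) ((a.1 : Fˣ) : F) *ᵥ v) = hB n σ u v
    have hv : ∀ w : Vn n F, Matrix.scalar (Fin n) ((a.1 : Fˣ) : F) *ᵥ w = ((a.1 : Fˣ) : F) • w := fun w => by
      rw [Matrix.scalar_apply, ← Matrix.smul_one_eq_diagonal, Matrix.smul_mulVec, Matrix.one_mulVec]
    rw [hv, hv, map_smul, map_smulₛₗ, LinearMap.smul_apply, smul_eq_mul, smul_eq_mul, ← mul_assoc, norm_ker_val hu,
      one_mul]⟩
  map_one' := Subtype.ext (map_one _)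
  map_mul' a b := Subtype.ext (map_mul _ a.1 b.1)

theorem scalarU_mulVec (a : (normHom σ).ker) (v : Vn n F) :
    gmat (scalarU hu (n := n) a).1 *ᵥ v = ((a.1 : Fˣ) : F) • v := by
  show Matrix.scalar (Fin n) ((a.1 : Fˣ) : F) *ᵥ v = _
  rw [Matrix.scalar_apply, ← Matrix.smul_one_eq_diagonal, Matrix.smul_mulVec, Matrix.one_mulVec]

theorem detU_scalarU (a : (normHom σ).ker) : detU hu (scalarU hu (n := n) a) = a ^ n := by
  refine Subtype.ext (Units.ext ?_)
  rw [detU_coe]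
  show (Matrix.scalar (Fin n) ((a.1 : Fˣ) : F)).det = _
  simp [Matrix.scalar_apply]

theorem scalars_subgroupOf (hn : 1 ≤ n) :
    (Geo.scalars (Fin n) F).subgroupOf (Cfsg.GU n F q) = (scalarU hu (n := n)).range := by
  ext g
  constructor
  · rintro ⟨a, ha⟩
    have ha' : Matrix.GeneralLinearGroup.scalar (Fin n) a = g.1 := ha
    let b : Vn n F := Pi.single ⟨0, hn⟩ 1
    have hb : hB n σ b b = 1 := by rw [Classical.isON_single n ⟨0, hn⟩ ⟨0, hn⟩, if_pos rfl]
    have hgb : ∀ v : Vn n F, gmat g.1 *ᵥ v = (a : F) • v := fun v => by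
      rw [← ha']
      show Matrix.scalar (Fin n) (a : F) *ᵥ v = _
      rw [Matrix.scalar_apply, ← Matrix.smul_one_eq_diagonal, Matrix.smul_mulVec, Matrix.one_mulVec]
    have hN := hB_gmat hu g b b
    rw [hgb, smul_self (hu.isHerm n), hb, mul_one] at hN
    exact ⟨⟨a, Units.ext (show (a : F) * σ a = 1 by linear_combination hN)⟩, Subtype.ext ha'⟩
  · rintro ⟨a, rfl⟩
    exact ⟨a.1, rfl⟩

theorem conjA_scalarU (a : (normHom σ).ker) : conjA (scalarU hu (n := n) a) = 1 := by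
  refine autExt fun s => ?_
  rw [conjA_mkU, MulAut.one_apply]
  congr 1
  refine su_ext_mulVec fun x => ?_
  rw [mat_conjSu, ← Matrix.mulVec_mulVec, ← Matrix.mulVec_mulVec, scalarU_mulVec, ← Matrix.mulVec_smul,
    ← scalarU_mulVec hu a, gmat_mulVec_inv]

theorem conjA_of_scalar (hn : 1 ≤ n) {g : Cfsg.GU n F q} (hg : g.1 ∈ Geo.scalars (Fin n) F) : conjA g = 1 := by
  obtain ⟨a, rfl⟩ : g ∈ (scalarU hu (n := n)).range := by
    rw [← scalars_subgroupOf hu hn]; exact hg
  exact conjA_scalarU hu a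

theorem inn_eq : Cfsg.Inn (Cfsg.PSU n F q) = (suToGU (n := n) (F := F) (q := q)).range.map conjA := by
  ext x
  constructor
  · rintro ⟨y, rfl⟩
    obtain ⟨s, rfl⟩ := mkU_surjective y
    exact ⟨_, ⟨s, rfl⟩, conjA_suToGU s⟩
  · rintro ⟨_, ⟨s, rfl⟩, rfl⟩
    exact ⟨mkU s, (conjA_suToGU s).symm⟩

omit [Fintype F] hu in
theorem inndiag_conj_field (τ : F ≃+* F) {x : MulAut (Cfsg.PSU n F q)} (hx : x ∈ Cfsg.inndiagPSU n F q) :
    fieldA τ * x * (fieldA τ)⁻¹ ∈ Cfsg.inndiagPSU n F q := by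
  rw [inndiagPSU_eq] at hx
  obtain ⟨g, rfl⟩ := hx
  rw [conjA_field, mul_inv_cancel_right]
  exact conjA_mem _

omit [Fintype F] hu in
theorem inn_le_inndiag : Cfsg.Inn (Cfsg.PSU n F q) ≤ Cfsg.inndiagPSU n F q := by
  rintro x ⟨y, rfl⟩
  obtain ⟨s, rfl⟩ := mkU_surjective y
  rw [← conjA_suToGU]
  exact conjA_mem _

variable (p : ℕ) [Fact p.Prime] [CharP F p] (hn : 3 ≤ n)
include p hn

/-- Uniqueness of the semilinear form. -/
theorem eq_one_of_conj_field {g : Cfsg.GU n F q} {τ : F ≃+* F}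
    (h : conjA g * fieldA τ = (1 : MulAut (Cfsg.PSU n F q))) :
    τ = 1 ∧ g.1 ∈ Geo.scalars (Fin n) F := by
  classical
  have hH := hu.isHerm n
  obtain ⟨e, f, he, hf, hef, hfix⟩ := exists_fixed_pair hu p hn
  have H : HP σ e f := ⟨he, hf, hef⟩
  let L : Vn n F → Vn n F := fun v => gmat g.1 *ᵥ fun i => τ (v i)
  have hLadd : ∀ u v, L (u + v) = L u + L v := fun u v => by
    simp only [L, ← Matrix.mulVec_add]
    congr 1
    funext i
    exact map_add τ _ _
  have hLsmul : ∀ (t : F) v, L (t • v) = τ t • L v := fun t v => by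
    simp only [L, ← Matrix.mulVec_smul]
    congr 1
    funext i
    exact map_mul τ _ _
  have hLB : ∀ u v, hB n σ (L u) (L v) = τ (hB n σ u v) := fun u v => by rw [hB_gmat hu, hB_map hu]
  have hline : ∀ v, v ≠ 0 → hB n σ v v = 0 → ∃ a : F, L v = a • v := fun v hv0 hv => by
    obtain ⟨κ, hκ0, hκ⟩ := skew_exists hu
    have hE := isE_zero hv hκ
    have h1 := MulEquiv.congr_fun h (mkU (tr hu v κ))
    rw [MulAut.mul_apply, fieldA_mkU, fieldSu_eS hu hE, conjA_mkU, conjSu_eS hu (hE.map hu τ), MulAut.one_apply] at h1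
    have e0 : (gmat g.1 *ᵥ fun i => τ ((0 : Vn n F) i)) = 0 := by
      rw [show (fun i => τ ((0 : Vn n F) i)) = (0 : Vn n F) from funext fun _ => map_zero τ, Matrix.mulVec_zero]
    rw [e0] at h1
    have hτκ : τ κ + σ (τ κ) = 0 := by rw [← hu.comm, ← map_add, hκ, map_zero]
    have hLv : hB n σ (L v) (L v) = 0 := by rw [hLB, hv, map_zero]
    exact tr_inj hu hv0 hv hLv hκ hτκ hκ0
      (eq_of_mkU_eq p hu (by omega) (tr_pow_p hu p (by omega) hLv hτκ) (tr_pow_p hu p (by omega) hv hκ) h1).symm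
  obtain ⟨α, hα⟩ := hline e H.e_ne H.ee
  obtain ⟨β, hβ⟩ := hline f H.f_ne H.ff
  have hα0 : α ≠ 0 := fun h0 => one_ne_zero (α := F) (by
    have := hLB e f; rw [H.ef, map_one, hα, h0, zero_smul, map_zero, LinearMap.zero_apply] at this; exact this.symm)
  have hβ0 : β ≠ 0 := fun h0 => one_ne_zero (α := F) (by
    have := hLB e f; rw [H.ef, map_one, hβ, h0, zero_smul, map_zero] at this; exact this.symm)
  have hLW : ∀ a, InW σ e f a → InW σ e f (L a) := fun a ha => by
    constructor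
    · have := hLB e a
      rw [ha.1, map_zero, hα, map_smulₛₗ, LinearMap.smul_apply, smul_eq_mul, mul_eq_zero] at this
      exact this.resolve_left ((map_ne_zero σ).2 hα0)
    · have := hLB f a
      rw [ha.2, map_zero, hβ, map_smulₛₗ, LinearMap.smul_apply, smul_eq_mul, mul_eq_zero] at this
      exact this.resolve_left ((map_ne_zero σ).2 hβ0)
  have key : ∀ a, InW σ e f a → ∀ d, d + σ d = -hB n σ a a → L a = β • a ∧ α * τ d = β * d := fun a ha d hd => by
    have hu0 : f + a + d • e ≠ 0 := fun h0 => one_ne_zero (α := F) (by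
      have := congrArg (hB n σ e) h0
      simpa [H.ef, ha.1, H.ee] using this)
    have hui : hB n σ (f + a + d • e) (f + a + d • e) = 0 := by
      simp [H.ee, H.ff, H.ef, H.fe hu, ha.1, ha.2, ha.a_e hu, ha.a_f hu]
      linear_combination hd
    obtain ⟨γ, hγ⟩ := hline _ hu0 hui
    rw [hLadd, hLadd, hLsmul, hα, hβ] at hγ
    have h1 := congrArg (hB n σ e) hγ
    have h2 := congrArg (hB n σ f) hγ
    simp [H.ee, H.ff, H.ef, H.fe hu, ha.1, ha.2, (hLW a ha).1, (hLW a ha).2] at h1 h2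
    subst h1
    refine ⟨?_, by linear_combination h2⟩
    have h3 := congrArg (proj σ e f) hγ
    simp only [map_add, map_smul, proj_eq ha, proj_eq (hLW a ha), proj_apply, H.fe hu, H.ee, H.ff, H.ef] at h3
    simpa using h3
  obtain ⟨b, hb, hbW, -⟩ := H.exists_frame hu (by omega)
  have hd : ∀ d, α * τ d = β * d := fun d => by
    obtain ⟨t, ht⟩ := exists_norm hu.toIsInvol (a := -(d + σ d)) (by rw [map_neg, map_add, hu.invol, add_comm])
    refine (key (t • b ⟨0, by omega⟩) ((hbW _).smul t) d ?_).2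
    rw [smul_self hH, hb _ _, if_pos rfl]
    linear_combination ht
  have hαβ : α = β := by simpa using hd 1
  have hτ : τ = 1 := RingEquiv.ext fun d => mul_left_cancel₀ hβ0 (by rw [RingAut.one_apply, ← hd d, hαβ])
  refine ⟨hτ, ?_⟩
  have hg : ∀ v, gmat g.1 *ᵥ v = β • v := fun v => by
    have hL : L v = gmat g.1 *ᵥ v := by simp [L, hτ]
    rw [← hL]
    conv_lhs => rw [eq_proj (σ := σ) e f v]
    obtain ⟨d, hd⟩ := exists_d hu (proj σ e f v)
    rw [hLadd, hLadd, hLsmul, hLsmul, hα, hβ, (key _ (H.proj_mem hu v) d hd).1, hαβ, hτ, RingAut.one_apply,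
      RingAut.one_apply]
    conv_rhs => rw [eq_proj (σ := σ) e f v, smul_add, smul_add]
    simp only [smul_smul, mul_comm]
  refine ⟨Units.mk0 β hβ0, Units.ext (Matrix.ext_of_mulVec_single fun j => ?_)⟩
  show Matrix.scalar (Fin n) β *ᵥ Pi.single j 1 = gmat g.1 *ᵥ Pi.single j 1
  rw [hg, Matrix.scalar_apply, ← Matrix.smul_one_eq_diagonal, Matrix.smul_mulVec, Matrix.one_mulVec]

theorem conjA_eq_one_iff {g : Cfsg.GU n F q} :
    conjA g = (1 : MulAut (Cfsg.PSU n F q)) ↔ g.1 ∈ Geo.scalars (Fin n) F :=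
  ⟨fun h => (eq_one_of_conj_field hu p hn (τ := 1) (by rw [map_one, mul_one, h])).2, conjA_of_scalar hu (by omega)⟩

theorem ker_conjA : (conjA (n := n) (F := F) (q := q)).ker = (scalarU hu (n := n)).range := by
  rw [← scalars_subgroupOf hu (by omega)]
  exact Subgroup.ext fun g => by rw [MonoidHom.mem_ker, conjA_eq_one_iff hu p hn, Subgroup.mem_subgroupOf]

theorem fieldA_mem_inndiag_iff {τ : F ≃+* F} : fieldA τ ∈ Cfsg.inndiagPSU n F q ↔ τ = 1 := by
  refine ⟨fun h => ?_, fun h => by rw [h, map_one]; exact one_mem _⟩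
  rw [inndiagPSU_eq] at h
  obtain ⟨g, hg⟩ := h
  exact (eq_one_of_conj_field hu p hn (g := g⁻¹) (τ := τ) (by rw [map_inv, hg, inv_mul_cancel])).1

theorem fieldA_injective : Function.Injective (fieldA (n := n) (F := F) (q := q)) :=
  (injective_iff_map_eq_one _).2 fun τ h =>
    (eq_one_of_conj_field hu p hn (g := 1) (τ := τ) (by rw [map_one, one_mul, h])).1

theorem conj_injective : Function.Injective (MulAut.conj : Cfsg.PSU n F q →* MulAut (Cfsg.PSU n F q)) :=
  (injective_iff_map_eq_one _).2 fun x hx => by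
    obtain ⟨s, rfl⟩ := mkU_surjective x
    rw [← conjA_suToGU, conjA_eq_one_iff hu p hn] at hx
    obtain ⟨c, hc⟩ := hx
    have hc' : Matrix.scalar (Fin n) (c : F) = mat s := congrArg Units.val hc
    exact mkU_eq_one_iff.2 (mem_center_of_scalar (a := (c : F)) fun v => by
      rw [← hc', Matrix.scalar_apply, ← Matrix.smul_one_eq_diagonal, Matrix.smul_mulVec, Matrix.one_mulVec])

/-- The relative index of the inner automorphisms joined with a group of unitary matrices. -/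
theorem relIndex_eq (S : Subgroup (Cfsg.GU n F q)) :
    (Cfsg.Inn (Cfsg.PSU n F q) ⊔ S.map conjA).relIndex (Cfsg.inndiagPSU n F q) =
      ((powMonoidHom n : (normHom σ).ker →* (normHom σ).ker).range ⊔ S.map (detU hu)).index := by
  rw [inn_eq hu, inndiagPSU_eq, ← Subgroup.index_comap, ← Subgroup.map_sup, Subgroup.comap_map_eq,
    ker_conjA hu p hn, ← Subgroup.index_map_eq (f := detU (n := n) hu) _ (detU_surjective hu (by omega))
      (le_sup_of_le_left (le_sup_of_le_left (le_of_eq (range_suToGU hu).symm)))]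
  congr 1
  rw [Subgroup.map_sup, Subgroup.map_sup, range_suToGU hu, (Subgroup.map_eq_bot_iff _).2 le_rfl, bot_sup_eq,
    MonoidHom.map_range, sup_comm]
  congr 2
  ext a
  simp [detU_scalarU hu]

theorem relIndex_inn :
    (Cfsg.Inn (Cfsg.PSU n F q)).relIndex (Cfsg.inndiagPSU n F q) = Nat.gcd n (q + 1) := by
  have h := relIndex_eq hu p hn (⊥ : Subgroup (Cfsg.GU n F q))
  rw [Subgroup.map_bot, sup_bot_eq, Subgroup.map_bot, sup_bot_eq] at h
  rw [h, IsCyclic.index_powMonoidHom_range, card_ker_normHom hu.toIsInvol, hu.card_fix, Nat.gcd_comm]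

theorem card_inndiag :
    Nat.card (Cfsg.inndiagPSU n F q) = Nat.gcd n (q + 1) * Nat.card (Cfsg.PSU n F q) := by
  have h1 := ((Cfsg.Inn (Cfsg.PSU n F q)).subgroupOf (Cfsg.inndiagPSU n F q)).index_mul_card
  rw [← h1, Nat.card_congr (Subgroup.subgroupOfEquivOfLe inn_le_inndiag).toEquiv,
    show ((Cfsg.Inn (Cfsg.PSU n F q)).subgroupOf (Cfsg.inndiagPSU n F q)).index =
      (Cfsg.Inn (Cfsg.PSU n F q)).relIndex (Cfsg.inndiagPSU n F q) from rfl, relIndex_inn hu p hn,
    ← Nat.card_congr (MonoidHom.ofInjective (conj_injective hu p hn)).toEquiv]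

variable (hs : ¬ (n = 3 ∧ q = 2))
include hs

theorem inndiag_normal : (Cfsg.inndiagPSU n F q).Normal := ⟨fun x hx β => by
  obtain ⟨g, τ, rfl⟩ := exists_decomp hu p hn hs β
  rw [show conjA g * fieldA τ * x * (conjA g * fieldA τ)⁻¹ =
    conjA g * (fieldA τ * x * (fieldA τ)⁻¹) * (conjA g)⁻¹ by group]
  exact mul_mem (mul_mem (conjA_mem g) (inndiag_conj_field τ hx)) (inv_mem (conjA_mem g))⟩

/-- The projection onto the field automorphisms. -/
theorem exists_proj : ∃ ψ : MulAut (Cfsg.PSU n F q) →* (F ≃+* F),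
    (∀ τ, ψ (fieldA τ) = τ) ∧ ψ.ker = Cfsg.inndiagPSU n F q := by
  haveI := inndiag_normal hu p hn hs
  let K : (F ≃+* F) →* MulAut (Cfsg.PSU n F q) ⧸ Cfsg.inndiagPSU n F q := (QuotientGroup.mk' _).comp fieldA
  have hK : Function.Bijective K := by
    refine ⟨(injective_iff_map_eq_one _).2 fun τ h =>
      (fieldA_mem_inndiag_iff hu p hn).1 ((QuotientGroup.eq_one_iff _).1 h), fun y => ?_⟩
    obtain ⟨β, rfl⟩ := QuotientGroup.mk_surjective y
    obtain ⟨g, τ, rfl⟩ := exists_decomp hu p hn hs β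
    refine ⟨τ, ?_⟩
    show (QuotientGroup.mk (fieldA τ) : _ ⧸ Cfsg.inndiagPSU n F q) = QuotientGroup.mk (conjA g * fieldA τ)
    rw [QuotientGroup.mk_mul, (QuotientGroup.eq_one_iff _).2 (conjA_mem g), one_mul]
  let e := MulEquiv.ofBijective K hK
  refine ⟨e.symm.toMonoidHom.comp (QuotientGroup.mk' _), fun τ => e.symm_apply_apply τ, ?_⟩
  ext β
  rw [MonoidHom.mem_ker, MonoidHom.comp_apply, MulEquiv.coe_toMonoidHom, EmbeddingLike.map_eq_one_iff,
    QuotientGroup.mk'_apply, QuotientGroup.eq_one_iff]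

theorem card_mulAut : Nat.card (MulAut (Cfsg.PSU n F q)) =
    Nat.card (F ≃+* F) * Nat.gcd n (q + 1) * Nat.card (Cfsg.PSU n F q) := by
  obtain ⟨ψ, hψ, hker⟩ := exists_proj hu p hn hs
  rw [mul_assoc, ← card_inndiag hu p hn, ← hker, ψ.ker.card_eq_card_quotient_mul_card_subgroup]
  congr 1
  exact Nat.card_congr (QuotientGroup.quotientKerEquivOfSurjective ψ fun x => ⟨fieldA x, hψ x⟩).toEquiv

/-- The outer automorphism group. -/
theorem exists_out_hom : ∃ φ : Cfsg.Out (Cfsg.PSU n F q) →* (F ≃+* F), Function.Surjective φ ∧ IsCyclic φ.ker ∧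
    Nat.card φ.ker = Nat.gcd n (q + 1) := by
  classical
  haveI : Finite (F ≃+* F) := Finite.of_injective (fun σ : F ≃+* F => (σ : F → F)) DFunLike.coe_injective
  obtain ⟨ψ, hψ, hker⟩ := exists_proj hu p hn hs
  let φ : Cfsg.Out (Cfsg.PSU n F q) →* (F ≃+* F) := QuotientGroup.lift _ ψ (by rw [hker]; exact inn_le_inndiag)
  have hsurj : Function.Surjective φ := fun x => ⟨QuotientGroup.mk (fieldA x), hψ x⟩
  let Δ : Cfsg.GU n F q →* φ.ker := ((QuotientGroup.mk' (Cfsg.Inn (Cfsg.PSU n F q))).comp conjA).codRestrict φ.ker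
    fun g => by
      show ψ (conjA g) = 1
      rw [← MonoidHom.mem_ker, hker]
      exact conjA_mem g
  have hΔ : Function.Surjective Δ := by
    rintro ⟨y, hy⟩
    obtain ⟨β, rfl⟩ := QuotientGroup.mk_surjective y
    have hb : β ∈ Cfsg.inndiagPSU n F q := by rw [← hker]; exact hy
    rw [inndiagPSU_eq] at hb
    obtain ⟨g, rfl⟩ := hb
    exact ⟨g, rfl⟩
  have hΔker : (detU (n := n) hu).ker ≤ Δ.ker := by
    rw [← range_suToGU hu]
    rintro _ ⟨s, rfl⟩
    refine MonoidHom.mem_ker.2 (Subtype.ext ?_)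
    show (QuotientGroup.mk (conjA (suToGU s)) : Cfsg.Out (Cfsg.PSU n F q)) = 1
    rw [QuotientGroup.eq_one_iff]
    exact ⟨mkU s, (conjA_suToGU s).symm⟩
  refine ⟨φ, hsurj, ?_, ?_⟩
  · refine isCyclic_of_surjective ((detU (n := n) hu).liftOfRightInverse _
      (Function.rightInverse_surjInv (detU_surjective hu (by omega))) ⟨Δ, hΔker⟩) fun y => ?_
    obtain ⟨g, rfl⟩ := hΔ y
    exact ⟨detU hu g, MonoidHom.liftOfRightInverse_comp_apply _ _ _ _ g⟩
  · have h1 := (Cfsg.Inn (Cfsg.PSU n F q)).card_eq_card_quotient_mul_card_subgroup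
    have h2 := φ.ker.card_eq_card_quotient_mul_card_subgroup
    have h3 : Nat.card (Cfsg.Out (Cfsg.PSU n F q) ⧸ φ.ker) = Nat.card (F ≃+* F) :=
      Nat.card_congr (QuotientGroup.quotientKerEquivOfSurjective φ hsurj).toEquiv
    rw [h3] at h2
    have h4 : Nat.card (Cfsg.Inn (Cfsg.PSU n F q)) = Nat.card (Cfsg.PSU n F q) :=
      (Nat.card_congr (MonoidHom.ofInjective (conj_injective hu p hn)).toEquiv).symm
    rw [card_mulAut hu p hn hs, show Nat.card (MulAut (Cfsg.PSU n F q) ⧸ Cfsg.Inn (Cfsg.PSU n F q)) =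
      Nat.card (Cfsg.Out (Cfsg.PSU n F q)) from rfl, h2, h4] at h1
    exact (Nat.eq_of_mul_eq_mul_left Nat.card_pos (Nat.eq_of_mul_eq_mul_right Nat.card_pos h1)).symm

/-- A conjugate of a standard field automorphism is an inner-diagonal conjugate of it. -/
theorem conjUnder_of_conj (hcomm : ∀ σ τ : F ≃+* F, Commute σ τ) {α x : MulAut (Cfsg.PSU n F q)} {τ : F ≃+* F}
    (h : α * x * α⁻¹ = fieldA τ) : IsConjUnder (Cfsg.inndiagPSU n F q) (fieldA τ) x := by
  haveI := inndiag_normal hu p hn hs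
  obtain ⟨a, ρ, rfl⟩ := exists_decomp hu p hn hs α
  have hJ : Commute (fieldA ρ) (fieldA τ : MulAut (Cfsg.PSU n F q)) := (hcomm ρ τ).map _
  set J := (fieldA ρ : MulAut (Cfsg.PSU n F q)) with hJd
  refine ⟨J⁻¹ * (conjA a)⁻¹ * J⁻¹⁻¹, Subgroup.Normal.conj_mem inferInstance _ (inv_mem (conjA_mem a)) _, ?_⟩
  have hx : x = J⁻¹ * (conjA a)⁻¹ * fieldA τ * conjA a * J := by rw [← h]; group
  rw [hx]
  calc J⁻¹ * (conjA a)⁻¹ * fieldA τ * conjA a * J
      = J⁻¹ * (conjA a)⁻¹ * (J * fieldA τ * J⁻¹) * conjA a * J := by rw [hJ.eq, mul_inv_cancel_right]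
    _ = J⁻¹ * (conjA a)⁻¹ * J⁻¹⁻¹ * fieldA τ * (J⁻¹ * (conjA a)⁻¹ * J⁻¹⁻¹)⁻¹ := by group

end Cfsg.Agent.AutPSU
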