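import Cfsg.Agent.AutPSU.Basic

/-!
Eichler elements and transvections of SU_n, the unipotent radical of the stabiliser of an isotropic point.
-/

set_option autoImplicit false

namespace Cfsg.Agent.AutPSU

open Matrix Classical.Herm

variable {n q : ℕ} {F : Type*} [Field F] {σ : F →+* F}

/-- Admissible Eichler data. -/
structure IsE (σ : F →+* F) (e a : Vn n F) (d : F) : Prop where
  ee : hB n σ e e = 0
  ae : hB n σ a e = 0
  tr : d + σ d = -hB n σ a a

theorem IsE.ea (hu : UCtx σ q) {e a : Vn n F} {d : F} (h : IsE σ e a d) : hB n σ e a = 0 :=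
  (eq_zero_comm (hu.isHerm n)).1 h.ae

theorem isE_zero {e : Vn n F} (he : hB n σ e e = 0) {c : F} (hc : c + σ c = 0) : IsE σ e 0 c :=
  ⟨he, by simp, by simp [hc]⟩

/-- The Eichler element `x ↦ x + B(e,x) a + (d B(e,x) - B(a,x)) e`. -/
noncomputable def eS [Fintype F] (hu : UCtx σ q) (e a : Vn n F) (d : F) : Su n F q :=
  letI := _root_.Classical.propDecidable (IsE σ e a d)
  if h : IsE σ e a d then
    (Classical.suEquiv n hu.pow).symm ⟨_, eichler_mem (hu.isHerm n) h.ee h.ae h.tr⟩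
  else 1

variable [Fintype F] (hu : UCtx σ q)
include hu

/-- A transvection. -/
noncomputable abbrev tr (v : Vn n F) (c : F) : Su n F q := eS hu v 0 c

theorem eS_mulVec {e a : Vn n F} {d : F} (h : IsE σ e a d) (x : Vn n F) :
    mat (eS hu e a d) *ᵥ x = x + hB n σ e x • a + (d * hB n σ e x - hB n σ a x) • e := by
  rw [eS, dif_pos h, ← Classical.suEquiv_apply hu.pow, MulEquiv.apply_symm_apply]
  exact eichler_apply (hu.isHerm n) h.ee h.ae d x

theorem tr_mulVec {v : Vn n F} (hv : hB n σ v v = 0) {c : F} (hc : c + σ c = 0) (x : Vn n F) :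
    mat (tr hu v c) *ᵥ x = x + (c * hB n σ v x) • v := by
  rw [eS_mulVec hu (isE_zero hv hc)]
  simp

theorem eS_zero {e : Vn n F} (he : hB n σ e e = 0) : eS hu e 0 (0 : F) = 1 := by
  refine su_ext_mulVec fun x => ?_
  rw [eS_mulVec hu (isE_zero he (by simp)), mat_one_mulVec]
  simp

theorem eS_fix {e a : Vn n F} {d : F} (h : IsE σ e a d) : mat (eS hu e a d) *ᵥ e = e := by
  rw [eS_mulVec hu h, h.ee, h.ae]
  simp

theorem IsE.mul {e a b : Vn n F} {d d' : F} (h : IsE σ e a d) (h' : IsE σ e b d') :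
    IsE σ e (a + b) (d + d' - hB n σ a b) := by
  refine ⟨h.ee, by rw [map_add, LinearMap.add_apply, h.ae, h'.ae, add_zero], ?_⟩
  simp only [map_sub, map_add, LinearMap.add_apply, (hu.isHerm n).symm a b]
  linear_combination h.tr + h'.tr

theorem eS_mul {e a b : Vn n F} {d d' : F} (h : IsE σ e a d) (h' : IsE σ e b d') :
    eS hu e a d * eS hu e b d' = eS hu e (a + b) (d + d' - hB n σ a b) := by
  refine su_ext_mulVec fun x => ?_
  rw [mat_mul_mulVec, eS_mulVec hu (h.mul hu h'), eS_mulVec hu h', eS_mulVec hu h]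
  simp only [map_add, map_smul, LinearMap.add_apply, smul_eq_mul, h.ee, h'.ea hu, h.ae, mul_zero, add_zero]
  match_scalars <;> ring

theorem IsE.conj {e a : Vn n F} {d : F} (h : IsE σ e a d) (g : Cfsg.GU n F q) :
    IsE σ (gmat g.1 *ᵥ e) (gmat g.1 *ᵥ a) d :=
  ⟨by rw [hB_gmat hu]; exact h.ee, by rw [hB_gmat hu]; exact h.ae, by rw [hB_gmat hu]; exact h.tr⟩

theorem conjSu_eS {e a : Vn n F} {d : F} (h : IsE σ e a d) (g : Cfsg.GU n F q) :
    conjSu g (eS hu e a d) = eS hu (gmat g.1 *ᵥ e) (gmat g.1 *ᵥ a) d := by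
  refine su_ext_mulVec fun x => ?_
  rw [mat_conjSu, ← Matrix.mulVec_mulVec, ← Matrix.mulVec_mulVec, eS_mulVec hu h, eS_mulVec hu (h.conj hu g),
    Matrix.mulVec_add, Matrix.mulVec_add, Matrix.mulVec_smul, Matrix.mulVec_smul, gmat_mulVec_inv]
  have e1 : ∀ v, hB n σ v (gmat g.1⁻¹ *ᵥ x) = hB n σ (gmat g.1 *ᵥ v) x := fun v => by
    conv_rhs => rw [← gmat_mulVec_inv g.1 x, hB_gmat hu]
  rw [e1, e1]

theorem IsE.map {e a : Vn n F} {d : F} (h : IsE σ e a d) (τ : F ≃+* F) :
    IsE σ (fun i => τ (e i)) (fun i => τ (a i)) (τ d) :=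
  ⟨by rw [hB_map hu, h.ee, map_zero], by rw [hB_map hu, h.ae, map_zero],
    by rw [hB_map hu, ← hu.comm, ← map_add, h.tr, map_neg]⟩

theorem fieldSu_eS {e a : Vn n F} {d : F} (h : IsE σ e a d) (τ : F ≃+* F) :
    fieldSu τ (eS hu e a d) = eS hu (fun i => τ (e i)) (fun i => τ (a i)) (τ d) := by
  refine su_ext_mulVec fun x => ?_
  have ex : x = fun i => τ (τ.symm (x i)) := funext fun i => (τ.apply_symm_apply _).symm
  rw [ex, mat_fieldSu, mapped_mulVec, eS_mulVec hu h, eS_mulVec hu (h.map hu τ), hB_map hu, hB_map hu]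
  funext i
  simp

theorem suConj (s : Su n F q) {e a : Vn n F} {d : F} (h : IsE σ e a d) :
    s * eS hu e a d * s⁻¹ = eS hu (mat s *ᵥ e) (mat s *ᵥ a) d := by
  rw [← gmat_suToGU s, ← conjSu_eS hu h]
  rfl

theorem IsE.conjS {e a : Vn n F} {d : F} (h : IsE σ e a d) (s : Su n F q) :
    IsE σ (mat s *ᵥ e) (mat s *ᵥ a) d := h.conj hu (suToGU s)

theorem conj_tr (s : Su n F q) {v : Vn n F} (hv : hB n σ v v = 0) {c : F} (hc : c + σ c = 0) :
    s * tr hu v c * s⁻¹ = tr hu (mat s *ᵥ v) c := by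
  rw [suConj hu s (isE_zero hv hc), Matrix.mulVec_zero]

theorem IsE.smul {e a : Vn n F} {d : F} (h : IsE σ e a d) (l : F) : IsE σ e (σ l • a) (l * σ l * d) := by
  refine ⟨h.ee, by rw [map_smulₛₗ, LinearMap.smul_apply, h.ae, smul_zero], ?_⟩
  rw [smul_self (hu.isHerm n), map_mul, map_mul, hu.invol]
  linear_combination l * σ l * h.tr

theorem eS_smul {e a : Vn n F} {d : F} (h : IsE σ e a d) (l : F) :
    eS hu (l • e) a d = eS hu e (σ l • a) (l * σ l * d) := by
  have h' : IsE σ (l • e) a d :=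
    ⟨by rw [smul_self (hu.isHerm n), h.ee, mul_zero], by rw [map_smul, h.ae, smul_zero], h.tr⟩
  refine su_ext_mulVec fun x => ?_
  rw [eS_mulVec hu h', eS_mulVec hu (h.smul hu l)]
  simp only [map_smulₛₗ, LinearMap.smul_apply, smul_eq_mul, hu.invol, RingHom.id_apply]
  match_scalars <;> ring

theorem tr_smul {v : Vn n F} (hv : hB n σ v v = 0) {c : F} (hc : c + σ c = 0) (l : F) :
    tr hu (l • v) c = tr hu v (l * σ l * c) := by
  rw [tr, eS_smul hu (isE_zero hv hc), smul_zero]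

theorem tr_mul {v : Vn n F} (hv : hB n σ v v = 0) {c d : F} (hc : c + σ c = 0) (hd : d + σ d = 0) :
    tr hu v c * tr hu v d = tr hu v (c + d) := by
  rw [tr, eS_mul hu (isE_zero hv hc) (isE_zero hv hd)]
  simp

theorem tr_eq_one {v : Vn n F} (hv0 : v ≠ 0) (hv : hB n σ v v = 0) {c : F} (hc : c + σ c = 0) :
    tr hu v c = 1 ↔ c = 0 := by
  refine ⟨fun h => ?_, fun h => by rw [h]; exact eS_zero hu hv⟩
  obtain ⟨y, hy⟩ := exists_pairing (hu.isHerm n) hv0
  have h1 := tr_mulVec hu hv hc y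
  rw [h, mat_one_mulVec, hy, mul_one] at h1
  have h2 : c • v = 0 := by simpa using h1.symm
  exact (smul_eq_zero.1 h2).resolve_right hv0

theorem tr_inj {v w : Vn n F} (hv0 : v ≠ 0) (hv : hB n σ v v = 0) (hw : hB n σ w w = 0) {c d : F}
    (hc : c + σ c = 0) (hd : d + σ d = 0) (hc0 : c ≠ 0) (h : tr hu v c = tr hu w d) : ∃ a : F, w = a • v := by
  obtain ⟨x, hx⟩ := exists_pairing (hu.isHerm n) hv0
  have h1 := tr_mulVec hu hv hc x
  rw [h, tr_mulVec hu hw hd, hx, mul_one] at h1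
  have h2 := add_left_cancel h1
  have hne : d * hB n σ w x ≠ 0 := fun h0 => by
    rw [h0, zero_smul] at h2
    exact smul_ne_zero hc0 hv0 h2.symm
  exact ⟨(d * hB n σ w x)⁻¹ * c, by rw [← smul_smul, ← h2, smul_smul, inv_mul_cancel₀ hne, one_smul]⟩

theorem eS_tr_commute {e a : Vn n F} {d : F} (h : IsE σ e a d) {w : Vn n F} (hw : hB n σ w w = 0) {c : F}
    (hc : c + σ c = 0) (hew : hB n σ e w = 0) (haw : hB n σ a w = 0) : Commute (eS hu e a d) (tr hu w c) := by
  show _ = _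
  refine mul_inv_eq_iff_eq_mul.1 ?_
  rw [conj_tr hu _ hw hc, eS_mulVec hu h, hew, haw]
  simp

theorem tr_commute_iff {v w : Vn n F} (hv0 : v ≠ 0) (hw0 : w ≠ 0) (hv : hB n σ v v = 0) (hw : hB n σ w w = 0)
    {c d : F} (hc : c + σ c = 0) (hd : d + σ d = 0) (hc0 : c ≠ 0) (hd0 : d ≠ 0) :
    Commute (tr hu v c) (tr hu w d) ↔ hB n σ v w = 0 := by
  constructor
  · intro h
    by_contra hne
    have h1 : tr hu (mat (tr hu v c) *ᵥ w) d = tr hu w d := by
      rw [← conj_tr hu _ hw hd, h.eq, mul_inv_cancel_right]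
    have hw' : hB n σ (mat (tr hu v c) *ᵥ w) (mat (tr hu v c) *ᵥ w) = 0 := by rw [hB_mat hu]; exact hw
    obtain ⟨a, ha⟩ := tr_inj hu hw0 hw hw' hd hd hd0 h1.symm
    rw [tr_mulVec hu hv hc] at ha
    have hwv : hB n σ w v ≠ 0 := mt (eq_zero_comm (hu.isHerm n)).1 hne
    have h2 := congrArg (hB n σ w) ha
    simp only [map_add, map_smul, smul_eq_mul, hw, zero_add, mul_zero] at h2
    exact mul_ne_zero (mul_ne_zero hc0 hne) hwv h2
  · intro h
    show _ = _
    refine mul_inv_eq_iff_eq_mul.1 ?_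
    rw [conj_tr hu _ hw hd, tr_mulVec hu hv hc, h]
    simp

theorem tr_pow (v : Vn n F) (hv : hB n σ v v = 0) {c : F} (hc : c + σ c = 0) :
    ∀ k : ℕ, tr hu v c ^ k = tr hu v ((k : F) * c)
  | 0 => by rw [pow_zero, Nat.cast_zero, zero_mul]; exact (eS_zero hu hv).symm
  | k + 1 => by
    rw [pow_succ, tr_pow v hv hc k, tr_mul hu hv (by rw [map_mul, map_natCast]; linear_combination (k : F) * hc) hc]
    congr 1; push_cast; ring

omit [Fintype F] in
theorem exists_d (a : Vn n F) : ∃ d : F, d + σ d = -hB n σ a a :=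
  exists_trace hu.toIsInvol (by rw [map_neg, fix_self (hu.isHerm n)])

omit [Fintype F] in
theorem skew_exists : ∃ k : F, k ≠ 0 ∧ k + σ k = 0 := by
  obtain ⟨k, hk0, hk⟩ := exists_skew hu.toIsInvol
  exact ⟨k, hk0, by rw [hk, add_neg_cancel]⟩

omit [Fintype F] in
/-- Vectors orthogonal to the orthogonal of a vector are proportional to it. -/
theorem perp_perp {e z : Vn n F} (he : e ≠ 0) (h : ∀ y, hB n σ e y = 0 → hB n σ z y = 0) :
    ∃ a : F, z = a • e := by
  obtain ⟨y0, hy0⟩ := exists_pairing (hu.isHerm n) he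
  refine ⟨σ (hB n σ z y0), sub_eq_zero.1 ((hu.isHerm n).nondeg _ fun y => ?_)⟩
  have h1 := h (y - hB n σ e y • y0) (by rw [map_sub, map_smul, smul_eq_mul, hy0, mul_one, sub_self])
  rw [map_sub, map_smul, smul_eq_mul, sub_eq_zero] at h1
  rw [map_sub, LinearMap.sub_apply, map_smulₛₗ, LinearMap.smul_apply, smul_eq_mul, hu.invol, h1]
  ring

/-- The elements trivial on the flag of an isotropic vector. -/
def flagFix (σ : F →+* F) (e : Vn n F) : Subgroup (Su n F q) where
  carrier := {s | mat s *ᵥ e = e ∧ ∀ x, hB n σ e x = 0 → ∃ a : F, mat s *ᵥ x = x + a • e}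
  mul_mem' {s t} hs ht := by
    refine ⟨by rw [mat_mul_mulVec, ht.1, hs.1], fun x hx => ?_⟩
    obtain ⟨a, ha⟩ := ht.2 x hx
    obtain ⟨b, hb⟩ := hs.2 x hx
    exact ⟨b + a, by rw [mat_mul_mulVec, ha, Matrix.mulVec_add, Matrix.mulVec_smul, hb, hs.1, add_smul, add_assoc]⟩
  one_mem' := ⟨mat_one_mulVec e, fun x _ => ⟨0, by rw [zero_smul, add_zero]; exact mat_one_mulVec x⟩⟩
  inv_mem' {s} hs := by
    have he : mat s⁻¹ *ᵥ e = e := by conv_lhs => rw [← hs.1, mat_inv_mulVec]
    refine ⟨he, fun x hx => ?_⟩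
    obtain ⟨a, ha⟩ := hs.2 x hx
    refine ⟨-a, ?_⟩
    have h := congrArg (mat s⁻¹ *ᵥ ·) ha
    simp only [mat_inv_mulVec, Matrix.mulVec_add, Matrix.mulVec_smul, he] at h
    rw [neg_smul, ← sub_eq_add_neg, eq_sub_iff_add_eq]
    exact h.symm

theorem eS_mem_flagFix {e a : Vn n F} {d : F} (h : IsE σ e a d) : eS hu e a d ∈ flagFix σ e :=
  ⟨eS_fix hu h, fun x hx => ⟨-hB n σ a x, by rw [eS_mulVec hu h, hx]; simp⟩⟩

/-- Every element trivial on the flag is an Eichler element. -/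
theorem flagFix_eq {e f : Vn n F} (he : hB n σ e e = 0) (hf : hB n σ f f = 0) (hef : hB n σ e f = 1)
    {s : Su n F q} (hs : s ∈ flagFix σ e) :
    ∃ a d, hB n σ f a = 0 ∧ IsE σ e a d ∧ s = eS hu e a d := by
  have hH := hu.isHerm n
  have hfe : hB n σ f e = 1 := by rw [← hH.symm, hef, map_one]
  set v := mat s *ᵥ f - f with hv
  have hev : hB n σ e v = 0 := by
    rw [hv, map_sub]
    nth_rewrite 1 [← hs.1]
    rw [hB_mat hu, sub_self]
  set d := hB n σ f v with hd
  have hsf : mat s *ᵥ f = f + v := by rw [hv, add_sub_cancel]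
  clear_value v
  refine ⟨v - d • e, d, ?_, ?_, su_ext_mulVec fun x => ?_⟩
  · rw [map_sub, map_smul, smul_eq_mul, hfe, mul_one, hd, sub_self]
  · refine ⟨he, ?_, ?_⟩
    · rw [map_sub, LinearMap.sub_apply, map_smulₛₗ, LinearMap.smul_apply, he, smul_zero, sub_zero]
      exact (eq_zero_comm hH).1 hev
    · have h1 := hB_mat hu s f f
      rw [hsf] at h1
      simp only [map_add, LinearMap.add_apply, hf, zero_add] at h1
      rw [← hH.symm f v, ← hd] at h1
      simp only [map_sub, map_smulₛₗ, LinearMap.sub_apply, LinearMap.smul_apply, smul_eq_mul, RingHom.id_apply, he,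
        hev, (eq_zero_comm hH).1 hev, mul_zero, sub_zero]
      linear_combination h1
  · obtain ⟨a, ha⟩ := hs.2 (x - hB n σ e x • f) (by rw [map_sub, map_smul, smul_eq_mul, hef, mul_one, sub_self])
    have hE : IsE σ e (v - d • e) d := by
      refine ⟨he, ?_, ?_⟩
      · rw [map_sub, LinearMap.sub_apply, map_smulₛₗ, LinearMap.smul_apply, he, smul_zero, sub_zero]
        exact (eq_zero_comm hH).1 hev
      · have h1 := hB_mat hu s f f
        rw [hsf] at h1
        simp only [map_add, LinearMap.add_apply, hf, zero_add] at h1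
        rw [← hH.symm f v, ← hd] at h1
        simp only [map_sub, map_smulₛₗ, LinearMap.sub_apply, LinearMap.smul_apply, smul_eq_mul, RingHom.id_apply, he,
          hev, (eq_zero_comm hH).1 hev, mul_zero, sub_zero]
        linear_combination h1
    have h2 := hB_mat hu s f (x - hB n σ e x • f)
    rw [hsf, ha] at h2
    have h3 : a = -hB n σ v (x - hB n σ e x • f) := by
      simp only [map_add, map_sub, map_smul, LinearMap.add_apply, smul_eq_mul, hfe, hef, hf,
        (eq_zero_comm hH).1 hev, mul_zero, mul_one, add_zero, sub_zero] at h2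
      simp only [map_sub, map_smul, smul_eq_mul]
      linear_combination h2
    have hxe : x = (x - hB n σ e x • f) + hB n σ e x • f := by abel
    conv_lhs => rw [hxe, Matrix.mulVec_add, Matrix.mulVec_smul, ha, hsf]
    rw [eS_mulVec hu hE, h3]
    have hvf : hB n σ v f = σ d := by rw [hd, hH.symm]
    simp only [map_sub, map_smulₛₗ, LinearMap.sub_apply, LinearMap.smul_apply, smul_eq_mul, RingHom.id_apply, hvf]
    match_scalars <;> ring

/-- Elements trivial on the flag have order dividing p^2. -/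
theorem flagFix_pow (p : ℕ) [Fact p.Prime] [CharP F p] (hn : 0 < n) {e : Vn n F} {s : Su n F q}
    (hs : s ∈ flagFix σ e) : s ^ p ^ 2 = 1 := by
  haveI : Nonempty (Fin n) := ⟨⟨0, hn⟩⟩
  set N := mat s - 1 with hN
  have hNx : ∀ x, N *ᵥ x = mat s *ᵥ x - x := fun x => by rw [hN, Matrix.sub_mulVec, Matrix.one_mulVec]
  have h3 : N ^ 3 = 0 := by
    refine Matrix.ext_of_mulVec_single fun i => ?_
    rw [Matrix.zero_mulVec]
    set x : Vn n F := Pi.single i 1
    rw [show N ^ 3 = N * (N * N) by rw [pow_succ', pow_two], ← Matrix.mulVec_mulVec, ← Matrix.mulVec_mulVec]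
    have h1 : hB n σ e (N *ᵥ x) = 0 := by
      rw [hNx, map_sub]
      nth_rewrite 1 [← hs.1]
      rw [hB_mat hu, sub_self]
    obtain ⟨a, ha⟩ := hs.2 _ h1
    rw [hNx (N *ᵥ x), ha, add_sub_cancel_left, Matrix.mulVec_smul, hNx, hs.1, sub_self, smul_zero]
  have hp2 : 3 ≤ p ^ 2 := by
    have := (Fact.out : p.Prime).two_le
    nlinarith
  refine su_ext ?_
  show (((s ^ p ^ 2 : Su n F q) : Matrix.SpecialLinearGroup (Fin n) F) : Matrix (Fin n) (Fin n) F) = 1
  rw [SubmonoidClass.coe_pow, Matrix.SpecialLinearGroup.coe_pow,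
    show ((s : Matrix.SpecialLinearGroup (Fin n) F) : Matrix (Fin n) (Fin n) F) = N + 1 by rw [hN, sub_add_cancel],
    add_pow_char_pow_of_commute p 2 (Commute.one_right N), one_pow, pow_eq_zero_of_le hp2 h3, zero_add]

theorem eS_pow (p : ℕ) [Fact p.Prime] [CharP F p] (hn : 0 < n) {e a : Vn n F} {d : F} (h : IsE σ e a d) :
    eS hu e a d ^ p ^ 2 = 1 := flagFix_pow hu p hn (eS_mem_flagFix hu h)

end Cfsg.Agent.AutPSU
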