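import Cfsg.Agent.AutPSU.BalanceBase
import Cfsg.Agent.AutPSL.RealFix

/-!
The witness for involutory outer automorphisms of PSU_n in odd characteristic.
-/

set_option autoImplicit false

namespace Cfsg.Agent.AutPSU

open Matrix Classical.Herm Module QuadraticMap

section Real

variable {n q : ℕ} {F : Type*} [Field F] [Fintype F] {σ : F →+* F}

/-- The transport of matrices over the fixed field by the real structure. -/
noncomputable def psi (σ : F →+* F) (hh : GL (Fin n) F) : GL (Fin n) (fixField σ) →* GL (Fin n) F :=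
  (MulAut.conj hh).toMonoidHom.comp (Matrix.GeneralLinearGroup.map (fixField σ).subtype)

theorem psi_apply (hh : GL (Fin n) F) (e : GL (Fin n) (fixField σ)) :
    psi σ hh e = hh * Matrix.GeneralLinearGroup.map (fixField σ).subtype e * hh⁻¹ := rfl

/-- A scalar matrix. -/
abbrev sc (n : ℕ) (a : Fˣ) : GL (Fin n) F := Matrix.GeneralLinearGroup.scalar (Fin n) a

variable (hu : UCtx σ q) {σe : F ≃+* F} (hσe : ∀ x, σe x = σ x) {hh : GL (Fin n) F}
  {J : Matrix (Fin n) (Fin n) (fixField σ)} {k : F} (hk : k ≠ 0)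
  (hJ : J.map (fixField σ).subtype = k • (sd σ (gmat hh) * gmat hh))
include hu hk hJ

omit [Fintype F] in
theorem sd_fix (M : Matrix (Fin n) (Fin n) (fixField σ)) :
    sd σ (M.map (fixField σ).subtype) = (M.map (fixField σ).subtype)ᵀ :=
  Matrix.ext fun a b => (M b a).2

omit [Fintype F] in
theorem sd_sq (e : GL (Fin n) (fixField σ)) :
    k • (sd σ (gmat (psi σ hh e)) * gmat (psi σ hh e)) = sd σ (gmat hh⁻¹) *
      ((gmat e)ᵀ * J * gmat e).map (fixField σ).subtype * gmat hh⁻¹ := by
  set E := (gmat e).map (fixField σ).subtype with hE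
  have h0 : gmat (psi σ hh e) = gmat hh * E * gmat hh⁻¹ := rfl
  rw [h0, sd_mul, sd_mul, Matrix.map_mul, Matrix.map_mul, ← hE, hJ, hE, sd_fix hu hk hJ, ← hE]
  simp only [hE, Matrix.smul_mul, Matrix.mul_smul, Matrix.mul_assoc, Matrix.transpose_map]

theorem psi_mem {e : GL (Fin n) (fixField σ)} (he : (gmat e)ᵀ * J * gmat e = J) : psi σ hh e ∈ Cfsg.GU n F q := by
  refine mem_GU_of_sd hu (smul_right_injective _ hk ?_)
  show k • _ = k • (1 : Matrix (Fin n) (Fin n) F)
  rw [sd_sq hu hk hJ, he, hJ, Matrix.mul_smul, Matrix.smul_mul]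
  congr 1
  rw [← Matrix.mul_assoc (sd σ (gmat hh⁻¹)), ← sd_mul, show gmat hh * gmat hh⁻¹ = 1 from Units.mul_inv hh,
    Matrix.mul_assoc, show gmat hh * gmat hh⁻¹ = 1 from Units.mul_inv hh, Matrix.mul_one, sd,
    Matrix.map_one σ (map_zero σ) (map_one σ), Matrix.transpose_one]

/-- An element of the unitary group coming from the fixed field is a similitude. -/
theorem sim_of_mem {e : GL (Fin n) (fixField σ)} {b : Fˣ} {u : Cfsg.GU n F q} (h : u.1 = sc n b * psi σ hh e) :
    ∃ μ : fixField σ, μ ≠ 0 ∧ (gmat e)ᵀ * J * gmat e = μ • J := by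
  have hb : σ (b : F) * b ≠ 0 := mul_ne_zero ((map_ne_zero σ).2 b.ne_zero) b.ne_zero
  have h1 : gmat u.1 = (b : F) • gmat (psi σ hh e) := by
    rw [h]
    show Matrix.scalar (Fin n) (b : F) * _ = _
    rw [Matrix.scalar_apply, ← Matrix.smul_one_eq_diagonal, Matrix.smul_mul, Matrix.one_mul]
  have h2 := sd_mul_gmat hu u
  rw [h1, sd_smul, Matrix.smul_mul, Matrix.mul_smul, smul_smul] at h2
  set μ : fixField σ := ⟨(σ (b : F) * b)⁻¹, show σ _ = (σ (b : F) * b)⁻¹ by rw [map_inv₀, map_mul, hu.invol, mul_comm]⟩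
  refine ⟨μ, fun h0 => inv_ne_zero hb (congrArg Subtype.val h0), Matrix.map_injective Subtype.val_injective ?_⟩
  have h3 : sd σ (gmat (psi σ hh e)) * gmat (psi σ hh e) = (μ : F) • (1 : Matrix (Fin n) (Fin n) F) := by
    rw [← h2, smul_smul, inv_mul_cancel₀ hb, one_smul]
  have h4 := sd_sq hu hk hJ e
  rw [h3] at h4
  have e1 : gmat hh⁻¹ * gmat hh = 1 := Units.inv_mul hh
  have e2 : sd σ (gmat hh) * sd σ (gmat hh⁻¹) = 1 := by
    rw [← sd_mul, e1, sd, Matrix.map_one σ (map_zero σ) (map_one σ), Matrix.transpose_one]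
  show ((gmat e)ᵀ * J * gmat e).map (fixField σ).subtype = (μ • J).map (fixField σ).subtype
  calc ((gmat e)ᵀ * J * gmat e).map (fixField σ).subtype
      = sd σ (gmat hh) * (sd σ (gmat hh⁻¹) * ((gmat e)ᵀ * J * gmat e).map (fixField σ).subtype * gmat hh⁻¹) *
          gmat hh := by
        rw [← Matrix.mul_assoc (sd σ (gmat hh)), ← Matrix.mul_assoc (sd σ (gmat hh)), e2, Matrix.one_mul,
          Matrix.mul_assoc _ (gmat hh⁻¹) (gmat hh), e1, Matrix.mul_one]
    _ = (μ : F) • (k • (sd σ (gmat hh) * gmat hh)) := by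
        rw [← h4, smul_smul, smul_smul, Matrix.mul_smul, Matrix.smul_mul, Matrix.mul_one, mul_comm]
    _ = _ := by
        rw [← hJ]
        exact Matrix.ext fun _ _ => rfl

variable {g : Cfsg.GU n F q} {a : Fˣ} (hg : g.1 = sc n a * (hh * (AutPSL.fieldGL σe hh)⁻¹))
include hσe hg

omit hu hk hJ in
theorem field_psi (e : GL (Fin n) (fixField σ)) :
    g.1 * AutPSL.fieldGL σe (psi σ hh e) = psi σ hh e * g.1 := by
  have h1 : AutPSL.fieldGL σe (Matrix.GeneralLinearGroup.map (fixField σ).subtype e) =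
      Matrix.GeneralLinearGroup.map (fixField σ).subtype e :=
    Units.ext (Matrix.ext fun u v => (hσe _).trans (gmat e u v).2)
  rw [psi_apply, map_mul, map_mul, map_inv, h1, hg]
  set M := Matrix.GeneralLinearGroup.map (fixField σ).subtype e
  set S := AutPSL.fieldGL σe hh
  calc sc n a * (hh * S⁻¹) * (S * M * S⁻¹) = sc n a * (hh * M * hh⁻¹) * (hh * S⁻¹) := by group
    _ = hh * M * hh⁻¹ * sc n a * (hh * S⁻¹) := by rw [AutPSL.scalar_comm a (hh * M * hh⁻¹)]
    _ = hh * M * hh⁻¹ * (sc n a * (hh * S⁻¹)) := by group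

variable (r : ℕ) [Fact r.Prime] [CharP F r] (hn : 3 ≤ n)
include r hn

theorem psi_commute {u : Cfsg.GU n F q} {b : Fˣ} {e : GL (Fin n) (fixField σ)} (h : u.1 = psi σ hh e) :
    conjA u * (conjA g * fieldA σe) = conjA g * fieldA σe * conjA u := by
  have h1 : g * fieldGU σe u = u * g := Subtype.ext (by
    show g.1 * AutPSL.fieldGL σe u.1 = u.1 * g.1
    rw [h]
    exact field_psi hσe hg e)
  rw [mul_assoc (conjA g), conjA_field, ← mul_assoc, ← mul_assoc, ← map_mul, ← map_mul, h1]

/-- What commutes with the involution comes from the fixed field. -/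
theorem exists_real {u : Cfsg.GU n F q} (hc : conjA u * (conjA g * fieldA σe) = conjA g * fieldA σe * conjA u) :
    ∃ (b : Fˣ) (e : GL (Fin n) (fixField σ)), u.1 = sc n b * psi σ hh e := by
  rw [mul_assoc (conjA g), conjA_field, ← mul_assoc, ← mul_assoc, ← map_mul, ← map_mul, mul_left_inj] at hc
  have h1 : ((u * g)⁻¹ * (g * fieldGU σe u) : Cfsg.GU n F q).1 ∈ Geo.scalars (Fin n) F :=
    (conjA_eq_one_iff hu r hn).1 (by rw [map_mul, map_inv, ← hc, inv_mul_cancel])
  obtain ⟨d, hd⟩ := h1
  have hd' : g.1 * AutPSL.fieldGL σe u.1 = u.1 * g.1 * sc n d :=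
    inv_mul_eq_iff_eq_mul.1 (show (u.1 * g.1)⁻¹ * (g.1 * AutPSL.fieldGL σe u.1) = sc n d from hd.symm)
  set E := hh⁻¹ * u.1 * hh with hE
  have hu1 : u.1 = hh * E * hh⁻¹ := by rw [hE]; group
  have hE1 : AutPSL.fieldGL σe E = sc n d * E := by
    rw [hu1, hg, map_mul, map_mul, map_inv] at hd'
    simp only [mul_assoc, inv_mul_cancel_left] at hd'
    rw [← mul_assoc (sc n a), AutPSL.scalar_comm a hh] at hd'
    simp only [mul_assoc] at hd'
    have h2 := mul_left_cancel hd'
    rw [← mul_assoc hh⁻¹, ← AutPSL.scalar_comm a, mul_assoc (sc n a) hh⁻¹] at h2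
    simp only [mul_assoc, inv_mul_cancel_left] at h2
    rw [← mul_assoc E (sc n a), ← AutPSL.scalar_comm a E, mul_assoc (sc n a)] at h2
    have h3 := mul_left_cancel h2
    rw [← AutPSL.scalar_comm d] at h3
    simp only [← mul_assoc] at h3
    have h4 := mul_right_cancel h3
    rw [h4, ← AutPSL.scalar_comm d E]
  have hent : ∀ s t, σ (gmat E s t) = (d : F) * gmat E s t := fun s t => by
    rw [← hσe]
    have h5 := congrFun (congrFun (congrArg gmat hE1) s) t
    refine h5.trans ?_
    show (Matrix.scalar (Fin n) (d : F) * gmat E) s t = _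
    rw [Matrix.scalar_apply, Matrix.diagonal_mul]
  obtain ⟨s₀, t₀, hne⟩ : ∃ s t, gmat E s t ≠ 0 := by
    by_contra hcc
    push Not at hcc
    exact Matrix.GeneralLinearGroup.det_ne_zero E (Matrix.det_eq_zero_of_row_eq_zero ⟨0, by omega⟩ (hcc _))
  have hN : σ (d : F) * d = 1 := by
    have h5 := hent s₀ t₀
    have h6 := congrArg σ h5
    rw [hu.invol, map_mul, h5, ← mul_assoc] at h6
    exact mul_right_cancel₀ hne (h6.symm.trans (one_mul _).symm)
  have hσo : orderOf σe = 2 := by
    refine orderOf_eq_prime (RingEquiv.ext fun x => ?_) fun h0 => ?_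
    · rw [pow_two, RingAut.mul_apply, hσe, hσe, hu.invol, RingAut.one_apply]
    · obtain ⟨x, hx⟩ := exists_moved hu.toIsInvol
      exact hx (by rw [← hσe, h0, RingAut.one_apply])
  obtain ⟨c, hc'⟩ := AutPSL.hilbert90_units hσo two_pos (c := d) (by
    rw [Finset.prod_range_succ, Finset.prod_range_one, pow_zero, pow_one, RingAut.one_apply, hσe, mul_comm]
    exact hN)
  rw [hσe] at hc'
  have hfix : ∀ s t, σ ((c : F) * gmat E s t) = (c : F) * gmat E s t := fun s t => by
    rw [map_mul, hent, ← mul_assoc, mul_comm (σ _) (d : F), hc']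
  let M : Matrix (Fin n) (Fin n) (fixField σ) := Matrix.of fun s t => ⟨_, hfix s t⟩
  have hM : M.map (fixField σ).subtype = gmat (sc n c * E) := Matrix.ext fun s t => by
    show (c : F) * gmat E s t = (Matrix.scalar (Fin n) (c : F) * gmat E) s t
    rw [Matrix.scalar_apply, Matrix.diagonal_mul]
  have hdet : M.det ≠ 0 := fun h0 => Matrix.GeneralLinearGroup.det_ne_zero (sc n c * E) (by
    show (gmat (sc n c * E)).det = 0
    rw [← hM, ← RingHom.mapMatrix_apply, ← RingHom.map_det, h0, map_zero])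
  refine ⟨c⁻¹, Matrix.GeneralLinearGroup.mkOfDetNeZero M hdet, ?_⟩
  rw [psi_apply, show Matrix.GeneralLinearGroup.map (fixField σ).subtype (Matrix.GeneralLinearGroup.mkOfDetNeZero M hdet) =
    sc n c * E from Units.ext hM, hu1, ← mul_assoc hh (sc n c), ← AutPSL.scalar_comm c hh]
  simp only [← mul_assoc]
  rw [← map_mul, inv_mul_cancel, map_one, one_mul]

variable (hs : ¬ (n = 3 ∧ q = 2))
include hs

set_option maxHeartbeats 1000000 in
/-- Whatever centralises the real isometries is a power of the involution. -/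
theorem mem_zpowers_of_fix (y : MulAut (Cfsg.PSU n F q))
    (key : ∀ (A : GL (Fin n) F) (ω : F ≃+* F),
      (∀ e : GL (Fin n) (fixField σ), (gmat e)ᵀ * J * gmat e = J → e ^ r = 1 →
        ∀ z, AutPSL.sT A ω ((gmat e).map (fixField σ).subtype *ᵥ z) =
          (gmat e).map (fixField σ).subtype *ᵥ AutPSL.sT A ω z) →
      A ∈ Subgroup.center (GL (Fin n) F) ∧ ∀ t : fixField σ, ω t = t)
    (hy : ∀ u : Cfsg.GU n F q, u ^ r = 1 → (∃ e, (gmat e)ᵀ * J * gmat e = J ∧ u.1 = psi σ hh e) →
      y * conjA u = conjA u * y) :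
    y ∈ Subgroup.zpowers (conjA g * fieldA σe : MulAut (Cfsg.PSU n F q)) := by
  obtain ⟨a', ω, rfl⟩ := exists_decomp hu r hn hs y
  obtain ⟨hA, hω⟩ := key (hh⁻¹ * a'.1 * AutPSL.fieldGL ω hh) ω fun e he her z => by
    set u : Cfsg.GU n F q := ⟨psi σ hh e, psi_mem hu hk hJ he⟩
    have hur : u ^ r = 1 := Subtype.ext (by
      rw [SubgroupClass.coe_pow]
      show psi σ hh e ^ r = 1
      rw [← map_pow, her, map_one])
    have h1 := semi_commute hu r hn hur (hy u hur ⟨e, he, rfl⟩)
    have h2 : hh⁻¹ * a'.1 * AutPSL.fieldGL ω hh *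
        AutPSL.fieldGL ω (Matrix.GeneralLinearGroup.map (fixField σ).subtype e) =
        Matrix.GeneralLinearGroup.map (fixField σ).subtype e * (hh⁻¹ * a'.1 * AutPSL.fieldGL ω hh) := by
      have h3 : a'.1 * AutPSL.fieldGL ω (psi σ hh e) = psi σ hh e * a'.1 := Units.ext h1
      rw [psi_apply, map_mul, map_mul, map_inv] at h3
      simp only [← mul_assoc] at h3 ⊢
      rw [mul_inv_eq_iff_eq_mul] at h3
      simp only [mul_assoc] at h3 ⊢
      rw [h3]
      group
    have h4 := congrArg (fun G : GL (Fin n) F => gmat G *ᵥ fun j => ω (z j)) h2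
    have e1 : (fun j => ω (((gmat e).map (fixField σ).subtype *ᵥ z) j)) =
        ((gmat e).map (fixField σ).subtype).map ω *ᵥ fun j => ω (z j) :=
      funext fun j => RingHom.map_mulVec (ω : F →+* F) _ _ j
    simp only [AutPSL.sT, e1, Matrix.mulVec_mulVec]
    exact h4
  obtain ⟨k', hk'⟩ := LocalBalance.mem_zpowers_of_fix (σ := σe) (τ := ω) fun x hx => hω ⟨x, (hσe x).symm.trans hx⟩
  have hmain : (ω = 1 ∨ ω = σe) → conjA a' * fieldA ω ∈
      Subgroup.zpowers (conjA g * fieldA σe : MulAut (Cfsg.PSU n F q)) := by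
    rintro (h0 | h0) <;> rw [h0] at hA ⊢
    · rw [AutPSL.fieldGL_one] at hA
      have ha' : a'.1 ∈ Subgroup.center (GL (Fin n) F) := by
        have := (Subgroup.Normal.conj_mem inferInstance _ hA hh)
        simpa [mul_assoc] using this
      rw [conjA_of_scalar (g := a') hu (by omega) (by rw [AutPSL.scalars_eq_center]; exact ha'), map_one, mul_one]
      exact one_mem _
    · have ha' : (g⁻¹ * a').1 ∈ Subgroup.center (GL (Fin n) F) := by
        have h1 := Subgroup.mul_mem _ (Subgroup.inv_mem _ (AutPSL.scalar_mem_center a))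
          (Subgroup.Normal.conj_mem inferInstance _ hA (AutPSL.fieldGL σe hh))
        refine (?_ : (g⁻¹ * a').1 = _) ▸ h1
        show g.1⁻¹ * a'.1 = _
        have c := AutPSL.scalar_comm (n := n) a⁻¹ ((hh * (AutPSL.fieldGL σe hh)⁻¹)⁻¹)
        rw [map_inv] at c
        rw [hg, _root_.mul_inv_rev, ← c]
        group
      have h2 : conjA (g⁻¹ * a') = 1 := conjA_of_scalar hu (by omega) (by rw [AutPSL.scalars_eq_center]; exact ha')
      rw [map_mul, map_inv, inv_mul_eq_one] at h2
      rw [← h2]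
      exact Subgroup.mem_zpowers _
  refine hmain ?_
  have h2 : σe ^ (2 : ℤ) = 1 := by
    refine RingEquiv.ext fun x => ?_
    rw [zpow_two, RingAut.mul_apply, hσe, hσe, hu.invol, RingAut.one_apply]
  rcases Int.even_or_odd' k' with ⟨m, rfl | rfl⟩
  · left; rw [← hk']; show σe ^ (2 * m) = 1; rw [_root_.zpow_mul, h2, _root_.one_zpow]
  · right; rw [← hk']; show σe ^ (2 * m + 1) = σe; rw [_root_.zpow_add_one, _root_.zpow_mul, h2, _root_.one_zpow, one_mul]

variable (h2 : (2 : F) ≠ 0)
include h2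

set_option maxHeartbeats 1000000 in
theorem witness_sym (hJd : J.det ≠ 0) (hJT : Jᵀ = J) :
    LocalBalance.Witness 2 (conjA g * fieldA σe : MulAut (Cfsg.PSU n F q)) := by
  classical
  haveI := LocalBalance.finite_mulAut (K := Cfsg.PSU n F q)
  haveI : CharP (fixField σ) r := (RingHom.charP_iff _ (fixField σ).subtype.injective r).2 inferInstance
  have h2K : (2 : fixField σ) ≠ 0 := fun h0 => h2 (by rw [← map_ofNat (fixField σ).subtype 2, h0, map_zero])
  set x := (conjA g * fieldA σe : MulAut (Cfsg.PSU n F q))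
  let Q : QuadraticForm (fixField σ) (Fin n → fixField σ) := LinearMap.BilinMap.toQuadraticMap (Matrix.toBilin' J)
  have hQv : ∀ v, Q v = v ⬝ᵥ J *ᵥ v := fun v => Matrix.toBilin'_apply' J v v
  have hsymm : ∀ u v : Fin n → fixField σ, v ⬝ᵥ J *ᵥ u = u ⬝ᵥ J *ᵥ v := fun u v => by
    rw [Matrix.dotProduct_mulVec, ← Matrix.mulVec_transpose, hJT, dotProduct_comm]
  have hpol : ∀ u v, polar Q u v = 2 * (u ⬝ᵥ J *ᵥ v) := fun u v => by
    rw [QuadraticMap.polar, hQv, hQv, hQv, Matrix.mulVec_add, dotProduct_add, add_dotProduct, add_dotProduct,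
      hsymm u v]
    ring
  have hQ : (polarBilin Q).Nondegenerate := Classical.Quad.nondeg_of fun v hv => by
    refine Matrix.eq_zero_of_mulVec_eq_zero hJd (funext fun i => ?_)
    have h1 := hv (Pi.single i 1)
    rw [hpol, hsymm, single_one_dotProduct] at h1
    exact (mul_eq_zero.1 h1).resolve_left h2K
  have hdim : 3 ≤ finrank (fixField σ) (Fin n → fixField σ) := by rw [Module.finrank_pi, Fintype.card_fin]; exact hn
  have hiso : ∀ e : (Fin n → fixField σ) ≃ₗ[fixField σ] (Fin n → fixField σ), (∀ v, Q (e v) = Q v) →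
      (gmat (AutPSL.glLE.symm e))ᵀ * J * gmat (AutPSL.glLE.symm e) = J := fun e he => by
    refine (AutPSL.sim_iff.1 fun u v => ?_).trans (one_smul _ J)
    rw [AutPSL.glLE_symm_mulVec, AutPSL.glLE_symm_mulVec, one_mul]
    refine mul_left_cancel₀ h2K ?_
    rw [← hpol, ← hpol, QuadraticMap.polar, QuadraticMap.polar, ← map_add e, he, he, he]
  refine LocalBalance.witness_of_core (fun y _ hy => ?_) fun N hN hNc hNn => ?_
  · refine mem_zpowers_of_fix hu hσe hk hJ hg r hn hs y (fun A ω h => ?_) fun u hur ⟨e, he, hue⟩ =>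
      hy _ (inner_of_pow hu r hn hur) (psi_commute (b := a) hu hσe hk hJ hg r hn hue)
    obtain ⟨b, hb⟩ := exists_moved hu.toIsInvol
    refine AutPSL.sym_fix (i := (fixField σ).subtype) (b := b) (fun z => ?_) (fun u v huv => ?_) hJd h2K hn hJT
      fun e he her z => h (AutPSL.glLE.symm e) (hiso e fun v => by rw [hQv, hQv, he]) (by
        rw [← map_pow, ← ringChar.eq (fixField σ) r, her, map_one]) z
    · have hb' : σ b - b ≠ 0 := sub_ne_zero.2 hb
      set v := (σ z - z) / (σ b - b)
      have hv : σ v = v := by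
        rw [map_div₀, map_sub, map_sub, hu.invol, hu.invol, ← neg_sub (σ z) z, ← neg_sub (σ b) b, neg_div_neg_eq]
      have hu' : σ (z - b * v) = z - b * v := by
        rw [map_sub, map_mul, hv]
        have h5 : v * (σ b - b) = σ z - z := div_mul_cancel₀ _ hb'
        linear_combination -h5
      exact ⟨⟨_, hu'⟩, ⟨v, hv⟩, by show z = z - b * v + b * v; ring⟩
    · have h5 := congrArg σ huv
      simp only [map_add, map_mul, map_zero, Subfield.subtype_apply] at h5 huv
      rw [show σ (u : F) = u from u.2, show σ (v : F) = v from v.2] at h5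
      have h6 : (σ b - b) * (v : F) = 0 := by linear_combination h5 - huv
      have h7 : (v : F) = 0 := (mul_eq_zero.1 h6).resolve_left (sub_ne_zero.2 hb)
      exact ⟨Subtype.ext (by rw [h7, mul_zero, add_zero] at huv; exact huv), Subtype.ext h7⟩
  · let P : ((Fin n → fixField σ) ≃ₗ[fixField σ] (Fin n → fixField σ)) → Prop := fun e =>
      ∃ (u : Cfsg.GU n F q) (b : Fˣ), conjA u ∈ N ∧ u.1 = sc n b * psi σ hh (AutPSL.glLE.symm e)
    have hsim : ∀ e, P e → ∃ μ : fixField σ, μ ≠ 0 ∧ ∀ v, Q (e v) = μ * Q v := by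
      rintro e ⟨u, b, -, hue⟩
      obtain ⟨μ, hμ, H⟩ := sim_of_mem hu hk hJ hue
      refine ⟨μ, hμ, fun v => ?_⟩
      have := AutPSL.sim_iff.2 H v v
      rwa [AutPSL.glLE_symm_mulVec, ← hQv, ← hQv] at this
    have key := LocalBalance.scalar_of_reflect hQ h2K hdim hsim (fun e ⟨u, b, huN, hue⟩ v hv => by
      set R := AutPSL.glLE.symm (Classical.Quad.refl hv) with hRd
      set uR : Cfsg.GU n F q := ⟨psi σ hh R, psi_mem hu hk hJ (hiso _ (Classical.Quad.rO hv).2)⟩
      have hR : uR⁻¹ = uR := by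
        refine Subtype.ext ?_
        show (psi σ hh R)⁻¹ = psi σ hh R
        rw [← map_inv, hRd, ← map_inv, show (Classical.Quad.refl hv)⁻¹ = Classical.Quad.refl hv from
          congrArg Subtype.val (Classical.Quad.rO_inv hv)]
      have h1 := hNn (conjA uR) (psi_commute (b := a) hu hσe hk hJ hg r hn rfl) _ huN
      rw [← map_inv, hR] at h1
      refine ⟨uR * u * uR * u⁻¹, 1, ?_, ?_⟩
      · rw [map_mul, map_mul, map_mul, map_inv]
        exact mul_mem h1 (inv_mem huN)
      · show psi σ hh R * u.1 * psi σ hh R * u.1⁻¹ = _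
        simp only [map_mul, map_inv, map_one, one_mul, ← hRd, hue, _root_.mul_inv_rev]
        simp only [mul_assoc]
        congr 1
        rw [← mul_assoc _ (psi σ hh R), ← mul_assoc (sc n b), AutPSL.scalar_comm b, mul_assoc]
        simp only [mul_assoc]
        congr 1
        rw [← mul_assoc (sc n b), AutPSL.scalar_comm b]
        group)
      (fun e ⟨u, b, huN, hue⟩ ⟨c, hc⟩ => by
        have hce : AutPSL.glLE.symm e ^ 2 ∈ Subgroup.center (GL (Fin n) (fixField σ)) := by
          have hc0 : c ≠ 0 := fun h0 => by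
            have := hc (Pi.single ⟨0, by omega⟩ 1)
            rw [h0, zero_smul] at this
            have h' := e.map_eq_zero_iff.1 (e.map_eq_zero_iff.1 this)
            simpa using congrFun h' ⟨0, by omega⟩
          refine AutPSL.center_gl_iff.2 ⟨Units.mk0 c hc0, Matrix.ext_of_mulVec_single fun l => ?_⟩
          rw [Units.val_mk0, Matrix.scalar_apply, ← Matrix.smul_one_eq_diagonal, Matrix.smul_mulVec, Matrix.one_mulVec,
            pow_two, Units.val_mul, ← Matrix.mulVec_mulVec, AutPSL.glLE_symm_mulVec, AutPSL.glLE_symm_mulVec, hc]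
        have hpsiC : ∀ m, m ∈ Subgroup.center (GL (Fin n) (fixField σ)) → psi σ hh m ∈ Subgroup.center (GL (Fin n) F) := by
          intro m hm
          rw [← AutPSL.center_comap_map (by omega) (fixField σ).subtype, Subgroup.mem_comap] at hm
          exact Subgroup.Normal.conj_mem inferInstance _ hm hh
        have hh2 : conjA u ^ 2 = 1 := by
          rw [← map_pow]
          refine conjA_of_scalar hu (by omega) ?_
          rw [AutPSL.scalars_eq_center, SubgroupClass.coe_pow, hue,
            (show Commute (sc n b) (psi σ hh (AutPSL.glLE.symm e)) from AutPSL.scalar_comm b _).mul_pow, ← map_pow (psi σ hh)]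
          exact mul_mem (pow_mem (AutPSL.scalar_mem_center b) 2) (hpsiC _ hce)
        have h1 : conjA u = 1 := orderOf_eq_one_iff.1 (Nat.eq_one_of_dvd_coprimes hNc
          (by rw [← Subgroup.orderOf_mk (conjA u) huN]; exact orderOf_dvd_natCard _) (orderOf_dvd_of_pow_eq_one hh2))
        rw [conjA_eq_one_iff hu r hn, AutPSL.scalars_eq_center, hue] at h1
        have h3 : psi σ hh (AutPSL.glLE.symm e) ∈ Subgroup.center (GL (Fin n) F) := by
          have := mul_mem (inv_mem (AutPSL.scalar_mem_center (n := n) b)) h1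
          rwa [inv_mul_cancel_left] at this
        have h4 := Subgroup.Normal.conj_mem inferInstance _ h3 hh⁻¹
        rw [psi_apply, show hh⁻¹ * (hh * Matrix.GeneralLinearGroup.map (fixField σ).subtype (AutPSL.glLE.symm e) * hh⁻¹) * hh⁻¹⁻¹ =
          Matrix.GeneralLinearGroup.map (fixField σ).subtype (AutPSL.glLE.symm e) by group, ← Subgroup.mem_comap,
          AutPSL.center_comap_map (by omega), AutPSL.center_gl_iff] at h4
        obtain ⟨d, hd⟩ := h4
        refine ⟨d, fun v => ?_⟩
        rw [← AutPSL.glLE_symm_mulVec e v, hd, Matrix.scalar_apply, ← Matrix.smul_one_eq_diagonal, Matrix.smul_mulVec,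
          Matrix.one_mulVec])
    refine (Subgroup.eq_bot_iff_forall N).2 fun z hz => ?_
    have hzi := inn_le_inndiag (n := n) (F := F) (q := q) (Subgroup.mem_inf.1 (hN hz)).1
    rw [inndiagPSU_eq] at hzi
    obtain ⟨u, rfl⟩ := hzi
    obtain ⟨b, e, hue⟩ := exists_real hu hσe hk hJ hg r hn
      (Subgroup.mem_centralizer_singleton_iff.1 (Subgroup.mem_inf.1 (hN hz)).2)
    obtain ⟨d, hd⟩ := key (AutPSL.glLE e) ⟨u, b, hz, by rw [MulEquiv.symm_apply_apply]; exact hue⟩
    have hd0 : d ≠ 0 := fun h0 => by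
      have := hd (Pi.single ⟨0, by omega⟩ 1)
      rw [h0, zero_smul] at this
      simpa using congrFun ((AutPSL.glLE e).map_eq_zero_iff.1 this) ⟨0, by omega⟩
    refine conjA_of_scalar hu (by omega) ?_
    rw [AutPSL.scalars_eq_center, hue]
    refine mul_mem (AutPSL.scalar_mem_center b) (Subgroup.Normal.conj_mem inferInstance _ ?_ hh)
    rw [← Subgroup.mem_comap, AutPSL.center_comap_map (by omega)]
    exact AutPSL.center_gl_iff.2 ⟨Units.mk0 d hd0, Matrix.ext_of_mulVec_single fun l => by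
      rw [← AutPSL.glLE_apply, hd, Units.val_mk0, Matrix.scalar_apply, ← Matrix.smul_one_eq_diagonal, Matrix.smul_mulVec,
        Matrix.one_mulVec]⟩

set_option maxHeartbeats 1000000 in
theorem witness_alt (hJd : J.det ≠ 0) (hn4 : 4 ≤ n) (hJT : Jᵀ = -J) :
    LocalBalance.Witness 2 (conjA g * fieldA σe : MulAut (Cfsg.PSU n F q)) := by
  classical
  haveI := LocalBalance.finite_mulAut (K := Cfsg.PSU n F q)
  haveI : NeZero n := ⟨by omega⟩
  haveI : CharP (fixField σ) r := (RingHom.charP_iff _ (fixField σ).subtype.injective r).2 inferInstance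
  haveI : Finite ((Fin n → fixField σ) ≃ₗ[fixField σ] (Fin n → fixField σ)) :=
    Finite.of_equiv _ (AutPSL.glLE (n := n) (F := fixField σ)).toEquiv
  have h2K : (2 : fixField σ) ≠ 0 := fun h0 => h2 (by rw [← map_ofNat (fixField σ).subtype 2, h0, map_zero])
  set x := (conjA g * fieldA σe : MulAut (Cfsg.PSU n F q))
  let B : LinearMap.BilinForm (fixField σ) (Fin n → fixField σ) := Matrix.toBilin' J
  have hBv : ∀ u v, B u v = u ⬝ᵥ J *ᵥ v := fun u v => Matrix.toBilin'_apply' J u v
  have hA : B.IsAlt := fun v => by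
    have h1 : v ⬝ᵥ J *ᵥ v = -(v ⬝ᵥ J *ᵥ v) := by
      conv_lhs => rw [Matrix.dotProduct_mulVec, ← Matrix.mulVec_transpose, hJT, dotProduct_comm, Matrix.neg_mulVec,
        dotProduct_neg]
    rw [hBv]
    exact (mul_eq_zero.1 (show (2 : fixField σ) * (v ⬝ᵥ J *ᵥ v) = 0 by linear_combination h1)).resolve_left h2K
  have hB : B.Nondegenerate := Matrix.Nondegenerate.toBilin' (Matrix.nondegenerate_of_det_ne_zero hJd)
  have hdim : 4 ≤ finrank (fixField σ) (Fin n → fixField σ) := by rw [Module.finrank_pi, Fintype.card_fin]; exact hn4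
  have hperf := Classical.Alt.commutator_isoGroup hA hB (Or.inr (Or.inl ⟨h2K, hdim⟩))
  have hiso : ∀ e ∈ Classical.Alt.isoGroup B,
      (gmat (AutPSL.glLE.symm e))ᵀ * J * gmat (AutPSL.glLE.symm e) = J := fun e he => by
    refine (AutPSL.sim_iff.1 fun u v => ?_).trans (one_smul _ J)
    rw [AutPSL.glLE_symm_mulVec, AutPSL.glLE_symm_mulVec, one_mul, ← hBv, ← hBv]
    exact he u v
  let φ1 : Classical.Alt.isoGroup B →* GL (Fin n) F :=
    ((psi σ hh).comp (AutPSL.glLE (n := n) (F := fixField σ)).symm.toMonoidHom).comp (Classical.Alt.isoGroup B).subtype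
  let φ0 : Classical.Alt.isoGroup B →* Cfsg.GU n F q :=
    φ1.codRestrict _ fun e => psi_mem hu hk hJ (hiso e.1 e.2)
  let φ : Classical.Alt.isoGroup B →* MulAut (Cfsg.PSU n F q) := conjA.comp φ0
  have hφ : ∀ e, φ e = conjA (φ0 e) := fun e => rfl
  have hφ0 : ∀ e, (φ0 e).1 = psi σ hh (AutPSL.glLE.symm e.1) := fun e => rfl
  have hinn : ∀ e, φ e ∈ LocalBalance.innR (Cfsg.PSU n F q) := fun e => by
    have hd : (gmat (φ0 e).1).det = 1 := by
      have he : e ∈ commutator (Classical.Alt.isoGroup B) := hperf ▸ Subgroup.mem_top e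
      have := Abelianization.commutator_subset_ker
        (Matrix.GeneralLinearGroup.det.comp ((Cfsg.GU n F q).subtype.comp φ0)) he
      exact congrArg Units.val this
    obtain ⟨t, ht⟩ := exists_su_of_gu hu (φ0 e) hd
    refine ⟨mkU t, ?_⟩
    rw [← conjA_suToGU]
    exact congrArg conjA (Subtype.ext (Units.ext ht))
  have hcomm : ∀ e, φ e * x = x * φ e := fun e => psi_commute (b := a) hu hσe hk hJ hg r hn (hφ0 e)
  refine LocalBalance.witness_of_hom φ (N := Subgroup.center _) ?_ (fun M hM hc => ?_) hinn hcomm ?_ ?_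
  · ext e
    rw [MonoidHom.mem_ker, hφ, conjA_eq_one_iff hu r hn, AutPSL.scalars_eq_center, hφ0]
    constructor
    · intro h1
      have h4 := Subgroup.Normal.conj_mem inferInstance _ h1 hh⁻¹
      rw [psi_apply, show hh⁻¹ * (hh * Matrix.GeneralLinearGroup.map (fixField σ).subtype (AutPSL.glLE.symm e.1) * hh⁻¹) * hh⁻¹⁻¹ =
        Matrix.GeneralLinearGroup.map (fixField σ).subtype (AutPSL.glLE.symm e.1) by group, ← Subgroup.mem_comap,
        AutPSL.center_comap_map (by omega), AutPSL.center_gl_iff] at h4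
      obtain ⟨c, hc⟩ := h4
      have hev : ∀ v, e.1 v = (c : fixField σ) • v := fun v => by
        rw [← AutPSL.glLE_symm_mulVec e.1 v, hc, Matrix.scalar_apply, ← Matrix.smul_one_eq_diagonal,
          Matrix.smul_mulVec, Matrix.one_mulVec]
      refine Subgroup.mem_center_iff.2 fun d => Subtype.ext (LinearEquiv.ext fun v => ?_)
      show d.1 (e.1 v) = e.1 (d.1 v)
      rw [hev, hev, map_smul]
    · intro he
      obtain ⟨c, hc⟩ := Classical.Alt.scalar_of_center hA hB he
      have hc0 : c ≠ 0 := fun h0 => by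
        have := hc (Pi.single 0 1)
        rw [h0, zero_smul] at this
        simpa using congrFun (e.1.map_eq_zero_iff.1 this) 0
      refine Subgroup.Normal.conj_mem inferInstance _ ?_ hh
      rw [← Subgroup.mem_comap, AutPSL.center_comap_map (by omega)]
      exact AutPSL.center_gl_iff.2 ⟨Units.mk0 c hc0, Matrix.ext_of_mulVec_single fun l => by
        rw [AutPSL.glLE_symm_mulVec, hc, Units.val_mk0, Matrix.scalar_apply, ← Matrix.smul_one_eq_diagonal,
          Matrix.smul_mulVec, Matrix.one_mulVec]⟩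
  · haveI := Classical.Alt.isSimpleGroup_quot_center hA hB hperf
    refine LocalBalance.core_of_simple Nat.prime_two ?_ M hM hc
    exact AutPSL.two_dvd_iso_quot hA hB h2K hdim
  · intro y hy hyx e
    have hyi := inn_le_inndiag (n := n) (F := F) (q := q) hy
    rw [inndiagPSU_eq] at hyi
    obtain ⟨u, rfl⟩ := hyi
    obtain ⟨b, e0, hue⟩ := exists_real hu hσe hk hJ hg r hn hyx
    obtain ⟨μ, hμ, H⟩ := sim_of_mem hu hk hJ hue
    have hmem : AutPSL.glLE e0 * e.1 * (AutPSL.glLE e0)⁻¹ ∈ Classical.Alt.isoGroup B := fun u v => by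
      have key : ∀ u v, B (AutPSL.glLE e0 u) (AutPSL.glLE e0 v) = μ * B u v := fun u v => by
        rw [hBv, hBv, AutPSL.glLE_apply, AutPSL.glLE_apply]; exact AutPSL.sim_iff.2 H u v
      show B (AutPSL.glLE e0 (e.1 ((AutPSL.glLE e0).symm u))) (AutPSL.glLE e0 (e.1 ((AutPSL.glLE e0).symm v))) = B u v
      rw [key, e.2, ← key, LinearEquiv.apply_symm_apply, LinearEquiv.apply_symm_apply]
    refine ⟨⟨_, hmem⟩, ?_⟩
    rw [hφ, hφ, ← map_inv conjA u, ← map_mul conjA, ← map_mul conjA]
    refine congrArg conjA (Subtype.ext ?_)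
    show (φ0 ⟨_, hmem⟩).1 = u.1 * (φ0 e).1 * u.1⁻¹
    simp only [hφ0, hue, map_mul, map_inv, MulEquiv.symm_apply_apply, _root_.mul_inv_rev]
    simp only [← mul_assoc]
    rw [show sc n b * psi σ hh e0 * psi σ hh (AutPSL.glLE.symm e.1) * (psi σ hh e0)⁻¹ =
      psi σ hh e0 * psi σ hh (AutPSL.glLE.symm e.1) * (psi σ hh e0)⁻¹ * sc n b by
        rw [← AutPSL.scalar_comm]; group, mul_inv_cancel_right]
  · intro y _ hy
    refine mem_zpowers_of_fix hu hσe hk hJ hg r hn hs y (fun A ω h => ?_) fun u hur ⟨e, he, hue⟩ => ?_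
    · obtain ⟨b, hb⟩ := exists_moved hu.toIsInvol
      refine AutPSL.alt_fix (i := (fixField σ).subtype) (b := b) (fun z => ?_) (fun u v huv => ?_) hJd h2K (by omega) hA
        fun e he her z => h (AutPSL.glLE.symm e) (hiso e he) (by
          rw [← map_pow, ← ringChar.eq (fixField σ) r, her, map_one]) z
      · have hb' : σ b - b ≠ 0 := sub_ne_zero.2 hb
        set v := (σ z - z) / (σ b - b)
        have hv : σ v = v := by
          rw [map_div₀, map_sub, map_sub, hu.invol, hu.invol, ← neg_sub (σ z) z, ← neg_sub (σ b) b, neg_div_neg_eq]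
        have hu' : σ (z - b * v) = z - b * v := by
          rw [map_sub, map_mul, hv]
          have h5 : v * (σ b - b) = σ z - z := div_mul_cancel₀ _ hb'
          linear_combination -h5
        exact ⟨⟨_, hu'⟩, ⟨v, hv⟩, by show z = z - b * v + b * v; ring⟩
      · have h5 := congrArg σ huv
        simp only [map_add, map_mul, map_zero, Subfield.subtype_apply] at h5 huv
        rw [show σ (u : F) = u from u.2, show σ (v : F) = v from v.2] at h5
        have h6 : (σ b - b) * (v : F) = 0 := by linear_combination h5 - huv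
        have h7 : (v : F) = 0 := (mul_eq_zero.1 h6).resolve_left (sub_ne_zero.2 hb)
        exact ⟨Subtype.ext (by rw [h7, mul_zero, add_zero] at huv; exact huv), Subtype.ext h7⟩
    · have hmem : AutPSL.glLE e ∈ Classical.Alt.isoGroup B := fun v w => by
        rw [hBv, hBv, AutPSL.glLE_apply, AutPSL.glLE_apply, AutPSL.sim_iff.2 (he.trans (one_smul _ J).symm), one_mul]
      have : u = φ0 ⟨_, hmem⟩ := Subtype.ext (by rw [hφ0, hue, MulEquiv.symm_apply_apply])
      rw [this]
      exact hy _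

end Real

end Cfsg.Agent.AutPSU
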