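import Cfsg.Agent.AutPSU.BalanceField
import Cfsg.Agent.AutPSU.BalanceReal

/-!
The criterion for failure of local balance in almost simple groups with unitary socle.
-/

set_option autoImplicit false

namespace Cfsg.Agent.AutPSU

open Matrix Classical.Herm

set_option maxHeartbeats 1000000 in
theorem witness_two {n q : ℕ} {F : Type*} [Field F] [Fintype F] {σ : F →+* F} (hu : UCtx σ q) (r : ℕ)
    [Fact r.Prime] [CharP F r] (hn : 3 ≤ n) (hs : ¬ (n = 3 ∧ q = 2)) (h2 : (2 : F) ≠ 0) {τ : F ≃+* F}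
    (hτ : ∀ x, τ x = σ x) {g : Cfsg.GU n F q} (hτo : orderOf τ = 2) (hg : AutPSL.twN τ g.1 2 ∈ Subgroup.center (GL (Fin n) F)) :
    LocalBalance.Witness 2 (conjA g * fieldA τ : MulAut (Cfsg.PSU n F q)) := by
  classical
  obtain ⟨a, k, hk⟩ := AutPSL.exists_coboundary (by omega) hτo g.1 hg
  have hkτ : gmat g.1 * (gmat k).map σ = (a : F) • gmat k := by
    have h : g.1 * AutPSL.fieldGL τ k = Matrix.GeneralLinearGroup.scalar (Fin n) a * k := by
      rw [hk, mul_assoc, inv_mul_cancel_right]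
    have h' : gmat g.1 * (gmat k).map τ = Matrix.scalar (Fin n) (a : F) * gmat k := congrArg Units.val h
    rw [show (gmat k).map τ = (gmat k).map σ from Matrix.ext fun i j => hτ _] at h'
    rw [h', Matrix.scalar_apply, ← Matrix.smul_one_eq_diagonal, Matrix.smul_mul, Matrix.one_mul]
  set ν : F := σ a * a with hν
  set G := sd σ (gmat k) * gmat k with hGd
  have hsdmap : ∀ M : Matrix (Fin n) (Fin n) F, sd σ (M.map σ) = (sd σ M).map σ := fun M => rfl
  have hGσ : G.map σ = ν • G := by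
    have h1 : sd σ (gmat g.1 * (gmat k).map σ) * (gmat g.1 * (gmat k).map σ) = G.map σ := by
      rw [sd_mul, Matrix.mul_assoc, ← Matrix.mul_assoc (sd σ (gmat g.1)), sd_mul_gmat hu, Matrix.one_mul, hsdmap,
        hGd, ← Matrix.map_mul]
    rw [← h1, hkτ, sd_smul, Matrix.smul_mul, Matrix.mul_smul, smul_smul]
  have hGT : Gᵀ = G.map σ := by
    have h1 : sd σ G = G := by rw [hGd, sd_mul, sd_sd hu]
    conv_lhs => rw [← h1, sd, Matrix.transpose_transpose]
  have hGdet : G.det ≠ 0 := by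
    rw [hGd, Matrix.det_mul, sd, Matrix.det_transpose, ← RingHom.mapMatrix_apply, ← RingHom.map_det]
    exact mul_ne_zero ((map_ne_zero σ).2 (Matrix.GeneralLinearGroup.det_ne_zero k))
      (Matrix.GeneralLinearGroup.det_ne_zero k)
  have hGij : ∀ i j, σ (G i j) = ν * G i j := fun i j => congrFun (congrFun hGσ i) j
  obtain ⟨i₀, j₀, hne⟩ : ∃ i j, G i j ≠ 0 := by
    by_contra hc
    push Not at hc
    exact hGdet (Matrix.det_eq_zero_of_row_eq_zero ⟨0, by omega⟩ (hc _))
  have hνσ : σ ν = ν := by rw [hν, map_mul, hu.invol, mul_comm]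
  have hνν : ν * ν = 1 := by
    have h1 := congrArg σ (hGij i₀ j₀)
    rw [hu.invol, map_mul, hνσ, hGij, ← mul_assoc] at h1
    exact mul_right_cancel₀ hne (h1.symm.trans (one_mul _).symm)
  rcases mul_self_eq_one_iff.1 hνν with h1 | h1
  · let J : Matrix (Fin n) (Fin n) (fixField σ) :=
      Matrix.of fun i j => ⟨G i j, show σ _ = G i j by rw [hGij, h1, one_mul]⟩
    have hJ : J.map (fixField σ).subtype = (1 : F) • G := by rw [one_smul]; rfl
    refine witness_sym hu hτ one_ne_zero hJ hk r hn hs h2 (fun h0 => hGdet ?_) (Matrix.ext fun i j => Subtype.ext ?_)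
    · have := congrArg (fixField σ).subtype h0
      rw [RingHom.map_det, RingHom.mapMatrix_apply, hJ, one_smul, map_zero] at this
      exact this
    · show G j i = G i j
      have := congrFun (congrFun hGT i) j
      rw [hGσ, h1, one_smul] at this
      exact this
  · obtain ⟨κ, hκ0, hκ⟩ := skew_exists hu
    let J : Matrix (Fin n) (Fin n) (fixField σ) := Matrix.of fun i j => ⟨κ * G i j, show σ _ = κ * G i j by
      rw [map_mul, hGij, h1, show σ κ = -κ from eq_neg_of_add_eq_zero_right hκ]; ring⟩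
    have hJ : J.map (fixField σ).subtype = κ • G := rfl
    have hGanti : ∀ i j, G j i = -G i j := fun i j => by
      have := congrFun (congrFun hGT i) j
      rw [hGσ, h1] at this
      simpa using this
    have hn4 : 4 ≤ n := by
      by_contra hlt
      obtain rfl : n = 3 := by omega
      have hT : Gᵀ = -G := Matrix.ext fun i j => hGanti i j
      have h3 := congrArg Matrix.det hT
      rw [Matrix.det_transpose, Matrix.det_neg, Fintype.card_fin] at h3
      exact hGdet ((mul_eq_zero.1 (show (2 : F) * G.det = 0 by linear_combination h3)).resolve_left h2)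
    refine witness_alt hu hτ hκ0 hJ hk r hn hs h2 (fun h0 => ?_) hn4 (Matrix.ext fun i j => Subtype.ext ?_)
    · have := congrArg (fixField σ).subtype h0
      rw [RingHom.map_det, RingHom.mapMatrix_apply, hJ, map_zero, Matrix.det_smul] at this
      exact mul_ne_zero (pow_ne_zero _ hκ0) hGdet this
    · show κ * G j i = -(κ * G i j)
      rw [hGanti i j, mul_neg]

theorem balance {F : Type*} [Field F] [Fintype F] (r : ℕ) [Fact r.Prime] [CharP F r] {n q : ℕ}
    (hF : Fintype.card F = q ^ 2) (hn : 3 ≤ n) [IsSimpleGroup (Cfsg.PSU n F q)]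
    (A : Subgroup (MulAut (Cfsg.PSU n F q))) (hinn : ∀ k : Cfsg.PSU n F q, MulAut.conj k ∈ A)
    {p : ℕ} (hp : p.Prime) (hpr : p ≠ r) (x : MulAut (Cfsg.PSU n F q)) (hord : orderOf x = p)
    (hnot : ¬ Cfsg.IsInnerDiagonalAutPSU x) :
    Cfsg.pPrimeCore p ↥(A ⊓ Subgroup.centralizer {x}) ≠ ⊥ ↔
      ((∃ γ φ : MulAut (Cfsg.PSU n F q), Cfsg.IsInnerDiagonalAutPSU γ ∧ (∃ σ : F ≃+* F, Cfsg.IsFieldAutPSUOf σ φ) ∧
        x = φ.trans γ) ∧
        Nat.Coprime p (Nat.card ↥(MonoidHom.eqLocus x.toMonoidHom (MonoidHom.id (Cfsg.PSU n F q))))) := by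
  classical
  obtain ⟨σ, hu⟩ := exists_uctx hF
  have hs := three_two_not_simple hu hF (n := n)
  haveI := LocalBalance.finite_mulAut (K := Cfsg.PSU n F q)
  have hinj := conj_injective hu r hn
  have hnil : ¬ Group.IsNilpotent (Cfsg.PSU n F q) := by
    obtain ⟨e, f, he, hf, hef, -⟩ := exists_fixed_pair hu r hn
    have H : HP σ e f := ⟨he, hf, hef⟩
    obtain ⟨κ, hκ0, hκ⟩ := skew_exists hu
    refine (LocalBalance.conj_injective_of_simple (a := mkU (tr hu e κ)) (b := mkU (tr hu f κ)) fun h => ?_).2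
    have h1 := (commute_mkU_tr_iff hu r (by omega) H.e_ne H.f_ne he hf hκ hκ hκ0 hκ0).1 h
    rw [hef] at h1
    exact one_ne_zero h1
  have hA : LocalBalance.innR (Cfsg.PSU n F q) ≤ A := by rintro _ ⟨k, rfl⟩; exact hinn k
  obtain ⟨g, τ, rfl⟩ := exists_decomp hu r hn hs x
  have htype : ∃ γ φ : MulAut (Cfsg.PSU n F q), Cfsg.IsInnerDiagonalAutPSU γ ∧
      (∃ σ : F ≃+* F, Cfsg.IsFieldAutPSUOf σ φ) ∧ (conjA g * fieldA τ : MulAut (Cfsg.PSU n F q)) = φ.trans γ :=
    ⟨conjA g, fieldA τ, isInnerDiagonal_iff.2 ⟨g, rfl⟩, ⟨τ, isFieldAutOf_iff.2 rfl⟩, rfl⟩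
  rw [and_iff_right htype]
  have hτ1 : τ ≠ 1 := fun h => hnot (isInnerDiagonal_iff.2 ⟨g, by rw [h, map_one, mul_one]⟩)
  have hpow : (conjA g * fieldA τ : MulAut (Cfsg.PSU n F q)) ^ p = 1 := hord ▸ pow_orderOf_eq_one _
  have hpow' := hpow
  rw [conjA_field_pow] at hpow'
  obtain ⟨hτp, htw⟩ := eq_one_of_conj_field hu r hn hpow'
  have hτo : orderOf τ = p := @orderOf_eq_prime _ _ _ p ⟨hp⟩ hτp hτ1
  refine LocalBalance.core_ne_bot_iff_coprime hinj hnil hp hord hA fun hdvd => ?_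
  rcases hp.eq_two_or_odd' with h2 | hodd
  · subst h2
    have h2r : r ≠ 2 := fun h => hpr h.symm
    have h2F : (2 : F) ≠ 0 := Ring.two_ne_zero (R := F) (by rw [ringChar.eq F r]; exact h2r)
    obtain ⟨m, hr, hm⟩ := FiniteField.card F r
    obtain ⟨hev, hfrob⟩ := AutPSL.involution_eq_frobenius (p := r) (f := m) (Nat.succ_le_of_lt m.pos) hm hτo
    have hq : r ^ ((m : ℕ) / 2) = q := by
      refine (Nat.pow_left_injective two_ne_zero) ?_
      show (r ^ ((m : ℕ) / 2)) ^ 2 = q ^ 2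
      rw [← pow_mul, Nat.div_mul_cancel (even_iff_two_dvd.1 hev), ← hm, hF]
    rw [twU_coe, AutPSL.scalars_eq_center] at htw
    exact witness_two hu r hn hs h2F (fun x => by rw [hfrob, hq, hu.pow]) hτo htw
  · obtain ⟨a, -, ha⟩ := coboundary_field hu r hn hτo hodd g hpow
    rw [ha] at hdvd ⊢
    rw [LocalBalance.card_fixed_conj] at hdvd
    exact (witness_field hu r hn hF hs hp hodd hpr hτo hdvd).conj a

end Cfsg.Agent.AutPSU
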