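import Cfsg.Agent.AutPSU.Field
import Cfsg.Agent.LocalBalance.Range
import Cfsg.Agent.AutPSL.BalanceGraph
import Cfsg.Agent.Classical.UnitaryThreeTwo

/-!
Tools for local balance with unitary socle.
-/

set_option autoImplicit false

namespace Cfsg.Agent.Classical.U32

open Cfsg.Agent.ThreeTrans.SU32 Cfsg.Agent.Classical.Herm
open F4

theorem el_comm_mod : ∀ p q : Idx, ∃ c : Fin 3, mulIdx p q = mulIdx (0, c, c) (mulIdx q p) := by decide +kernel

theorem idx_center : ∀ r : Idx, (∀ s : Idx, mulIdx r s = mulIdx s r) → ∃ c : Fin 3, r = (0, c, c) := by decide +kernel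

theorem rep_moves : ∀ p : QuaternionGroup 2, p ≠ 1 → ∃ i : Idx, ∀ c : Fin 3,
    (rep p).1.1 * em i ≠ em (0, c, c) * (em i * (rep p).1.1) := by decide +kernel

theorem core_psu32_model (M : Subgroup (Cfsg.PSU 3 F4 2)) (hM : M.Normal) (hc : (Nat.card M).Coprime 3) :
    M = ⊥ := by
  set Z := Subgroup.center (Cfsg.SU 3 F4 2) with hZ
  let π := QuotientGroup.mk' Z
  let N : Subgroup (Cfsg.PSU 3 F4 2) := E.map π
  have hN : N.Normal := normal_E.map π (QuotientGroup.mk'_surjective Z)
  have hNc : Nat.card N ∣ 3 ^ 3 := by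
    refine (Subgroup.card_map_dvd E π).trans ?_
    rw [card_E]
    norm_num
  have hdis : Disjoint M N := by
    rw [disjoint_iff]
    exact Subgroup.inf_eq_bot_of_coprime ((hc.pow_right 3).of_dvd_right hNc)
  have hpi : ∀ a b : Cfsg.SU 3 F4 2, π a = π b → ∃ c : Fin 3, a = el (0, c, c) * b := fun a b h => by
    have hz : a * b⁻¹ ∈ Z := by
      rw [← QuotientGroup.eq_one_iff]
      show π (a * b⁻¹) = 1
      rw [map_mul, map_inv, h, mul_inv_cancel]
    obtain ⟨r, hr⟩ := center_le hz
    have hcen : ∀ s : Idx, mulIdx r s = mulIdx s r := fun s => by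
      refine em_injective _ _ ?_
      have h1 := Subgroup.mem_center_iff.1 hz (el s)
      rw [← hr, el_mul, el_mul] at h1
      exact congrArg (fun A : Cfsg.SU 3 F4 2 => A.1.1) h1.symm
    obtain ⟨c, rfl⟩ := idx_center r hcen
    exact ⟨c, by rw [hr, inv_mul_cancel_right]⟩
  have hπc : ∀ c : Fin 3, π (el (0, c, c)) = 1 := fun c => by
    refine (QuotientGroup.eq_one_iff _).2 (Subgroup.mem_center_iff.2 fun g => ext' ?_)
    have hsc : ∀ c : Fin 3, em (0, c, c) = ![e, w, w'] c • (1 : Matrix (Fin 3) (Fin 3) F4) := by decide +kernel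
    show g.1.1 * em (0, c, c) = em (0, c, c) * g.1.1
    rw [hsc, Matrix.mul_smul, Matrix.smul_mul, Matrix.mul_one, Matrix.one_mul]
  refine (Subgroup.eq_bot_iff_forall M).2 fun m hm => ?_
  obtain ⟨g, rfl⟩ := QuotientGroup.mk'_surjective Z m
  obtain ⟨⟨⟨_, q, rfl⟩, p⟩, rfl⟩ := decomp.2 g
  have hcm : ∀ i : Idx, Commute (π (el q * rep p)) (π (el i)) := fun i =>
    Subgroup.commute_of_normal_of_disjoint M N hM hN hdis _ _ hm ⟨el i, ⟨i, rfl⟩, rfl⟩
  have hp : p = 1 := by
    by_contra hne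
    obtain ⟨i, hi⟩ := rep_moves p hne
    obtain ⟨c₀, hc₀⟩ := el_comm_mod q i
    have hqi : π (el q) * π (el i) = π (el i) * π (el q) := by
      rw [← map_mul, ← map_mul, el_mul, el_mul, hc₀, ← el_mul, map_mul, hπc, one_mul]
    have h1 : π (rep p * el i) = π (el i * rep p) := by
      have h2 : π (el q * rep p) * π (el i) = π (el i) * π (el q * rep p) := (hcm i).eq
      refine mul_left_cancel (a := π (el q)) ?_
      calc π (el q) * π (rep p * el i) = π (el q * rep p) * π (el i) := by simp only [map_mul, mul_assoc]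
        _ = π (el i) * π (el q) * π (rep p) := by rw [h2, map_mul, mul_assoc]
        _ = π (el q) * π (el i * rep p) := by rw [← hqi, map_mul, mul_assoc]
    obtain ⟨c, hc⟩ := hpi _ _ h1
    exact hi c (congrArg (fun A : Cfsg.SU 3 F4 2 => A.1.1) hc)
  have h3 : π (el q * rep p) ∈ M ⊓ N := ⟨hm, el q * rep p, ⟨q, by rw [hp, rep_eq_one, mul_one]⟩, rfl⟩
  rwa [hdis.eq_bot, Subgroup.mem_bot] at h3

theorem core_psu32 {F : Type*} [Field F] [Fintype F] (hF : Fintype.card F = 4) (M : Subgroup (Cfsg.PSU 3 F 2))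
    (hM : M.Normal) (hc : (Nat.card M).Coprime 3) : M = ⊥ := by
  obtain ⟨ψ⟩ := psu32_equiv hF
  have h := core_psu32_model (M.map ψ.toMonoidHom) (hM.map _ ψ.surjective)
    (by rwa [Subgroup.card_map_of_injective ψ.injective])
  rwa [Subgroup.map_eq_bot_iff_of_injective _ ψ.injective] at h

end Cfsg.Agent.Classical.U32

namespace Cfsg.Agent.AutPSU

open Matrix Classical.Herm
open scoped commutatorElement

variable {n q : ℕ} {F : Type*} [Field F] [Fintype F] {σ : F →+* F} (hu : UCtx σ q)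
include hu

theorem swap_conj (x : MulAut (Cfsg.PSU n F q)) (k : Cfsg.PSU n F q) :
    x * MulAut.conj k = MulAut.conj (x k) * x :=
  MulEquiv.ext fun t => by simp [MulAut.conj_apply, MulAut.mul_apply]

omit [Fintype F] in
theorem three_two_not_simple [Fintype F] (hF : Fintype.card F = q ^ 2) [IsSimpleGroup (Cfsg.PSU n F q)] :
    ¬ (n = 3 ∧ q = 2) := by
  rintro ⟨rfl, rfl⟩
  obtain ⟨hcard, hsol⟩ := Classical.U32.solvable_72 (F := F) (by rw [hF]; norm_num)
  haveI := hsol
  have hcomm : ∀ a b : Cfsg.PSU 3 F 2, a * b = b * a := by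
    rcases (inferInstance : (commutator (Cfsg.PSU 3 F 2)).Normal).eq_bot_or_eq_top with h | h
    · intro a b
      have hm : ⁅a, b⁆ ∈ commutator (Cfsg.PSU 3 F 2) :=
        Subgroup.commutator_mem_commutator (Subgroup.mem_top a) (Subgroup.mem_top b)
      rw [h, Subgroup.mem_bot, commutatorElement_eq_one_iff_commute] at hm
      exact hm
    · exact absurd h (Group.IsSolvable.commutator_lt_top_of_nontrivial (Cfsg.PSU 3 F 2)).ne
  letI : CommGroup (Cfsg.PSU 3 F 2) := { (inferInstance : Group (Cfsg.PSU 3 F 2)) with mul_comm := hcomm }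
  haveI : IsSimpleGroup (Cfsg.PSU 3 F 2) := by assumption
  have h := IsSimpleGroup.prime_card (α := Cfsg.PSU 3 F 2)
  rw [hcard] at h
  norm_num at h

variable (r : ℕ) [Fact r.Prime] [CharP F r] (hn : 3 ≤ n)
include r hn

/-- An element of order r of the unitary group lies in SU. -/
theorem exists_su_of_pow {u : Cfsg.GU n F q} (h : u ^ r = 1) : ∃ s : Su n F q, suToGU s = u ∧ s ^ r ^ 1 = 1 := by
  have h1 : u.1 ^ r = 1 := by rw [← SubgroupClass.coe_pow, h, OneMemClass.coe_one]
  obtain ⟨s, hs⟩ := exists_su_of_gu hu u (AutPSL.det_eq_one_of_pow r h1)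
  have hs' : suToGU s = u := Subtype.ext (Units.ext hs)
  refine ⟨s, hs', su_ext ?_⟩
  have h2 := congrArg (fun z : Cfsg.GU n F q => gmat z.1) h
  rw [← hs', ← map_pow] at h2
  rw [pow_one]
  exact h2

/-- A semilinear automorphism commuting with the conjugation by an element of order r. -/
theorem semi_commute {a : Cfsg.GU n F q} {ω : F ≃+* F} {u : Cfsg.GU n F q} (hu' : u ^ r = 1)
    (hy : conjA a * fieldA ω * conjA u = conjA u * (conjA a * fieldA ω)) :
    gmat a.1 * (gmat u.1).map ω = gmat u.1 * gmat a.1 := by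
  obtain ⟨s, rfl, hs⟩ := exists_su_of_pow hu r hn hu'
  rw [conjA_suToGU, swap_conj hu, mul_left_inj] at hy
  replace hy := conj_injective hu r hn hy
  rw [MulAut.mul_apply, fieldA_mkU, conjA_mkU] at hy
  have h2 := eq_of_mkU_eq r hu (by omega) (k := 1) (l := 1) (by rw [← map_pow, ← map_pow, hs, map_one, map_one]) hs hy
  have h3 := congrArg mat h2
  rw [mat_conjSu, mat_fieldSu] at h3
  show _ = mat s * _
  conv_rhs => rw [← h3]
  rw [Matrix.mul_assoc _ (gmat a.1⁻¹) (gmat a.1), show gmat a.1⁻¹ * gmat a.1 = 1 from Units.inv_mul a.1,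
    Matrix.mul_one]
  rfl

theorem inner_of_pow {u : Cfsg.GU n F q} (h : u ^ r = 1) : conjA u ∈ LocalBalance.innR (Cfsg.PSU n F q) := by
  obtain ⟨s, rfl, -⟩ := exists_su_of_pow hu r hn h
  exact ⟨mkU s, (conjA_suToGU s).symm⟩

/-- A prime dividing the order of GU_n and prime to the characteristic divides the order of PSU_n. -/
theorem dvd_card_psu {p : ℕ} (hp : p.Prime) (hpr : p ≠ r) (h : p ∣ Nat.card (Cfsg.GU n F q)) :
    p ∣ Nat.card (Cfsg.PSU n F q) := by
  classical
  haveI := Fact.mk hp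
  haveI : Nonempty (Fin n) := ⟨⟨0, by omega⟩⟩
  have hcard : Nat.card (normHom σ).ker = q + 1 := by rw [card_ker_normHom hu.toIsInvol, hu.card_fix]
  by_cases h1 : p ∣ q + 1
  · rw [← hcard] at h1
    obtain ⟨z, hz⟩ := exists_prime_orderOf_dvd_card' p h1
    set ζ : F := ((z.1 : Fˣ) : F)
    have hN : ζ * σ ζ = 1 := norm_ker_val hu z
    have hζp : ζ ^ p = 1 := by
      have := pow_orderOf_eq_one z
      rw [hz] at this
      simpa [ζ] using congrArg (fun y : (normHom σ).ker => ((y.1 : Fˣ) : F)) this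
    have hζ1 : ζ ≠ 1 := fun e => hp.one_lt.ne (hz.symm.trans (orderOf_eq_one_iff.2 (Subtype.ext (Units.ext e)))).symm
    have hζ0 : ζ ≠ 0 := (z.1 : Fˣ).ne_zero
    let k : Fin n := ⟨0, by omega⟩
    let l : Fin n := ⟨1, by omega⟩
    let m : Fin n := ⟨2, by omega⟩
    have hkl : k ≠ l := by simp [k, l]
    let d : Fin n → F := fun j => if j = k then ζ else if j = l then σ ζ else 1
    have hdd : ∀ j, σ (d j) * d j = 1 := fun j => by
      by_cases hjk : j = k
      · simp [d, hjk, mul_comm, hN]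
      · by_cases hjl : j = l
        · simp [d, hjl, hkl.symm, hu.invol, hN]
        · simp [d, hjk, hjl]
    let S : Matrix.SpecialLinearGroup (Fin n) F := ⟨Matrix.diagonal d, by
      rw [Matrix.det_diagonal, Finset.prod_eq_mul k l hkl (fun j _ hj => by simp [d, hj.1, hj.2]) (by simp) (by simp)]
      simp [d, hkl.symm, hN]⟩
    let s : Su n F q := ⟨S, (Classical.mem_SU_iff hu.pow S).2 fun u v => by
      rw [Classical.hermB_apply, Classical.hermB_apply]
      refine Finset.sum_congr rfl fun t _ => ?_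
      show σ ((Matrix.diagonal d *ᵥ u) t) * (Matrix.diagonal d *ᵥ v) t = _
      rw [Matrix.mulVec_diagonal, Matrix.mulVec_diagonal, map_mul, mul_mul_mul_comm, hdd, one_mul]⟩
    have hsp : s ^ p = 1 := su_ext (by
      show (s.1 ^ p).1 = 1
      rw [Matrix.SpecialLinearGroup.coe_pow]
      show Matrix.diagonal d ^ p = 1
      rw [Matrix.diagonal_pow, ← Matrix.diagonal_one]
      refine congrArg Matrix.diagonal (funext fun j => ?_)
      by_cases hjk : j = k
      · simp [d, hjk, hζp]
      · by_cases hjl : j = l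
        · simp [d, hjl, hkl.symm, ← map_pow, hζp]
        · simp [d, hjk, hjl])
    have hs1 : mkU s ≠ 1 := fun h0 => by
      obtain ⟨c, hc⟩ := center_scalar hu (by omega) (mkU_eq_one_iff.1 h0)
      have ek := congrFun (hc (Pi.single k 1)) k
      have em := congrFun (hc (Pi.single m 1)) m
      rw [show mat s = Matrix.diagonal d from rfl, Matrix.mulVec_diagonal] at ek em
      simp [d, k, l, m, Fin.ext_iff] at ek em
      exact hζ1 (ek.trans em.symm)
    exact (dvd_of_eq (orderOf_eq_prime (by rw [← map_pow, hsp, map_one]) hs1).symm).trans (orderOf_dvd_natCard _)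
  · obtain ⟨g, hg⟩ := exists_prime_orderOf_dvd_card' p h
    have hd : detU hu g = 1 := orderOf_eq_one_iff.1 (Nat.eq_one_of_dvd_coprimes (hp.coprime_iff_not_dvd.2 h1)
      (hg ▸ orderOf_map_dvd (detU hu) g) (hcard ▸ orderOf_dvd_natCard _))
    obtain ⟨s, rfl⟩ : g ∈ (suToGU (n := n) (F := F) (q := q)).range := by
      rw [range_suToGU hu]; exact hd
    have hgp : (suToGU s) ^ p = 1 := hg ▸ pow_orderOf_eq_one _
    have hs1 : mkU s ≠ 1 := fun h0 => by
      have hmem := mkU_eq_one_iff.1 h0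
      obtain ⟨c, hc⟩ := center_scalar hu (by omega) hmem
      have hc' : conjA (suToGU s) = 1 := by rw [conjA_suToGU, h0, map_one]
      rw [← MonoidHom.mem_ker, ker_conjA hu r hn] at hc'
      obtain ⟨a, ha⟩ := hc'
      have hap : scalarU hu (n := n) (a ^ p) = 1 := by rw [map_pow, ha, hgp]
      have hap1 : a ^ p = 1 := Subtype.ext (Units.ext (by
        have := congrArg (fun z : Cfsg.GU n F q => gmat z.1 ⟨0, by omega⟩ ⟨0, by omega⟩) hap
        simpa [scalarU, gmat, Matrix.diagonal_pow] using this))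
      have ha1 : a = 1 := orderOf_eq_one_iff.1 (Nat.eq_one_of_dvd_coprimes (hp.coprime_iff_not_dvd.2 h1)
        (orderOf_dvd_of_pow_eq_one hap1) (hcard ▸ orderOf_dvd_natCard _))
      rw [ha1, map_one] at ha
      rw [← ha, orderOf_one] at hg
      exact hp.one_lt.ne hg
    have hsp : mkU s ^ p = 1 := by
      rw [← map_pow, show s ^ p = 1 from su_ext (by
        have := congrArg (fun z : Cfsg.GU n F q => gmat z.1) hgp
        rw [← map_pow] at this
        exact this), map_one]
    exact (dvd_of_eq (orderOf_eq_prime hsp hs1).symm).trans (orderOf_dvd_natCard _)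

end Cfsg.Agent.AutPSU
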