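import Cfsg.Agent.AutPSU.BalanceBase
import Cfsg.Agent.Classical.UnitaryGroup

/-!
The witness for field automorphisms of odd prime order of PSU_n.
-/

set_option autoImplicit false

namespace Cfsg.Agent.AutPSU

open Matrix Classical.Herm

variable {n q : ℕ} {F : Type*} [Field F] [Fintype F] {σ : F →+* F} (hu : UCtx σ q)
  (r : ℕ) [Fact r.Prime] [CharP F r] (hn : 3 ≤ n) (hF : Fintype.card F = q ^ 2) (hs : ¬ (n = 3 ∧ q = 2))
include hu r hn hF hs

set_option maxHeartbeats 1000000 in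
theorem witness_field {τ : F ≃+* F} {p : ℕ} (hp : p.Prime) (hodd : Odd p) (hpr : p ≠ r) (hτ : orderOf τ = p)
    (hdvd : p ∣ Nat.card ↥(LocalBalance.innR (Cfsg.PSU n F q) ⊓
      Subgroup.centralizer {(fieldA τ : MulAut (Cfsg.PSU n F q))})) :
    LocalBalance.Witness p (fieldA τ : MulAut (Cfsg.PSU n F q)) := by
  classical
  obtain ⟨m, hr, hm⟩ := FiniteField.card F r
  obtain ⟨f, -, hqf⟩ := (Nat.dvd_prime_pow hr).1 (show q ∣ r ^ (m : ℕ) by rw [← hm, hF]; exact dvd_pow_self q two_ne_zero)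
  have hf : 1 ≤ f := by
    rcases Nat.eq_zero_or_pos f with h | h
    · have := hu.one_lt
      rw [hqf, h, pow_zero] at this
      omega
    · exact h
  have hF2 : Fintype.card F = r ^ (2 * f) := by rw [hF, hqf, ← pow_mul, mul_comm]
  have hpf : p ∣ f := by
    obtain ⟨-, hgal⟩ := AutPSL.card_gal (F := F) (f := 2 * f) (by omega) hF2
    have h2f : p ∣ 2 * f := by rw [← hgal, ← hτ]; exact orderOf_dvd_natCard τ
    refine (hp.dvd_mul.1 h2f).resolve_left fun h2 => ?_
    obtain rfl := (Nat.prime_dvd_prime_iff_eq hp Nat.prime_two).1 h2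
    exact absurd hodd (by decide)
  have hfp : f / p * p = f := Nat.div_mul_cancel hpf
  have hfp0 : 1 ≤ f / p := Nat.div_pos (Nat.le_of_dvd hf hpf) hp.pos
  let F₀ := GaloisField r (2 * (f / p))
  haveI : Fintype F₀ := Fintype.ofFinite F₀
  set q₀ := r ^ (f / p) with hq₀
  have hF₀ : Fintype.card F₀ = r ^ (2 * (f / p)) := by
    rw [← Nat.card_eq_fintype_card]; exact GaloisField.card r _ (by omega)
  have hF₀q : Fintype.card F₀ = q₀ ^ 2 := by rw [hF₀, hq₀, ← pow_mul, mul_comm]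
  obtain ⟨σ₀, hu₀⟩ := exists_uctx hF₀q
  obtain ⟨i, hi⟩ := AutPSL.exists_fixed_embedding hF2 hτ (dvd_mul_of_dvd_right hpf 2) F₀
    (by rw [hF₀, Nat.mul_div_assoc 2 hpf])
  have hc : ∀ y, σ (i y) = i (σ₀ y) := fun y => by
    obtain ⟨k, hk⟩ := hodd
    rw [hu.pow, ← map_pow, hu₀.pow]
    congr 1
    have e : q = Fintype.card F₀ ^ k * q₀ := by
      rw [hqf, hF₀q, ← pow_mul, ← pow_succ, ← hk, hq₀, ← pow_mul, hfp]
    rw [e, pow_mul, FiniteField.pow_card_pow]
  haveI := LocalBalance.finite_mulAut (K := Cfsg.PSU n F q)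
  have hcent := centralizer_field (n := n) hu hu₀ i hc r hn hτ hi
  have hY : ∀ y ∈ LocalBalance.innR (Cfsg.PSU n F q), y * fieldA τ = fieldA τ * y →
      ∃ g, y = conjA (mapGU hu hu₀ i hc g) := fun y hy hyx => by
    have h1 : y ∈ Cfsg.inndiagPSU n F q ⊓ Subgroup.centralizer {fieldA τ} :=
      Subgroup.mem_inf.2 ⟨inn_le_inndiag hy, Subgroup.mem_centralizer_singleton_iff.2 hyx⟩
    rw [← hcent] at h1
    obtain ⟨_, ⟨g, rfl⟩, rfl⟩ := h1
    exact ⟨g, rfl⟩
  let φ : Su n F₀ q₀ →* MulAut (Cfsg.PSU n F q) := conjA.comp ((mapGU hu hu₀ i hc).comp suToGU)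
  have hφinn : ∀ s, φ s ∈ LocalBalance.innR (Cfsg.PSU n F q) := fun s => by
    obtain ⟨t, ht⟩ := exists_su_of_gu hu (mapGU hu hu₀ i hc (suToGU s)) (by
      show ((mat s).map i).det = 1
      rw [← RingHom.mapMatrix_apply, ← RingHom.map_det, show (mat s).det = 1 from s.1.2, map_one])
    refine ⟨mkU t, ?_⟩
    rw [← conjA_suToGU]
    exact congrArg conjA (Subtype.ext (Units.ext ht))
  have hker : φ.ker = Subgroup.center (Su n F₀ q₀) := by
    ext s
    rw [MonoidHom.mem_ker]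
    show conjA (mapGU hu hu₀ i hc (suToGU s)) = 1 ↔ _
    rw [conjA_eq_one_iff hu r hn, AutPSL.scalars_eq_center,
      show (mapGU hu hu₀ i hc (suToGU s)).1 = Matrix.GeneralLinearGroup.map i (suToGU s).1 from rfl,
      ← Subgroup.mem_comap, AutPSL.center_comap_map (by omega) i, AutPSL.center_gl_iff]
    constructor
    · rintro ⟨c, hc'⟩
      refine mem_center_of_scalar (a := (c : F₀)) fun v => ?_
      show (suToGU s).1.1 *ᵥ v = _
      rw [hc', Matrix.scalar_apply, ← Matrix.smul_one_eq_diagonal, Matrix.smul_mulVec, Matrix.one_mulVec]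
    · intro hs'
      obtain ⟨c, hc'⟩ := center_scalar hu₀ (by omega) hs'
      have hm' : mat s = Matrix.scalar (Fin n) c := Matrix.ext_of_mulVec_single fun l => by
        rw [hc', Matrix.scalar_apply, ← Matrix.smul_one_eq_diagonal, Matrix.smul_mulVec, Matrix.one_mulVec]
      refine ⟨Units.mk0 c fun h0 => ?_, hm'⟩
      have hd := s.1.2
      rw [show s.1.1 = Matrix.scalar (Fin n) c from hm', h0, map_zero] at hd
      haveI : Nonempty (Fin n) := ⟨⟨0, by omega⟩⟩
      rw [Matrix.det_zero] at hd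
      exact zero_ne_one hd
  haveI : CharP F₀ r := inferInstance
  have hpG : p ∣ Nat.card (Cfsg.PSU n F₀ q₀) := by
    refine dvd_card_psu hu₀ r hn hp hpr ?_
    have h1 : Nat.card ↥(LocalBalance.innR (Cfsg.PSU n F q) ⊓
        Subgroup.centralizer {(fieldA τ : MulAut (Cfsg.PSU n F q))}) ∣
        Nat.card ((conjA (n := n) (F := F) (q := q)).comp (mapGU hu hu₀ i hc)).range := by
      refine Subgroup.card_dvd_of_le fun y hy => ?_
      obtain ⟨g, hg⟩ := hY y (Subgroup.mem_inf.1 hy).1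
        (Subgroup.mem_centralizer_singleton_iff.1 (Subgroup.mem_inf.1 hy).2)
      exact ⟨g, hg.symm⟩
    exact (hdvd.trans h1).trans (Subgroup.card_range_dvd _)
  refine LocalBalance.witness_of_hom φ hker (fun M hM hMc => ?_) hφinn (fun s => ?_) ?_ ?_
  · by_cases h32 : n = 3 ∧ q₀ = 2
    · obtain ⟨rfl, h20⟩ := h32
      have h4 : Fintype.card F₀ = 4 := by rw [hF₀q, h20]; norm_num
      revert M hM hMc
      revert hpG
      rw [show q₀ = 2 from h20]
      intro hpG M hM hMc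
      obtain ⟨hcard, -⟩ := Classical.U32.solvable_72 h4
      rw [hcard] at hpG
      have hp3 : p = 3 := by
        rcases hp.dvd_mul.1 (show p ∣ 2 ^ 3 * 3 ^ 2 by simpa using hpG) with h | h
        · obtain rfl := (Nat.prime_dvd_prime_iff_eq hp Nat.prime_two).1 (hp.dvd_of_dvd_pow h)
          exact absurd hodd (by decide)
        · exact (Nat.prime_dvd_prime_iff_eq hp Nat.prime_three).1 (hp.dvd_of_dvd_pow h)
      subst hp3
      exact Classical.U32.core_psu32 h4 M hM hMc
    · haveI : IsSimpleGroup (Cfsg.PSU n F₀ q₀) := Classical.isSimpleGroup_psu hF₀q n hn h32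
      exact LocalBalance.core_of_simple hp hpG M hM hMc
  · have h1 : conjA (mapGU hu hu₀ i hc (suToGU s)) ∈ Cfsg.inndiagPSU n F q ⊓ Subgroup.centralizer {fieldA τ} := by
      rw [← hcent]; exact ⟨_, ⟨_, rfl⟩, rfl⟩
    exact Subgroup.mem_centralizer_singleton_iff.1 (Subgroup.mem_inf.1 h1).2
  · intro y hy hyx s
    obtain ⟨g, rfl⟩ := hY y hy hyx
    refine ⟨conjSu g s, ?_⟩
    show conjA (mapGU hu hu₀ i hc (suToGU (conjSu g s))) =
      conjA _ * conjA (mapGU hu hu₀ i hc (suToGU s)) * (conjA _)⁻¹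
    rw [← map_inv, ← map_mul, ← map_mul, ← map_inv, ← map_mul, ← map_mul]
    exact congrArg _ (congrArg _ (Subtype.ext (Units.ext rfl)))
  · intro y _ hy
    obtain ⟨a, ω, rfl⟩ := exists_decomp hu r hn hs y
    obtain ⟨ha, hω⟩ := AutPSL.unitary_fix_scalar hu₀ σ i (fun x => (hc x).symm) hn ω (fun x => hu.comm ω x) a.1
      fun v c hv hc' => by
        set u := mapGU hu hu₀ i hc (suToGU (tr hu₀ v c)) with hu'
        have hpow : u ^ r = 1 := by
          have h1 : tr hu₀ v c ^ r = 1 := by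
            rw [tr_pow hu₀ v hv hc', CharP.cast_eq_zero, zero_mul]
            exact eS_zero hu₀ hv
          rw [hu', ← map_pow, ← map_pow, h1, map_one, map_one]
        exact semi_commute hu r hn hpow (hy (tr hu₀ v c))
    rw [conjA_of_scalar hu (by omega) (by rw [AutPSL.scalars_eq_center]; exact ha), one_mul]
    obtain ⟨k, hk⟩ := LocalBalance.mem_zpowers_of_fix (σ := τ) (τ := ω) fun x hx => by
      obtain ⟨z, rfl⟩ := (hi x).1 hx
      exact hω z
    exact ⟨k, by show fieldA τ ^ k = fieldA ω; rw [← map_zpow]; exact congrArg _ hk⟩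

end Cfsg.Agent.AutPSU
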