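import Cfsg.Prelude.Def_LieTypeDatum
import Cfsg.Agent.Classical.UnitaryGroup
import Cfsg.Agent.AutPSL.Classes

/-!
Automorphisms of SU_n and PSU_n induced by general unitary matrices and field automorphisms.
-/

set_option autoImplicit false

namespace Cfsg.Agent.AutPSU

open Matrix Classical.Herm

variable {n q : ℕ} {F : Type*} [Field F]

/-- The special unitary group. -/
abbrev Su (n : ℕ) (F : Type*) [Field F] (q : ℕ) := ↥(Cfsg.SU n F q)

/-- The coordinate space. -/
abbrev Vn (n : ℕ) (F : Type*) := Fin n → F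

/-- The matrix of an element. -/
abbrev mat (s : Su n F q) : Matrix (Fin n) (Fin n) F := s.1.1

/-- The matrix of an invertible matrix. -/
abbrev gmat (g : GL (Fin n) F) : Matrix (Fin n) (Fin n) F := g

theorem su_ext {A B : Su n F q} (h : mat A = mat B) : A = B := Subtype.ext (Subtype.ext h)

theorem su_ext_mulVec {A B : Su n F q} (h : ∀ v : Vn n F, mat A *ᵥ v = mat B *ᵥ v) : A = B :=
  su_ext (Matrix.ext_of_mulVec_single fun _ => h _)

theorem mat_one : mat (1 : Su n F q) = 1 := rfl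
theorem mat_mul (s t : Su n F q) : mat (s * t) = mat s * mat t := rfl

theorem mat_mul_mulVec (s t : Su n F q) (x : Vn n F) : mat (s * t) *ᵥ x = mat s *ᵥ (mat t *ᵥ x) :=
  (Matrix.mulVec_mulVec x _ _).symm

theorem mat_one_mulVec (x : Vn n F) : mat (1 : Su n F q) *ᵥ x = x := by rw [mat_one, Matrix.one_mulVec]

theorem mat_inv_mulVec (s : Su n F q) (x : Vn n F) : mat s⁻¹ *ᵥ (mat s *ᵥ x) = x := by
  rw [← mat_mul_mulVec, inv_mul_cancel, mat_one_mulVec]

theorem mat_mulVec_inv (s : Su n F q) (x : Vn n F) : mat s *ᵥ (mat s⁻¹ *ᵥ x) = x := by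
  rw [← mat_mul_mulVec, mul_inv_cancel, mat_one_mulVec]

theorem mat_mulVec_ne_zero (s : Su n F q) {v : Vn n F} (hv : v ≠ 0) : mat s *ᵥ v ≠ 0 := fun h => by
  have := mat_inv_mulVec s v
  rw [h, Matrix.mulVec_zero] at this
  exact hv this.symm

/-- The projection. -/
def mkU : Su n F q →* Cfsg.PSU n F q := QuotientGroup.mk' _

theorem mkU_apply (s : Su n F q) : mkU s = QuotientGroup.mk s := rfl

theorem mkU_surjective : Function.Surjective (mkU (n := n) (F := F) (q := q)) := QuotientGroup.mk'_surjective _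

theorem mkU_eq_one_iff {s : Su n F q} : mkU s = 1 ↔ s ∈ Subgroup.center (Su n F q) := QuotientGroup.eq_one_iff s

theorem autExt {α β : MulAut (Cfsg.PSU n F q)} (h : ∀ s : Su n F q, α (mkU s) = β (mkU s)) : α = β :=
  MulEquiv.ext fun x => by obtain ⟨s, rfl⟩ := mkU_surjective x; exact h s

theorem map_center (e : MulAut (Su n F q)) :
    (Subgroup.center (Su n F q)).map (e : Su n F q ≃* Su n F q).toMonoidHom = Subgroup.center (Su n F q) := by
  ext x
  simp only [Subgroup.mem_map, MulEquiv.coe_toMonoidHom, Subgroup.mem_center_iff]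
  constructor
  · rintro ⟨y, hy, rfl⟩ g
    have := congrArg e (hy (e.symm g))
    simpa using this
  · intro hx
    refine ⟨e.symm x, fun g => e.injective ?_, e.apply_symm_apply x⟩
    simpa using hx (e g)

/-- An automorphism of SU induces one of PSU. -/
def toPSUAut : MulAut (Su n F q) →* MulAut (Cfsg.PSU n F q) where
  toFun e := QuotientGroup.congr _ _ e (map_center e)
  map_one' := autExt fun _ => rfl
  map_mul' _ _ := autExt fun _ => rfl

theorem mem_GU_iff {g : GL (Fin n) F} : g ∈ Cfsg.GU n F q ↔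
    ∀ u v, Cfsg.hermForm n F q (gmat g *ᵥ u) (gmat g *ᵥ v) = Cfsg.hermForm n F q u v := Iff.rfl

theorem herm_mat (s : Su n F q) (u v : Vn n F) :
    Cfsg.hermForm n F q (mat s *ᵥ u) (mat s *ᵥ v) = Cfsg.hermForm n F q u v := s.2 u v

/-- SU inside GU. -/
def suToGU : Su n F q →* Cfsg.GU n F q where
  toFun s := ⟨Matrix.SpecialLinearGroup.toGL s.1, fun u v => s.2 u v⟩
  map_one' := Subtype.ext (map_one _)
  map_mul' a b := Subtype.ext (map_mul _ a.1 b.1)

theorem gmat_suToGU (s : Su n F q) : gmat (suToGU s).1 = mat s := rfl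

/-- Conjugation of a special unitary matrix by a general unitary one. -/
def conjFun (g : Cfsg.GU n F q) (s : Su n F q) : Su n F q :=
  ⟨⟨gmat g.1 * mat s * gmat g.1⁻¹, by
    rw [Matrix.det_mul, Matrix.det_mul, s.1.2, mul_one, ← Matrix.det_mul, Units.mul_inv, Matrix.det_one]⟩,
    fun u v => (g * suToGU s * g⁻¹).2 u v⟩

theorem mat_conjFun (g : Cfsg.GU n F q) (s : Su n F q) : mat (conjFun g s) = gmat g.1 * mat s * gmat g.1⁻¹ := rfl

theorem conjFun_mul (g h : Cfsg.GU n F q) (s : Su n F q) : conjFun (g * h) s = conjFun g (conjFun h s) :=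
  su_ext (by simp only [mat_conjFun, gmat, Subgroup.coe_mul, _root_.mul_inv_rev, Units.val_mul, Matrix.mul_assoc])

theorem conjFun_one (s : Su n F q) : conjFun 1 s = s := su_ext (by simp [mat_conjFun, gmat])

/-- Conjugation by the general unitary group. -/
def conjSu : Cfsg.GU n F q →* MulAut (Su n F q) where
  toFun g :=
    { toFun := conjFun g
      invFun := conjFun g⁻¹
      left_inv := fun s => by rw [← conjFun_mul, inv_mul_cancel, conjFun_one]
      right_inv := fun s => by rw [← conjFun_mul, mul_inv_cancel, conjFun_one]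
      map_mul' := fun a b => su_ext (by
        show gmat g.1 * (mat a * mat b) * gmat g.1⁻¹ =
          (gmat g.1 * mat a * gmat g.1⁻¹) * (gmat g.1 * mat b * gmat g.1⁻¹)
        simp only [Matrix.mul_assoc]
        rw [← Matrix.mul_assoc (gmat g.1⁻¹) (gmat g.1), Units.inv_mul, Matrix.one_mul]) }
  map_one' := MulEquiv.ext fun s => conjFun_one s
  map_mul' g h := MulEquiv.ext fun s => conjFun_mul g h s

theorem mat_conjSu (g : Cfsg.GU n F q) (s : Su n F q) : mat (conjSu g s) = gmat g.1 * mat s * gmat g.1⁻¹ := rfl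

theorem mapped_mulVec (τ : F ≃+* F) (M : Matrix (Fin n) (Fin n) F) (v : Vn n F) :
    M.map τ *ᵥ (fun i => τ (v i)) = fun i => τ ((M *ᵥ v) i) :=
  funext fun i => (RingHom.map_mulVec (τ : F →+* F) M v i).symm

theorem herm_map (τ : F ≃+* F) (u v : Vn n F) :
    Cfsg.hermForm n F q (fun i => τ (u i)) (fun i => τ (v i)) = τ (Cfsg.hermForm n F q u v) := by
  simp [Cfsg.hermForm, map_sum, map_pow]

theorem preserves_map (τ : F ≃+* F) {M : Matrix (Fin n) (Fin n) F}
    (hM : ∀ u v, Cfsg.hermForm n F q (M *ᵥ u) (M *ᵥ v) = Cfsg.hermForm n F q u v) (u v : Vn n F) :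
    Cfsg.hermForm n F q (M.map τ *ᵥ u) (M.map τ *ᵥ v) = Cfsg.hermForm n F q u v := by
  have e : ∀ w : Vn n F, w = fun i => τ (τ.symm (w i)) := fun w => funext fun i => (τ.apply_symm_apply _).symm
  rw [e u, e v, mapped_mulVec, mapped_mulVec, herm_map, herm_map, hM]

/-- Entrywise image of a special unitary matrix. -/
def fieldFun (τ : F ≃+* F) (s : Su n F q) : Su n F q :=
  ⟨⟨(mat s).map τ, by rw [show (mat s).map τ = (τ : F →+* F).mapMatrix (mat s) from rfl, ← RingHom.map_det, s.1.2, map_one]⟩,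
    preserves_map τ (herm_mat s)⟩

/-- Field automorphisms of SU. -/
def fieldSu : (F ≃+* F) →* MulAut (Su n F q) where
  toFun τ :=
    { toFun := fieldFun τ
      invFun := fieldFun τ.symm
      left_inv := fun s => su_ext (Matrix.ext fun i j => τ.symm_apply_apply _)
      right_inv := fun s => su_ext (Matrix.ext fun i j => τ.apply_symm_apply _)
      map_mul' := fun a b => su_ext (by
        show (mat a * mat b).map τ = (mat a).map τ * (mat b).map τ
        rw [Matrix.map_mul]) }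
  map_one' := MulEquiv.ext fun _ => su_ext (Matrix.ext fun _ _ => rfl)
  map_mul' _ _ := MulEquiv.ext fun _ => su_ext (Matrix.ext fun _ _ => rfl)

theorem mat_fieldSu (τ : F ≃+* F) (s : Su n F q) : mat (fieldSu τ s) = (mat s).map τ := rfl

/-- Conjugation automorphisms of PSU. -/
def conjA : Cfsg.GU n F q →* MulAut (Cfsg.PSU n F q) := toPSUAut.comp conjSu

/-- Field automorphisms of PSU. -/
def fieldA : (F ≃+* F) →* MulAut (Cfsg.PSU n F q) := toPSUAut.comp fieldSu

theorem conjA_mkU (g : Cfsg.GU n F q) (s : Su n F q) : conjA g (mkU s) = mkU (conjSu g s) := rfl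
theorem fieldA_mkU (τ : F ≃+* F) (s : Su n F q) : fieldA τ (mkU s) = mkU (fieldSu τ s) := rfl

/-- The image of a general unitary matrix under a field automorphism. -/
def fieldGU (τ : F ≃+* F) : Cfsg.GU n F q →* Cfsg.GU n F q where
  toFun g := ⟨AutPSL.fieldGL τ g.1, preserves_map τ (mem_GU_iff.1 g.2)⟩
  map_one' := Subtype.ext (map_one _)
  map_mul' a b := Subtype.ext (map_mul _ a.1 b.1)

theorem gmat_fieldGU (τ : F ≃+* F) (g : Cfsg.GU n F q) : gmat (fieldGU τ g).1 = (gmat g.1).map τ := rfl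

theorem conjA_field (τ : F ≃+* F) (g : Cfsg.GU n F q) : fieldA τ * conjA g = conjA (fieldGU τ g) * fieldA τ := by
  refine autExt fun s => ?_
  show mkU (fieldSu τ (conjSu g s)) = mkU (conjSu (fieldGU τ g) (fieldSu τ s))
  congr 1
  refine su_ext ?_
  rw [mat_fieldSu, mat_conjSu, mat_conjSu, mat_fieldSu, Matrix.map_mul, Matrix.map_mul, ← Subgroup.coe_inv,
    ← Subgroup.coe_inv, ← map_inv, gmat_fieldGU, gmat_fieldGU]

theorem conjA_suToGU (s : Su n F q) : conjA (suToGU s) = MulAut.conj (mkU s) := by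
  refine autExt fun t => ?_
  rw [conjA_mkU, MulAut.conj_apply, ← map_inv, ← map_mul, ← map_mul]
  congr 1

theorem isInduced_iff {β : MulAut (Cfsg.PSU n F q)} {g : Cfsg.GU n F q} {τ : F ≃+* F} :
    Cfsg.IsInducedBySemilinearPSU g.1 τ β ↔ β = conjA g * fieldA τ := by
  constructor
  · intro h
    refine autExt fun s => h s (conjSu g (fieldSu τ s)) ?_
    show mat (conjSu g (fieldSu τ s)) = _
    rw [mat_conjSu, mat_fieldSu]
  · rintro rfl s s' h
    show mkU (conjSu g (fieldSu τ s)) = mkU s'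
    congr 1
    exact (su_ext (h.trans (by rw [mat_conjSu, mat_fieldSu]))).symm

theorem isFieldAutOf_iff {β : MulAut (Cfsg.PSU n F q)} {τ : F ≃+* F} :
    Cfsg.IsFieldAutPSUOf τ β ↔ β = fieldA τ := by
  constructor
  · intro h
    exact autExt fun s => h s (fieldSu τ s) rfl
  · rintro rfl s s' h
    show mkU (fieldSu τ s) = mkU s'
    congr 1
    exact (su_ext (h.trans (mat_fieldSu τ s).symm)).symm

theorem isInnerDiagonal_iff {β : MulAut (Cfsg.PSU n F q)} :
    Cfsg.IsInnerDiagonalAutPSU β ↔ ∃ g, β = conjA g := by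
  constructor
  · rintro ⟨g, hg, h⟩
    exact ⟨⟨g, hg⟩, autExt fun s => h s (conjSu ⟨g, hg⟩ s) rfl⟩
  · rintro ⟨g, rfl⟩
    refine ⟨g.1, g.2, fun s s' h => ?_⟩
    show mkU (conjSu g s) = mkU s'
    congr 1
    exact (su_ext (h.trans (mat_conjSu g s).symm)).symm

theorem inndiagPSU_eq : Cfsg.inndiagPSU n F q = (conjA (n := n) (F := F) (q := q)).range := by
  have : {β : MulAut (Cfsg.PSU n F q) | Cfsg.IsInnerDiagonalAutPSU β} =
      ((conjA (n := n) (F := F) (q := q)).range : Set _) := by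
    ext β
    rw [Set.mem_ofPred_eq, isInnerDiagonal_iff]
    exact ⟨fun ⟨g, h⟩ => ⟨g, h.symm⟩, fun ⟨g, h⟩ => ⟨g, h.symm⟩⟩
  rw [Cfsg.inndiagPSU, Cfsg.autSubgroupOf, this, Subgroup.closure_eq]

theorem conjA_mem (g : Cfsg.GU n F q) : conjA g ∈ Cfsg.inndiagPSU n F q := by
  rw [inndiagPSU_eq]; exact ⟨g, rfl⟩

/-! ### The Hermitian form -/

/-- A field with q² elements and its involution x ↦ x^q. -/
structure UCtx (σ : F →+* F) (q : ℕ) : Prop extends IsInvol σ where
  pow : ∀ x, σ x = x ^ q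
  card_fix : Nat.card (fixField σ) = q
  one_lt : 1 < q

theorem exists_uctx [Fintype F] {q : ℕ} (hF : Fintype.card F = q ^ 2) : ∃ σ : F →+* F, UCtx σ q := by
  obtain ⟨σ, h1, h2, h3, h4⟩ := Classical.exists_powHom hF
  exact ⟨σ, ⟨h2, h1, h3, h4⟩⟩

/-- The form. -/
abbrev hB (n : ℕ) (σ : F →+* F) := Classical.hermB n σ

variable {σ : F →+* F}

theorem UCtx.isHerm (hu : UCtx σ q) (n : ℕ) : IsHerm (hB n σ) := Classical.hermB_isHerm hu.toIsInvol n

theorem UCtx.comm (hu : UCtx σ q) (τ : F ≃+* F) (x : F) : τ (σ x) = σ (τ x) := by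
  rw [hu.pow, hu.pow, map_pow]

theorem hB_map (hu : UCtx σ q) (τ : F ≃+* F) (u v : Vn n F) :
    hB n σ (fun i => τ (u i)) (fun i => τ (v i)) = τ (hB n σ u v) := by
  simp [Classical.hermB_apply, map_sum, hu.comm]

theorem hB_mat (hu : UCtx σ q) (s : Su n F q) (u v : Vn n F) :
    hB n σ (mat s *ᵥ u) (mat s *ᵥ v) = hB n σ u v := (Classical.mem_SU_iff hu.pow s.1).1 s.2 u v

theorem hB_gmat (hu : UCtx σ q) (g : Cfsg.GU n F q) (u v : Vn n F) :
    hB n σ (gmat g.1 *ᵥ u) (gmat g.1 *ᵥ v) = hB n σ u v := (Classical.mem_GU_iff hu.pow g.1).1 g.2 u v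

theorem gmat_mulVec_inv (g : GL (Fin n) F) (v : Vn n F) : gmat g *ᵥ (gmat g⁻¹ *ᵥ v) = v := by
  rw [Matrix.mulVec_mulVec, Units.mul_inv, Matrix.one_mulVec]

theorem gmat_inv_mulVec (g : GL (Fin n) F) (v : Vn n F) : gmat g⁻¹ *ᵥ (gmat g *ᵥ v) = v := by
  rw [Matrix.mulVec_mulVec, Units.inv_mul, Matrix.one_mulVec]

theorem gmat_mulVec_ne_zero (g : GL (Fin n) F) {v : Vn n F} (hv : v ≠ 0) : gmat g *ᵥ v ≠ 0 := fun h => by
  have := gmat_inv_mulVec g v
  rw [h, Matrix.mulVec_zero] at this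
  exact hv this.symm

/-- Central elements are scalar. -/
theorem center_scalar (hu : UCtx σ q) (hn : 2 ≤ n) [Fintype F] {z : Su n F q} (hz : z ∈ Subgroup.center (Su n F q)) :
    ∃ a : F, ∀ v : Vn n F, mat z *ᵥ v = a • v := by
  obtain ⟨a, ha⟩ := Classical.center_SU_scalar hu.toIsInvol hu.pow hu.card_fix hn hz
  refine ⟨a, fun v => ?_⟩
  rw [show mat z = Matrix.scalar (Fin n) a from ha, Matrix.scalar_apply, ← Matrix.smul_one_eq_diagonal,
    Matrix.smul_mulVec, Matrix.one_mulVec]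

theorem mem_center_of_scalar {z : Su n F q} {a : F} (h : ∀ v : Vn n F, mat z *ᵥ v = a • v) :
    z ∈ Subgroup.center (Su n F q) := by
  rw [Subgroup.mem_center_iff]
  intro g
  refine su_ext_mulVec fun v => ?_
  rw [mat_mul_mulVec, mat_mul_mulVec, h, h, Matrix.mulVec_smul]

section Lift

variable (p : ℕ) [Fact p.Prime] [CharP F p] [Fintype F]
include p

theorem center_pow_p_eq_one (hu : UCtx σ q) (hn : 2 ≤ n) {z : Su n F q} (hz : z ∈ Subgroup.center (Su n F q))
    {k : ℕ} (hk : z ^ p ^ k = 1) : z = 1 := by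
  obtain ⟨a, ha⟩ := center_scalar hu hn hz
  have hpow : ∀ (j : ℕ) (v : Vn n F), mat (z ^ j) *ᵥ v = a ^ j • v := fun j => by
    induction j with
    | zero => intro v; rw [pow_zero, pow_zero, one_smul, mat_one_mulVec]
    | succ j ih =>
      intro v
      rw [pow_succ z j, mat_mul_mulVec, ha, ih, smul_smul, pow_succ]
  set e : Vn n F := Pi.single ⟨0, by omega⟩ 1 with he
  have h1 := hpow (p ^ k) e
  rw [hk, mat_one_mulVec] at h1
  have h2 : a ^ p ^ k = 1 := by
    have := congrFun h1 ⟨0, by omega⟩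
    simpa [he] using this.symm
  have h3 : (a - 1) ^ p ^ k = 0 := by rw [sub_pow_char_pow, h2, one_pow, sub_self]
  have h4 : a = 1 := sub_eq_zero.1 (eq_zero_of_pow_eq_zero h3)
  exact su_ext_mulVec fun v => by rw [ha, h4, one_smul, mat_one_mulVec]

theorem eq_of_mkU_eq (hu : UCtx σ q) (hn : 2 ≤ n) {a b : Su n F q} {k l : ℕ} (ha : a ^ p ^ k = 1)
    (hb : b ^ p ^ l = 1) (h : mkU a = mkU b) : a = b := by
  have hz : a⁻¹ * b ∈ Subgroup.center (Su n F q) :=
    mkU_eq_one_iff.1 (by rw [map_mul, map_inv, h, inv_mul_cancel])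
  have hc : Commute a⁻¹ b := by
    have h1 : a * (a⁻¹ * b) = a⁻¹ * b * a := (Subgroup.mem_center_iff.1 hz) a
    rw [mul_inv_cancel_left] at h1
    show a⁻¹ * b = b * a⁻¹
    calc a⁻¹ * b = a⁻¹ * b * a * a⁻¹ := (mul_inv_cancel_right _ _).symm
      _ = b * a⁻¹ := by rw [← h1]
  have h2 : (a⁻¹ * b) ^ p ^ (k + l) = 1 := by
    rw [hc.mul_pow, pow_add, pow_mul, inv_pow, ha, inv_one, one_pow, one_mul, mul_comm, pow_mul, hb, one_pow]
  exact eq_of_inv_mul_eq_one (center_pow_p_eq_one p hu hn hz h2)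

theorem commute_of_mkU (hu : UCtx σ q) (hn : 2 ≤ n) {a b : Su n F q} {k : ℕ} (ha : a ^ p ^ k = 1)
    (h : Commute (mkU a) (mkU b)) : Commute a b := by
  have h1 : b * a * b⁻¹ = a := eq_of_mkU_eq p hu hn (by rw [conj_pow, ha, mul_one, mul_inv_cancel]) ha
    (by rw [map_mul, map_mul, map_inv, ← h.eq, mul_inv_cancel_right])
  show a * b = b * a
  calc a * b = b * a * b⁻¹ * b := by rw [h1]
    _ = b * a := inv_mul_cancel_right _ _

end Lift

end Cfsg.Agent.AutPSU
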