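import Cfsg.Agent.AutPSU.Structure
import Cfsg.Agent.AutPSL.Centralizers

/-!
Field automorphisms of odd prime order of PSU_n: twisted conjugacy in the inner-diagonal coset, centralizers.
-/

set_option autoImplicit false

namespace Cfsg.Agent.AutPSU

open Matrix Classical.Herm

variable {n q : ℕ} {F : Type*} [Field F]

/-- The conjugate transpose. -/
def sd (σ : F →+* F) (A : Matrix (Fin n) (Fin n) F) : Matrix (Fin n) (Fin n) F := (A.map σ)ᵀ

variable [Fintype F] {σ : F →+* F} (hu : UCtx σ q)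
include hu

omit [Fintype F] hu in
theorem sd_mul (A B : Matrix (Fin n) (Fin n) F) : sd σ (A * B) = sd σ B * sd σ A := by
  rw [sd, Matrix.map_mul, Matrix.transpose_mul]; rfl

omit [Fintype F] hu in
theorem sd_smul (a : F) (A : Matrix (Fin n) (Fin n) F) : sd σ (a • A) = σ a • sd σ A := by
  ext i j; simp [sd]

omit [Fintype F] in
theorem sd_sd (A : Matrix (Fin n) (Fin n) F) : sd σ (sd σ A) = A := by
  ext i j; simp [sd, hu.invol]

theorem sd_field (τ : F ≃+* F) (A : Matrix (Fin n) (Fin n) F) : sd σ (A.map τ) = (sd σ A).map τ := by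
  ext i j; simp [sd, hu.comm]

omit [Fintype F] hu in
theorem hB_of_sd {A : Matrix (Fin n) (Fin n) F} (h : sd σ A * A = 1) (u v : Vn n F) :
    hB n σ (A *ᵥ u) (A *ᵥ v) = hB n σ u v := by
  have e : (fun i => σ ((A *ᵥ u) i)) = A.map σ *ᵥ fun i => σ (u i) := funext fun i => RingHom.map_mulVec σ A u i
  show (fun i => σ ((A *ᵥ u) i)) ⬝ᵥ (A *ᵥ v) = (fun i => σ (u i)) ⬝ᵥ v
  rw [e, ← Matrix.vecMul_transpose, Matrix.dotProduct_mulVec, Matrix.vecMul_vecMul]
  rw [show (A.map σ)ᵀ * A = 1 from h, Matrix.vecMul_one]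

theorem sd_mul_gmat (g : Cfsg.GU n F q) : sd σ (gmat g.1) * gmat g.1 = 1 := by
  ext i j
  have h := hB_gmat hu g (Pi.single i 1) (Pi.single j 1)
  rw [Matrix.mulVec_single_one, Matrix.mulVec_single_one, Classical.isON_single n i j] at h
  rw [Matrix.one_apply, ← h]
  rfl

theorem mem_GU_of_sd {g : GL (Fin n) F} (h : sd σ (gmat g) * gmat g = 1) : g ∈ Cfsg.GU n F q :=
  (Classical.mem_GU_iff hu.pow g).2 fun u v => hB_of_sd h u v

omit [Fintype F] in
/-- An element fixed by an automorphism of odd order but moved by the involution. -/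
theorem exists_moved_fixed [Finite F] {τ : F ≃+* F} {r : ℕ} (hr : orderOf τ = r) (hrodd : Odd r) :
    ∃ x, τ x = x ∧ σ x ≠ x := by
  classical
  by_contra hc
  push Not at hc
  haveI : Finite (F ≃+* F) := Finite.of_injective (fun σ : F ≃+* F => (σ : F → F)) DFunLike.coe_injective
  let G := Subgroup.zpowers τ
  haveI : Fintype G := Fintype.ofFinite G
  let K := FixedPoints.subfield G F
  have hfin : Module.finrank K F = r := by
    rw [FixedPoints.finrank_eq_card G F, ← Nat.card_eq_fintype_card, Nat.card_zpowers, hr]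
  have hle : K ≤ fixField σ := fun x hx => hc x (hx ⟨τ, Subgroup.mem_zpowers τ⟩)
  letI : Algebra K (fixField σ) := (Subfield.inclusion hle).toAlgebra
  have h1 : Nat.card F = Nat.card K ^ r := hfin ▸ Module.natCard_eq_pow_finrank
  have h2 : Nat.card (fixField σ) = Nat.card K ^ Module.finrank K (fixField σ) := Module.natCard_eq_pow_finrank
  rw [card_eq_fix_sq hu.toIsInvol, h2, ← pow_mul] at h1
  have h3 := Nat.pow_right_injective (show 2 ≤ Nat.card K from Finite.one_lt_card) h1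
  obtain ⟨k, hk⟩ := hrodd
  omega

/-- The twisted partial products. -/
def twU (τ : F ≃+* F) (g : Cfsg.GU n F q) : ℕ → Cfsg.GU n F q
  | 0 => 1
  | k + 1 => g * fieldGU τ (twU τ g k)

omit [Fintype F] hu in
theorem conjA_field_pow (τ : F ≃+* F) (g : Cfsg.GU n F q) :
    ∀ k, (conjA g * fieldA τ) ^ k = conjA (twU τ g k) * fieldA (τ ^ k)
  | 0 => by simp [twU]
  | k + 1 => by
    rw [pow_succ', conjA_field_pow τ g k]
    show _ = conjA (g * fieldGU τ (twU τ g k)) * fieldA (τ ^ (k + 1))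
    rw [map_mul, pow_succ', map_mul, mul_assoc (conjA g), ← mul_assoc (fieldA τ), conjA_field]
    group

omit [Fintype F] hu in
theorem twU_coe (τ : F ≃+* F) (g : Cfsg.GU n F q) : ∀ k, (twU τ g k).1 = AutPSL.twN τ g.1 k
  | 0 => rfl
  | k + 1 => by
    show g.1 * AutPSL.fieldGL τ (twU τ g k).1 = g.1 * AutPSL.fieldGL τ (AutPSL.twN τ g.1 k)
    rw [twU_coe τ g k]

omit [Fintype F] hu in
theorem field_pow_apply {τ : F ≃+* F} {c : F} {x : F} (h : τ x = c * x) :
    ∀ k, (τ ^ k) x = (∏ j ∈ Finset.range k, (τ ^ j) c) * x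
  | 0 => by simp
  | k + 1 => by
    rw [pow_succ, RingAut.mul_apply, h, map_mul, field_pow_apply h k, Finset.prod_range_succ]
    ring

/-- Adjusting a twisted coboundary to a unitary one. -/
theorem exists_gu_of_coboundary (hn : 1 ≤ n) {τ : F ≃+* F} {r : ℕ} (hr : orderOf τ = r) (hrodd : Odd r)
    {g : Cfsg.GU n F q} {a : Fˣ} {k : GL (Fin n) F}
    (hk : g.1 = Matrix.GeneralLinearGroup.scalar (Fin n) a * (k * (AutPSL.fieldGL τ k)⁻¹)) :
    ∃ H : Cfsg.GU n F q, conjA g = conjA (H * (fieldGU τ H)⁻¹) := by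
  classical
  haveI : Finite (F ≃+* F) := Finite.of_injective (fun σ : F ≃+* F => (σ : F → F)) DFunLike.coe_injective
  have hr0 : 0 < r := by rw [← hr]; exact orderOf_pos τ
  have hkτ : gmat g.1 * (gmat k).map τ = (a : F) • gmat k := by
    have h : g.1 * AutPSL.fieldGL τ k = Matrix.GeneralLinearGroup.scalar (Fin n) a * k := by
      rw [hk, mul_assoc, inv_mul_cancel_right]
    have h' : gmat g.1 * (gmat k).map τ = Matrix.scalar (Fin n) (a : F) * gmat k := congrArg Units.val h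
    rw [h', Matrix.scalar_apply, ← Matrix.smul_one_eq_diagonal, Matrix.smul_mul, Matrix.one_mul]
  set ν : F := σ a * a with hν
  set G := sd σ (gmat k) * gmat k with hGd
  have hν0 : ν ≠ 0 := mul_ne_zero ((map_ne_zero σ).2 a.ne_zero) a.ne_zero
  have hνfix : σ ν = ν := by rw [hν, map_mul, hu.invol, mul_comm]
  have hGτ : G.map τ = ν • G := by
    have h1 : sd σ (gmat g.1 * (gmat k).map τ) * (gmat g.1 * (gmat k).map τ) = G.map τ := by
      rw [sd_mul, Matrix.mul_assoc, ← Matrix.mul_assoc (sd σ (gmat g.1)), sd_mul_gmat hu, Matrix.one_mul, sd_field hu,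
        hGd, ← Matrix.map_mul]
    rw [← h1, hkτ, sd_smul, Matrix.smul_mul, Matrix.mul_smul, smul_smul]
  have hGdet : G.det ≠ 0 := by
    rw [hGd, Matrix.det_mul, sd, Matrix.det_transpose, ← RingHom.mapMatrix_apply, ← RingHom.map_det]
    exact mul_ne_zero ((map_ne_zero σ).2 (Matrix.GeneralLinearGroup.det_ne_zero k))
      (Matrix.GeneralLinearGroup.det_ne_zero k)
  have hGij : ∀ i j, τ (G i j) = ν * G i j := fun i j => congrFun (congrFun hGτ i) j
  obtain ⟨i0, j0, hne⟩ : ∃ i j, G i j ≠ 0 := by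
    by_contra hc
    push Not at hc
    exact hGdet (Matrix.det_eq_zero_of_row_eq_zero ⟨0, hn⟩ (hc _))
  have hN : ∏ j ∈ Finset.range r, (τ ^ j) ((Units.mk0 ν hν0 : Fˣ) : F) = 1 := by
    have h2 := field_pow_apply (hGij i0 j0) r
    rw [← hr, pow_orderOf_eq_one, RingAut.one_apply, hr] at h2
    exact mul_right_cancel₀ hne (h2.symm.trans (one_mul _).symm)
  obtain ⟨b, hb⟩ := AutPSL.hilbert90_units hr hr0 hN
  rw [Units.val_mk0] at hb
  obtain ⟨s, hs0, hsσ, hsτ⟩ : ∃ s : F, s ≠ 0 ∧ σ s = s ∧ ν * τ s = s := by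
    by_cases h0 : (b : F) + σ b = 0
    · obtain ⟨x, hx, hx'⟩ := exists_moved_fixed hu hr hrodd
      refine ⟨(b : F) * (x - σ x), mul_ne_zero b.ne_zero (sub_ne_zero.2 (Ne.symm hx')), ?_, ?_⟩
      · rw [map_mul, map_sub, hu.invol, eq_neg_of_add_eq_zero_right h0]; ring
      · rw [map_mul, map_sub, hu.comm, hx, ← mul_assoc, hb]
    · refine ⟨(b : F) + σ b, h0, by rw [map_add, hu.invol, add_comm], ?_⟩
      rw [map_add, hu.comm, mul_add, hb]
      conv_lhs => arg 2; rw [← hνfix, ← map_mul, hb]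
  let K : Subfield F := (τ : F →+* F).eqLocusField (RingHom.id F)
  have hσK : ∀ x : K, σ x ∈ K := fun x => by
    show τ (σ x) = σ x
    rw [hu.comm, show τ (x : F) = x from x.2]
  let σK : K ≃+* K :=
    { toFun := fun x => ⟨σ x, hσK x⟩
      invFun := fun x => ⟨σ x, hσK x⟩
      left_inv := fun x => Subtype.ext (hu.invol _)
      right_inv := fun x => Subtype.ext (hu.invol _)
      map_add' := fun x y => Subtype.ext (map_add σ _ _)
      map_mul' := fun x y => Subtype.ext (map_mul σ _ _) }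
  have hK2 : ∀ x : K, σK (σK x) = x := fun x => Subtype.ext (hu.invol _)
  have hord : orderOf σK = 2 := by
    refine orderOf_eq_prime (RingEquiv.ext fun x => by rw [pow_two, RingAut.mul_apply, hK2]; rfl) fun h1 => ?_
    obtain ⟨x, hx, hx'⟩ := exists_moved_fixed hu hr hrodd
    exact hx' (congrArg Subtype.val (RingEquiv.congr_fun h1 ⟨x, hx⟩))
  have hfixG : ∀ i j, s * G i j ∈ K := fun i j => by
    show τ (s * G i j) = s * G i j
    rw [map_mul, hGij]
    linear_combination G i j * hsτ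
  let M : Matrix (Fin n) (Fin n) K := fun i j => ⟨_, hfixG i j⟩
  have hMmap : M.map K.subtype = s • G := rfl
  have hGH : sd σ G = G := by rw [hGd, sd_mul, sd_sd hu]
  have hMherm : Mᵀ.map σK = M := Matrix.ext fun i j => Subtype.ext (by
    show σ (s * G j i) = s * G i j
    rw [map_mul, hsσ]
    exact congrArg (s * ·) (congrFun (congrFun hGH i) j))
  have hMdet : M.det ≠ 0 := fun h0 => by
    have h1 := RingHom.map_det K.subtype M
    rw [h0, map_zero, RingHom.mapMatrix_apply, hMmap, Matrix.det_smul] at h1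
    exact mul_ne_zero (pow_ne_zero _ hs0) hGdet h1.symm
  obtain ⟨h, hh⟩ := AutPSL.hermitian_exists hord M hMdet hMherm
  let hi : Matrix (Fin n) (Fin n) K := ((h⁻¹ : GL (Fin n) K) : Matrix (Fin n) (Fin n) K)
  have hih : hi * (h : Matrix (Fin n) (Fin n) K) = 1 := Units.inv_mul h
  let W0 : Matrix (Fin n) (Fin n) K := hiᵀ.map σK
  have hW0 : (W0.map σK)ᵀ * M * W0 = 1 := by
    have e : (W0.map σK)ᵀ = hi := Matrix.ext fun i j => hK2 _
    rw [e, hh, ← Matrix.mul_assoc, hih, Matrix.one_mul]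
    show (h : Matrix (Fin n) (Fin n) K)ᵀ.map σK * hiᵀ.map σK = 1
    rw [← Matrix.map_mul, ← Matrix.transpose_mul, hih, Matrix.transpose_one, Matrix.map_one _ (map_zero _) (map_one _)]
  let W : Matrix (Fin n) (Fin n) F := W0.map K.subtype
  have hW : sd σ W * (s • G) * W = 1 := by
    have h1 := congrArg (fun A : Matrix (Fin n) (Fin n) K => A.map K.subtype) hW0
    simp only [Matrix.map_mul, Matrix.map_one _ (map_zero K.subtype) (map_one K.subtype)] at h1
    exact h1
  have hWτ : W.map τ = W := Matrix.ext fun i j => (W0 i j).2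
  obtain ⟨m, hm⟩ := exists_norm hu.toIsInvol hsσ
  have hm0 : m ≠ 0 := fun h0 => hs0 (by rw [← hm, h0, zero_mul])
  set Hm := m • (gmat k * W) with hHm
  have hHu : sd σ Hm * Hm = 1 := by
    rw [hHm, sd_smul, sd_mul, Matrix.smul_mul, Matrix.mul_smul, smul_smul, Matrix.mul_assoc,
      ← Matrix.mul_assoc (sd σ (gmat k)), ← hGd, mul_comm (σ m), hm, ← Matrix.mul_assoc, ← hW]
    simp only [Matrix.mul_smul, Matrix.smul_mul]
  obtain ⟨H, hH⟩ := exists_gu hu (Matrix.toLin' Hm) fun x y => by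
    simp only [Matrix.toLin'_apply]; exact hB_of_sd hHu x y
  have hHeq : gmat H.1 = Hm := Matrix.ext_of_mulVec_single fun i => by rw [hH, Matrix.toLin'_apply]
  refine ⟨H, ?_⟩
  set c : Fˣ := a * Units.mk0 (τ m) ((map_ne_zero τ).2 hm0) * (Units.mk0 m hm0)⁻¹ with hc
  have hgH : g.1 * (fieldGU τ H).1 = Matrix.GeneralLinearGroup.scalar (Fin n) c * H.1 := by
    refine Units.ext ?_
    show gmat g.1 * gmat (fieldGU τ H).1 = Matrix.scalar (Fin n) (c : F) * gmat H.1
    rw [gmat_fieldGU, hHeq, Matrix.scalar_apply, ← Matrix.smul_one_eq_diagonal, Matrix.smul_mul, Matrix.one_mul, hHm]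
    rw [show (m • (gmat k * W)).map τ = τ m • ((gmat k).map τ * W) from by
      conv_rhs => rw [← hWτ, ← Matrix.map_mul]
      exact Matrix.ext fun i j => map_mul τ _ _]
    rw [Matrix.mul_smul, ← Matrix.mul_assoc, hkτ, Matrix.smul_mul, smul_smul, smul_smul]
    congr 1
    simp [hc, hm0]
    ring
  have hz : (g * fieldGU τ H * H⁻¹).1 ∈ Geo.scalars (Fin n) F := ⟨c, by
    show Matrix.GeneralLinearGroup.scalar (Fin n) c = g.1 * (fieldGU τ H).1 * H.1⁻¹
    rw [hgH, mul_inv_cancel_right]⟩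
  have h1 := conjA_of_scalar hu hn hz
  rw [map_mul, map_mul, map_inv] at h1
  rw [map_mul, map_inv]
  rw [eq_mul_inv_iff_mul_eq, mul_inv_eq_one.1 h1]

section Cobound

variable (p : ℕ) [Fact p.Prime] [CharP F p] (hn : 3 ≤ n)
include p hn

/-- Twisted conjugacy in the inner-diagonal coset. -/
theorem coboundary_field {τ : F ≃+* F} {r : ℕ} (hτ : orderOf τ = r) (hrodd : Odd r) (g : Cfsg.GU n F q)
    (h : (conjA g * fieldA τ) ^ r = 1) :
    IsConjUnder (Cfsg.inndiagPSU n F q) (fieldA τ) (conjA g * fieldA τ) := by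
  have hτr : τ ^ r = 1 := by rw [← hτ]; exact pow_orderOf_eq_one τ
  rw [conjA_field_pow, hτr, map_one, mul_one, conjA_eq_one_iff hu p hn, twU_coe] at h
  obtain ⟨a, k, hk⟩ := AutPSL.exists_coboundary (by omega) hτ g.1 (by rw [← AutPSL.scalars_eq_center]; exact h)
  obtain ⟨H, hH⟩ := exists_gu_of_coboundary hu (by omega) hτ hrodd hk
  refine ⟨conjA H, conjA_mem H, ?_⟩
  rw [hH, map_mul, mul_assoc _ (fieldA τ), ← map_inv conjA H, conjA_field, map_inv (fieldGU τ), mul_assoc]

end Cobound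

section Subfield

variable {F₀ : Type*} [Field F₀] [Fintype F₀] {σ₀ : F₀ →+* F₀} {q₀ : ℕ} (hu₀ : UCtx σ₀ q₀) (i : F₀ →+* F)
  (hc : ∀ x, σ (i x) = i (σ₀ x))
include hu₀ hc

theorem mem_GU_map (g : GL (Fin n) F₀) :
    Matrix.GeneralLinearGroup.map i g ∈ Cfsg.GU n F q ↔ g ∈ Cfsg.GU n F₀ q₀ := by
  have key : sd σ (gmat (Matrix.GeneralLinearGroup.map i g)) * gmat (Matrix.GeneralLinearGroup.map i g) =
      (sd σ₀ (gmat g) * gmat g).map i := by
    rw [Matrix.map_mul]
    congr 1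
    exact Matrix.ext fun a b => hc _
  constructor
  · intro h
    have h1 := sd_mul_gmat hu ⟨_, h⟩
    rw [key, ← Matrix.map_one i (map_zero i) (map_one i)] at h1
    exact mem_GU_of_sd hu₀ (Matrix.map_injective i.injective h1)
  · intro h
    refine mem_GU_of_sd hu ?_
    rw [key, sd_mul_gmat hu₀ ⟨g, h⟩, Matrix.map_one i (map_zero i) (map_one i)]

/-- The unitary group over a subfield. -/
noncomputable def mapGU : Cfsg.GU n F₀ q₀ →* Cfsg.GU n F q where
  toFun g := ⟨Matrix.GeneralLinearGroup.map i g.1, (mem_GU_map hu hu₀ i hc g.1).2 g.2⟩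
  map_one' := Subtype.ext (map_one _)
  map_mul' a b := Subtype.ext (map_mul _ a.1 b.1)

/-- Norm one elements over a subfield. -/
noncomputable def mapNrm : (normHom σ₀).ker →* (normHom σ).ker :=
  ((Units.map (i : F₀ →* F)).comp (normHom σ₀).ker.subtype).codRestrict _ fun a => Units.ext (by
    show i ((a.1 : F₀ˣ) : F₀) * σ (i ((a.1 : F₀ˣ) : F₀)) = 1
    rw [hc, ← map_mul, norm_ker_val hu₀, map_one])

theorem detU_mapGU (g : Cfsg.GU n F₀ q₀) : detU hu (mapGU hu hu₀ i hc g) = mapNrm hu₀ i hc (detU hu₀ g) :=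
  Subtype.ext (Units.ext (i.map_det _).symm)

theorem card_range_mapNrm : Nat.card (mapNrm hu₀ i hc).range = q₀ + 1 := by
  rw [← Nat.card_congr (MonoidHom.ofInjective (f := mapNrm hu₀ i hc) fun a b h =>
      Subtype.ext (Units.ext (i.injective (congrArg (fun z : (normHom σ).ker => ((z.1 : Fˣ) : F)) h)))).toEquiv,
    card_ker_normHom hu₀.toIsInvol, hu₀.card_fix]

theorem ker_mapGU (hn : 1 ≤ n) :
    ((Geo.scalars (Fin n) F).subgroupOf (Cfsg.GU n F q)).comap (mapGU hu hu₀ i hc) =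
      (Geo.scalars (Fin n) F₀).subgroupOf (Cfsg.GU n F₀ q₀) := by
  ext g
  rw [Subgroup.mem_comap, Subgroup.mem_subgroupOf, Subgroup.mem_subgroupOf, AutPSL.scalars_eq_center,
    AutPSL.scalars_eq_center, ← AutPSL.center_comap_map hn i, Subgroup.mem_comap]
  rfl

variable (p : ℕ) [Fact p.Prime] [CharP F p] (hn : 3 ≤ n)
include p hn

/-- The centralizer of a standard field automorphism. -/
theorem centralizer_field {τ : F ≃+* F} {r : ℕ} (hr : orderOf τ = r) (hi : ∀ x : F, τ x = x ↔ x ∈ i.range) :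
    (mapGU (n := n) hu hu₀ i hc).range.map conjA =
      Cfsg.inndiagPSU n F q ⊓ Subgroup.centralizer {fieldA τ} := by
  classical
  haveI : Finite (F ≃+* F) := Finite.of_injective (fun σ : F ≃+* F => (σ : F → F)) DFunLike.coe_injective
  have hr0 : 0 < r := by rw [← hr]; exact orderOf_pos τ
  ext x
  constructor
  · rintro ⟨g, ⟨g0, rfl⟩, rfl⟩
    refine Subgroup.mem_inf.2 ⟨conjA_mem _, ?_⟩
    rw [Subgroup.mem_centralizer_singleton_iff, conjA_field]
    congr 2
    exact (Subtype.ext (Units.ext (Matrix.ext fun a b => (hi _).2 ⟨_, rfl⟩))).symm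
  · intro hx
    obtain ⟨hx, hcc⟩ := Subgroup.mem_inf.1 hx
    rw [inndiagPSU_eq] at hx
    obtain ⟨g, rfl⟩ := hx
    rw [Subgroup.mem_centralizer_singleton_iff, conjA_field] at hcc
    have h1 : fieldGU τ g * g⁻¹ ∈ (conjA (n := n) (F := F) (q := q)).ker := by
      rw [MonoidHom.mem_ker, map_mul, map_inv, ← mul_right_cancel hcc, mul_inv_cancel]
    rw [ker_conjA hu p hn] at h1
    obtain ⟨c, hcg⟩ := h1
    have hσg : fieldGU τ g = scalarU hu c * g := by rw [hcg, inv_mul_cancel_right]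
    have hsm : ∀ (z : (normHom σ).ker) (M : Cfsg.GU n F q) u v,
        gmat (scalarU hu z * M).1 u v = ((z.1 : Fˣ) : F) * gmat M.1 u v := fun z M u v => by
      show (Matrix.scalar (Fin n) ((z.1 : Fˣ) : F) * gmat M.1) u v = _
      rw [Matrix.scalar_apply, Matrix.diagonal_mul]
    have hent : ∀ u v, τ (gmat g.1 u v) = ((c.1 : Fˣ) : F) * gmat g.1 u v := fun u v => by
      rw [← hsm, ← hσg]; rfl
    obtain ⟨u0, v0, hne⟩ : ∃ u v, gmat g.1 u v ≠ 0 := by
      by_contra hcc
      push Not at hcc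
      exact Matrix.GeneralLinearGroup.det_ne_zero g.1 (Matrix.det_eq_zero_of_row_eq_zero ⟨0, by omega⟩ (hcc _))
    have hN : ∏ j ∈ Finset.range r, (τ ^ j) ((c.1 : Fˣ) : F) = 1 := by
      have h2 := field_pow_apply (hent u0 v0) r
      rw [← hr, pow_orderOf_eq_one, RingAut.one_apply, hr] at h2
      exact mul_right_cancel₀ hne (h2.symm.trans (one_mul _).symm)
    obtain ⟨a, ha⟩ := AutPSL.hilbert90_units hr hr0 hN
    have haτ : τ ((a : F) * σ a) = (a : F) * σ a := by
      conv_rhs => rw [← ha, map_mul]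
      rw [map_mul, hu.comm]
      have := norm_ker_val hu c
      linear_combination -(τ (a : F) * σ (τ (a : F))) * this
    obtain ⟨y, hy⟩ := (hi _).1 haτ
    obtain ⟨z₀, hz₀⟩ := exists_norm hu₀.toIsInvol (a := y) (i.injective (by
      rw [← hc, hy, map_mul, hu.invol, mul_comm]))
    set z := i z₀ with hz
    have hzz : z * σ z = a * σ a := by rw [hz, hc, ← map_mul, hz₀, hy]
    have hz0 : z ≠ 0 := fun h0 => mul_ne_zero a.ne_zero ((map_ne_zero σ).2 a.ne_zero) (by rw [← hzz, h0, zero_mul])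
    let b : (normHom σ).ker := ⟨a * (Units.mk0 z hz0)⁻¹, Units.ext (by
      show (a : F) * z⁻¹ * σ ((a : F) * z⁻¹) = 1
      rw [map_mul, map_inv₀]
      field_simp [hz0, (map_ne_zero σ).2 hz0]
      linear_combination -hzz)⟩
    set g' := scalarU hu b * g with hg'
    have hfix : ∀ u v, τ (gmat g'.1 u v) = gmat g'.1 u v := fun u v => by
      rw [hsm, map_mul, hent]
      show τ ((a : F) * z⁻¹) * _ = (a : F) * z⁻¹ * _
      rw [map_mul, map_inv₀, (hi z).2 ⟨z₀, rfl⟩]
      conv_rhs => rw [← ha]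
      ring
    choose M hM using fun u v => (hi _).1 (hfix u v)
    have hdet : (Matrix.of M).det ≠ 0 := fun h0 => by
      apply Matrix.GeneralLinearGroup.det_ne_zero g'.1
      rw [show (g'.1 : Matrix (Fin n) (Fin n) F) = i.mapMatrix (Matrix.of M) from
        Matrix.ext fun u v => (hM u v).symm, ← RingHom.map_det, h0, map_zero]
    let g0 : GL (Fin n) F₀ := Matrix.GeneralLinearGroup.mkOfDetNeZero _ hdet
    have hg0 : Matrix.GeneralLinearGroup.map i g0 = g'.1 := Units.ext (Matrix.ext fun u v => hM u v)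
    refine ⟨g', ⟨⟨g0, (mem_GU_map hu hu₀ i hc g0).1 (hg0 ▸ g'.2)⟩, Subtype.ext hg0⟩, ?_⟩
    rw [hg', map_mul, conjA_scalarU, one_mul]

theorem centralizer_iso {τ : F ≃+* F} {r : ℕ} (hr : orderOf τ = r) (hi : ∀ x : F, τ x = x ↔ x ∈ i.range) :
    Nonempty (↥(Cfsg.inndiagPSU n F q ⊓ Subgroup.centralizer {fieldA τ}) ≃* Cfsg.PGU n F₀ q₀) := by
  have hk : (conjA.comp (mapGU (n := n) hu hu₀ i hc)).ker = (Geo.scalars (Fin n) F₀).subgroupOf (Cfsg.GU n F₀ q₀) := by
    rw [← MonoidHom.comap_ker, ker_conjA hu p hn, ← scalars_subgroupOf hu (by omega), ker_mapGU hu hu₀ i hc (by omega)]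
  exact ⟨((MulEquiv.subgroupCongr (centralizer_field hu hu₀ i hc p hn hr hi).symm).trans
    (MulEquiv.subgroupCongr (MonoidHom.map_range _ _))).trans
    ((QuotientGroup.quotientKerEquivRange _).symm.trans (QuotientGroup.quotientMulEquivOfEq hk))⟩

theorem split_count {τ : F ≃+* F} {r : ℕ} (hr : orderOf τ = r) (hi : ∀ x : F, τ x = x ↔ x ∈ i.range) {d : ℕ}
    (hd : d * (q₀ + 1) = q + 1) :
    splitClassCount (Cfsg.inndiagPSU n F q) (Cfsg.Inn (Cfsg.PSU n F q)) (fieldA τ) = Nat.gcd n d := by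
  rw [AutPSL.splitClassCount_eq_relIndex _ _ inn_le_inndiag, ← centralizer_field hu hu₀ i hc p hn hr hi,
    relIndex_eq hu p hn, MonoidHom.map_range]
  have e : ((detU hu).comp (mapGU (n := n) hu hu₀ i hc)).range = (mapNrm hu₀ i hc).range := by
    ext a
    constructor
    · rintro ⟨g, rfl⟩
      exact ⟨detU hu₀ g, (detU_mapGU hu hu₀ i hc g).symm⟩
    · rintro ⟨b, rfl⟩
      obtain ⟨g, rfl⟩ := detU_surjective hu₀ (n := n) (by omega) b
      exact ⟨g, detU_mapGU hu hu₀ i hc g⟩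
  have hK : Nat.card (normHom σ).ker = q + 1 := by rw [card_ker_normHom hu.toIsInvol, hu.card_fix]
  have hidx : (mapNrm hu₀ i hc).range.index = d := by
    have h1 := (mapNrm hu₀ i hc).range.index_mul_card
    rw [card_range_mapNrm hu hu₀ i hc, hK, ← hd] at h1
    exact Nat.eq_of_mul_eq_mul_right (by omega) h1
  rw [e, AutPSL.cyclic_index_sup, IsCyclic.index_powMonoidHom_range, hidx, hK, Nat.gcd_comm (q + 1) n,
    Nat.gcd_assoc, Nat.gcd_eq_right (show d ∣ q + 1 from ⟨_, hd.symm⟩)]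

end Subfield

end Cfsg.Agent.AutPSU
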