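import Cfsg.Agent.AutPSU.Field
import Cfsg.Agent.AutPSL.Centralizers

/-!
The number of unitary matrices that a field automorphism of odd order maps to scalar multiples of themselves.
-/

set_option autoImplicit false

namespace Cfsg.Agent.AutPSU

open Matrix Classical.Herm

variable {n q : ℕ} {F : Type*} [Field F] [Fintype F] {σ : F →+* F} (hu : UCtx σ q)
  {F₀ : Type*} [Field F₀] [Fintype F₀] {σ₀ : F₀ →+* F₀} {q₀ : ℕ} (hu₀ : UCtx σ₀ q₀) (i : F₀ →+* F)
  (hc : ∀ x, σ (i x) = i (σ₀ x))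
include hu hu₀ hc

theorem scalarU_central (b : (normHom σ).ker) (g : Cfsg.GU n F q) : scalarU hu b * g = g * scalarU hu b :=
  Subtype.ext (AutPSL.scalar_comm b.1 g.1)

theorem card_twisted_fixed (hn : 1 ≤ n) {τ : F ≃+* F} {r : ℕ} (hr : orderOf τ = r)
    (hi : ∀ x : F, τ x = x ↔ x ∈ i.range) :
    Nat.card {g : Cfsg.GU n F q // ∃ c : F, c ≠ 0 ∧ (gmat g.1).map τ = c • gmat g.1} * (q₀ + 1) =
      (q + 1) * Nat.card (Cfsg.GU n F₀ q₀) := by
  classical
  haveI : Finite (F ≃+* F) := Finite.of_injective (fun σ : F ≃+* F => (σ : F → F)) DFunLike.coe_injective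
  have hr0 : 0 < r := by rw [← hr]; exact orderOf_pos τ
  let Φ : (normHom σ).ker × Cfsg.GU n F₀ q₀ →* Cfsg.GU n F q :=
    MonoidHom.noncommCoprod (scalarU hu (n := n)) (mapGU hu hu₀ i hc)
      fun b h => scalarU_central hu hu₀ i hc b _
  have hsm : ∀ (z : (normHom σ).ker) (M : Cfsg.GU n F q) u v,
      gmat (scalarU hu z * M).1 u v = ((z.1 : Fˣ) : F) * gmat M.1 u v := fun z M u v => by
    show (Matrix.scalar (Fin n) ((z.1 : Fˣ) : F) * gmat M.1) u v = _
    rw [Matrix.scalar_apply, Matrix.diagonal_mul]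
  have hrange : ∀ g : Cfsg.GU n F q, g ∈ Φ.range ↔ ∃ c : F, c ≠ 0 ∧ (gmat g.1).map τ = c • gmat g.1 := by
    intro g
    constructor
    · rintro ⟨⟨b, h⟩, rfl⟩
      refine ⟨τ ((b.1 : Fˣ) : F) / ((b.1 : Fˣ) : F), div_ne_zero (by simp) (b.1 : Fˣ).ne_zero,
        Matrix.ext fun u v => ?_⟩
      rw [Matrix.map_apply, Matrix.smul_apply, smul_eq_mul, show Φ (b, h) = scalarU hu b * mapGU hu hu₀ i hc h from rfl,
        hsm, map_mul, (hi (gmat (mapGU hu hu₀ i hc h).1 u v)).2 ⟨gmat h.1 u v, rfl⟩]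
      field_simp [(b.1 : Fˣ).ne_zero]
    · rintro ⟨c, hc0, hcg⟩
      have hc1 : c * σ c = 1 := by
        have h1 := sd_mul_gmat hu g
        have h2 := sd_mul_gmat hu (fieldGU τ g)
        rw [gmat_fieldGU, hcg, sd_smul, Matrix.smul_mul, Matrix.mul_smul, smul_smul, h1] at h2
        have := congrFun (congrFun h2 ⟨0, hn⟩) ⟨0, hn⟩
        rw [mul_comm]
        simpa using this
      have hent : ∀ u v, τ (gmat g.1 u v) = c * gmat g.1 u v := fun u v => congrFun (congrFun hcg u) v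
      obtain ⟨u0, v0, hne⟩ : ∃ u v, gmat g.1 u v ≠ 0 := by
        by_contra hcc
        push Not at hcc
        exact Matrix.GeneralLinearGroup.det_ne_zero g.1 (Matrix.det_eq_zero_of_row_eq_zero ⟨0, hn⟩ (hcc _))
      have hN : ∏ j ∈ Finset.range r, (τ ^ j) ((Units.mk0 c hc0 : Fˣ) : F) = 1 := by
        have h2 := field_pow_apply (hent u0 v0) r
        rw [← hr, pow_orderOf_eq_one, RingAut.one_apply, hr] at h2
        exact mul_right_cancel₀ hne (h2.symm.trans (one_mul _).symm)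
      obtain ⟨a, ha⟩ := AutPSL.hilbert90_units hr hr0 hN
      rw [Units.val_mk0] at ha
      have haτ : τ ((a : F) * σ a) = (a : F) * σ a := by
        conv_rhs => rw [← ha, map_mul]
        rw [map_mul, hu.comm]
        linear_combination -(τ (a : F) * σ (τ (a : F))) * hc1
      obtain ⟨y, hy⟩ := (hi _).1 haτ
      obtain ⟨z₀, hz₀⟩ := exists_norm hu₀.toIsInvol (a := y) (i.injective (by
        rw [← hc, hy, map_mul, hu.invol, mul_comm]))
      set z := i z₀ with hz
      have hzz : z * σ z = a * σ a := by rw [hz, hc, ← map_mul, hz₀, hy]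
      have hz0 : z ≠ 0 := fun h0 => mul_ne_zero a.ne_zero ((map_ne_zero σ).2 a.ne_zero) (by rw [← hzz, h0, zero_mul])
      let b : (normHom σ).ker := ⟨a * (Units.mk0 z hz0)⁻¹, Units.ext (by
        show (a : F) * z⁻¹ * σ ((a : F) * z⁻¹) = 1
        rw [map_mul, map_inv₀]
        field_simp [hz0, (map_ne_zero σ).2 hz0]
        linear_combination -hzz)⟩
      set g' := scalarU hu b * g with hg'
      have hfix : ∀ u v, τ (gmat g'.1 u v) = gmat g'.1 u v := fun u v => by
        rw [hsm, map_mul, hent]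
        show τ ((a : F) * z⁻¹) * _ = (a : F) * z⁻¹ * _
        rw [map_mul, map_inv₀, (hi z).2 ⟨z₀, rfl⟩]
        conv_rhs => rw [← ha]
        ring
      choose M hM using fun u v => (hi _).1 (hfix u v)
      have hdet : (Matrix.of M).det ≠ 0 := fun h0 => by
        apply Matrix.GeneralLinearGroup.det_ne_zero g'.1
        rw [show (g'.1 : Matrix (Fin n) (Fin n) F) = i.mapMatrix (Matrix.of M) from
          Matrix.ext fun u v => (hM u v).symm, ← RingHom.map_det, h0, map_zero]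
      let g0 : GL (Fin n) F₀ := Matrix.GeneralLinearGroup.mkOfDetNeZero _ hdet
      have hg0 : Matrix.GeneralLinearGroup.map i g0 = g'.1 := Units.ext (Matrix.ext fun u v => hM u v)
      refine ⟨(b⁻¹, ⟨g0, (mem_GU_map hu hu₀ i hc g0).1 (hg0 ▸ g'.2)⟩), ?_⟩
      show scalarU hu b⁻¹ * mapGU hu hu₀ i hc ⟨g0, _⟩ = g
      rw [show mapGU hu hu₀ i hc ⟨g0, (mem_GU_map hu hu₀ i hc g0).1 (hg0 ▸ g'.2)⟩ = g' from Subtype.ext hg0,
        hg', map_inv, inv_mul_cancel_left]
  have hker : Nat.card Φ.ker = q₀ + 1 := by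
    have hinj : Function.Injective (mapNrm hu₀ i hc (σ := σ)) := fun a b h =>
      Subtype.ext (Units.ext (i.injective (congrArg (fun z : (normHom σ).ker => ((z.1 : Fˣ) : F)) h)))
    have hmem : ∀ z, (mapNrm hu₀ i hc (σ := σ) z, scalarU hu₀ (n := n) z⁻¹) ∈ Φ.ker := fun z => by
      rw [MonoidHom.mem_ker]
      show scalarU hu _ * mapGU hu hu₀ i hc _ = 1
      refine Subtype.ext (Units.ext (Matrix.ext fun u v => ?_))
      show gmat (scalarU hu _ * mapGU hu hu₀ i hc _).1 u v = (1 : Matrix (Fin n) (Fin n) F) u v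
      rw [hsm]
      show i ((z.1 : F₀ˣ) : F₀) * i (Matrix.scalar (Fin n) (((z⁻¹).1 : F₀ˣ) : F₀) u v) = _
      rw [← map_mul]
      rw [Matrix.scalar_apply, Matrix.diagonal_apply, Matrix.one_apply]
      split_ifs <;> simp
    refine Eq.trans ?_ (show Nat.card (normHom σ₀).ker = q₀ + 1 by rw [card_ker_normHom hu₀.toIsInvol, hu₀.card_fix])
    refine (Nat.card_congr (Equiv.ofBijective (fun z => (⟨_, hmem z⟩ : Φ.ker)) ⟨fun a b h => ?_, ?_⟩)).symm
    · exact hinj (congrArg Prod.fst (congrArg Subtype.val h))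
    · rintro ⟨⟨b, h⟩, hbh⟩
      rw [MonoidHom.mem_ker] at hbh
      have hent : ∀ u v, ((b.1 : Fˣ) : F) * i (gmat h.1 u v) = (1 : Matrix (Fin n) (Fin n) F) u v := fun u v => by
        have := congrArg (fun x : Cfsg.GU n F q => gmat x.1 u v) hbh
        rwa [show Φ (b, h) = scalarU hu b * mapGU hu hu₀ i hc h from rfl, hsm] at this
      have h00 := hent ⟨0, hn⟩ ⟨0, hn⟩
      rw [Matrix.one_apply_eq] at h00
      set y := gmat h.1 ⟨0, hn⟩ ⟨0, hn⟩
      have hy0 : y ≠ 0 := fun h0 => by rw [h0, map_zero, mul_zero] at h00; exact zero_ne_one h00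
      have hb : ((b.1 : Fˣ) : F) = (i y)⁻¹ := eq_inv_of_mul_eq_one_left h00
      have hN := norm_ker_val hu b
      rw [hb, map_inv₀, hc, ← mul_inv, inv_eq_one, ← map_mul, ← map_one i] at hN
      refine ⟨⟨(Units.mk0 y hy0)⁻¹, Units.ext (show y⁻¹ * σ₀ y⁻¹ = 1 by
        rw [map_inv₀, ← mul_inv, i.injective hN, inv_one])⟩, Subtype.ext (Prod.ext ?_ ?_)⟩
      · refine Subtype.ext (Units.ext ?_)
        show i y⁻¹ = _
        rw [map_inv₀, hb]
      · refine Subtype.ext (Units.ext (Matrix.ext fun u v => ?_))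
        show Matrix.scalar (Fin n) ((((Units.mk0 y hy0)⁻¹)⁻¹ : F₀ˣ) : F₀) u v = gmat h.1 u v
        rw [inv_inv, Units.val_mk0]
        have h1 := hent u v
        rw [hb] at h1
        refine i.injective ?_
        have hiy : i y ≠ 0 := (map_ne_zero i).2 hy0
        by_cases huv : u = v
        · subst huv
          rw [Matrix.one_apply_eq, inv_mul_eq_iff_eq_mul₀ hiy, mul_one] at h1
          simp [h1]
        · rw [Matrix.one_apply_ne huv, inv_mul_eq_iff_eq_mul₀ hiy, mul_zero] at h1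
          simp [huv, h1]
  have h1 := Subgroup.card_eq_card_quotient_mul_card_subgroup Φ.ker
  rw [Nat.card_congr (QuotientGroup.quotientKerEquivRange Φ).toEquiv, Nat.card_prod, card_ker_normHom hu.toIsInvol, hu.card_fix, hker] at h1
  rw [h1]
  congr 1
  exact Nat.card_congr (Equiv.subtypeEquivRight fun g => (hrange g).symm)

end Cfsg.Agent.AutPSU
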