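import Cfsg.Agent.AutPSU.Frame

/-!
An automorphism of PSU_n fixing an isotropic point stabilises the unipotent radical of its stabiliser.
-/

set_option autoImplicit false

namespace Cfsg.Agent.AutPSU

open Matrix Classical.Herm

variable {n q : ℕ} {F : Type*} [Field F] [Fintype F] {σ : F →+* F} (hu : UCtx σ q)
include hu

/-- The automorphism fixes the point of the transvections at e. -/
def FixPt (β : MulAut (Cfsg.PSU n F q)) (e : Vn n F) : Prop :=
  ∀ c : F, c + σ c = 0 → ∃ c', c' + σ c' = 0 ∧ β (mkU (tr hu e c)) = mkU (tr hu e c')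

variable (p : ℕ) [Fact p.Prime] [CharP F p]
include p

theorem fixPt_of_image (hn : 3 ≤ n) {β : MulAut (Cfsg.PSU n F q)} {e : Vn n F} (he0 : e ≠ 0)
    (he : hB n σ e e = 0) {c₀ c₁ : F} (hc₀ : c₀ + σ c₀ = 0) (hc₀0 : c₀ ≠ 0) (hc₁ : c₁ + σ c₁ = 0)
    (h : β (mkU (tr hu e c₀)) = mkU (tr hu e c₁)) : FixPt hu β e := by
  intro c hc
  by_cases hc0 : c = 0
  · refine ⟨0, by simp, ?_⟩
    rw [hc0, show tr hu e (0 : F) = 1 from eS_zero hu he, map_one, map_one]
  obtain ⟨e', c', he'0, he', hc', h'⟩ := image_transvection hu p hn β he0 he hc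
  obtain ⟨a, ha⟩ := image_same_point hu p hn β he0 he hc₀ hc hc₀0 hc0 he0 he'0 he he' hc₁ hc' h h'
  refine ⟨a * σ a * c', ?_, by rw [h', ha, tr_smul hu he hc']⟩
  rw [map_mul, map_mul, hu.invol]
  linear_combination a * σ a * hc'

theorem fixPt_symm (hn : 3 ≤ n) {β : MulAut (Cfsg.PSU n F q)} {e : Vn n F} (he0 : e ≠ 0)
    (he : hB n σ e e = 0) (h : FixPt hu β e) : FixPt hu β.symm e := by
  obtain ⟨κ, hκ0, hκ⟩ := skew_exists hu
  obtain ⟨c', hc', h'⟩ := h κ hκ
  exact fixPt_of_image hu p hn he0 he hc' (param_ne_zero hu p (by omega) β he0 he he hκ hκ0 h') hκ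
    (by rw [← h', MulEquiv.symm_apply_apply])

omit [Fact p.Prime] [CharP F p] p in
theorem flagFix_conj {e : Vn n F} (he0 : e ≠ 0) {s x : Su n F q} {a : F} (hs : mat s *ᵥ e = a • e)
    (hx : x ∈ flagFix σ e) : s * x * s⁻¹ ∈ flagFix σ e := by
  have ha0 : a ≠ 0 := fun h0 => mat_mulVec_ne_zero s he0 (by rw [hs, h0, zero_smul])
  have hsi : mat s⁻¹ *ᵥ e = a⁻¹ • e := by
    have h1 := congrArg (mat s⁻¹ *ᵥ ·) hs
    simp only [mat_inv_mulVec, Matrix.mulVec_smul] at h1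
    conv_rhs => rw [h1]
    rw [smul_smul, inv_mul_cancel₀ ha0, one_smul]
  refine ⟨?_, fun y hy => ?_⟩
  · rw [mat_mul_mulVec, mat_mul_mulVec, hsi, Matrix.mulVec_smul, hx.1, Matrix.mulVec_smul, hs, smul_smul,
      inv_mul_cancel₀ ha0, one_smul]
  · obtain ⟨b, hb⟩ := hx.2 (mat s⁻¹ *ᵥ y) (by
      have h1 := hB_mat hu s e (mat s⁻¹ *ᵥ y)
      rw [mat_mulVec_inv, hs, map_smulₛₗ, LinearMap.smul_apply, hy, smul_zero] at h1
      exact h1.symm)
    refine ⟨b * a, ?_⟩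
    rw [mat_mul_mulVec, mat_mul_mulVec, hb, Matrix.mulVec_add, Matrix.mulVec_smul, mat_mulVec_inv, hs, smul_smul]

/-- A lift of the image of an element fixing the point fixes the point. -/
theorem lift_fix_pt (hn : 3 ≤ n) {β : MulAut (Cfsg.PSU n F q)} {e : Vn n F} (he0 : e ≠ 0)
    (he : hB n σ e e = 0) (hβ : FixPt hu β e) {x v : Su n F q} {a : F} (hx : mat x *ᵥ e = a • e)
    (hv : mkU v = β (mkU x)) : ∃ b : F, b ≠ 0 ∧ mat v *ᵥ e = b • e := by
  obtain ⟨κ, hκ0, hκ⟩ := skew_exists hu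
  obtain ⟨c', hc', h'⟩ := hβ κ hκ
  have hN : a * σ a * κ + σ (a * σ a * κ) = 0 := by
    rw [map_mul, map_mul, hu.invol]; linear_combination a * σ a * hκ
  obtain ⟨c'', hc'', h''⟩ := hβ _ hN
  have h1 : mkU (tr hu (mat v *ᵥ e) c') = mkU (tr hu e c'') := by
    rw [← h'', ← tr_smul hu he hκ, ← hx, ← conj_tr hu v he hc', ← conj_tr hu x he hκ]
    simp only [map_mul, map_inv, hv, h']
  have h2 := eq_of_mkU_eq p hu (by omega) (tr_pow_p hu p (by omega) (by rw [hB_mat hu]; exact he) hc')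
    (tr_pow_p hu p (by omega) he hc'') h1
  have hc'0 : c' ≠ 0 := param_ne_zero hu p (by omega) β he0 he he hκ hκ0 h'
  obtain ⟨b, hb⟩ := tr_inj hu (mat_mulVec_ne_zero v he0) (by rw [hB_mat hu]; exact he) he hc' hc'' hc'0 h2
  have hb0 : b ≠ 0 := fun h0 => he0 (by rw [hb, h0, zero_smul])
  refine ⟨b⁻¹, inv_ne_zero hb0, ?_⟩
  conv_rhs => rw [hb]
  rw [smul_smul, inv_mul_cancel₀ hb0, one_smul]

omit [CharP F p] in
theorem center_coprime [CharP F p] (hn : 2 ≤ n) :
    (Nat.card (Subgroup.center (Su n F q))).Coprime (p ^ 2) := by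
  rw [Classical.card_center_SU hu.toIsInvol hu.pow hu.card_fix hn]
  refine Nat.Coprime.pow_right 2 (Nat.coprime_comm.1 ((Nat.Prime.coprime_iff_not_dvd Fact.out).2 fun h => ?_))
  have hd : p ∣ q + 1 := h.trans (Nat.gcd_dvd_right _ _)
  have hpq : p ∣ q := by
    obtain ⟨k, hk0, hk⟩ := FiniteField.card F p
    have hF : Fintype.card F = q ^ 2 := by
      rw [← Nat.card_eq_fintype_card, card_eq_fix_sq hu.toIsInvol, hu.card_fix]
    exact (Fact.out : p.Prime).dvd_of_dvd_pow (show p ∣ q ^ 2 by rw [← hF, hk]; exact dvd_pow_self p k.ne_zero)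
  exact (Fact.out : p.Prime).not_dvd_one ((Nat.dvd_add_right hpq).1 hd)

theorem exists_lift (hn : 2 ≤ n) {x : Cfsg.PSU n F q} (hx : x ^ p ^ 2 = 1) :
    ∃ v : Su n F q, mkU v = x ∧ v ^ p ^ 2 = 1 := by
  obtain ⟨u, rfl⟩ := mkU_surjective x
  rw [← map_pow] at hx
  have hz := mkU_eq_one_iff.1 hx
  obtain ⟨d, hd⟩ := (powCoprime (center_coprime hu p hn)).surjective
    (⟨_, hz⟩ : Subgroup.center (Su n F q))
  have hd' : (d : Su n F q) ^ p ^ 2 = u ^ p ^ 2 := by
    simpa [powCoprime] using congrArg Subtype.val hd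
  refine ⟨u * (d : Su n F q)⁻¹, ?_, ?_⟩
  · rw [map_mul, map_inv, mkU_eq_one_iff.2 d.2, inv_one, mul_one]
  · rw [Commute.mul_pow ((Subgroup.mem_center_iff.1 d.2 u : u * d = d * u) |> fun h => Commute.inv_right h),
      inv_pow, hd', mul_inv_cancel]

/-- Two transvections whose product is a p-element have orthogonal centres. -/
theorem orth_of_pow (hn : 3 ≤ n) {w₁ w₂ : Vn n F} (h₁ : hB n σ w₁ w₁ = 0) (h₂ : hB n σ w₂ w₂ = 0) {c : F}
    (hc : c + σ c = 0) (hc0 : c ≠ 0) {k : ℕ}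
    (hk : mkU (tr hu w₁ c * tr hu w₂ (-c)) ^ p ^ k = 1) : hB n σ w₁ w₂ = 0 := by
  classical
  haveI : Nonempty (Fin n) := ⟨⟨0, by omega⟩⟩
  have hnc : -c + σ (-c) = 0 := by rw [map_neg]; linear_combination -hc
  set y := tr hu w₁ c * tr hu w₂ (-c) with hy
  have hyv : ∀ x, mat y *ᵥ x = x + (c * hB n σ w₁ x - c * c * hB n σ w₁ w₂ * hB n σ w₂ x) • w₁ +
      (-c * hB n σ w₂ x) • w₂ := fun x => by
    rw [hy, mat_mul_mulVec, tr_mulVec hu h₂ hnc, tr_mulVec hu h₁ hc]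
    simp only [map_add, map_smul, smul_eq_mul]
    match_scalars <;> ring
  clear_value y
  -- a common orthogonal vector
  let L : Vn n F →ₗ[F] F × F := (hB n σ w₁).prod (hB n σ w₂)
  obtain ⟨v, hv, hv0⟩ := Submodule.exists_mem_ne_zero_of_ne_bot (LinearMap.ker_ne_bot_of_finrank_lt (f := L) (by
    rw [Module.finrank_prod, Module.finrank_self, Module.finrank_fin_fun]; omega))
  rw [LinearMap.mem_ker, LinearMap.prod_apply] at hv
  have hv1 : hB n σ w₁ v = 0 := congrArg Prod.fst hv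
  have hv2 : hB n σ w₂ v = 0 := congrArg Prod.snd hv
  have hyfix : mat y *ᵥ v = v := by rw [hyv, hv1, hv2]; simp
  have hpow : ∀ j : ℕ, mat (y ^ j) *ᵥ v = v := fun j => by
    induction j with
    | zero => rw [pow_zero, mat_one_mulVec]
    | succ j ih => rw [pow_succ, mat_mul_mulVec, hyfix, ih]
  rw [← map_pow, mkU_eq_one_iff] at hk
  obtain ⟨a, ha⟩ := center_scalar hu (by omega) hk
  have ha1 : a = 1 := by
    have h := (hpow (p ^ k)).symm.trans (ha v)
    have h0 : (a - 1) • v = 0 := by rw [sub_smul, one_smul, ← h, sub_self]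
    exact sub_eq_zero.1 ((smul_eq_zero.1 h0).resolve_right hv0)
  have hy1 : mat y ^ p ^ k = 1 := by
    rw [← Matrix.SpecialLinearGroup.coe_pow, ← SubmonoidClass.coe_pow]
    refine Matrix.ext_of_mulVec_single fun i => ?_
    rw [ha, ha1, one_smul, Matrix.one_mulVec]
  have hnil : IsNilpotent (mat y - 1) := ⟨p ^ k, by rw [sub_pow_char_pow_of_commute p k (Commute.one_right _), hy1, one_pow, sub_self]⟩
  have htr := (Matrix.isNilpotent_trace_of_isNilpotent hnil).eq_zero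
  let r : Vn n F → Fin n → F := fun w i => σ (w i)
  have hdot : ∀ w x, r w ⬝ᵥ x = hB n σ w x := fun w x => rfl
  have hM : mat y - 1 = Matrix.vecMulVec w₁ (c • r w₁ - (c * c * hB n σ w₁ w₂) • r w₂) + Matrix.vecMulVec w₂ ((-c) • r w₂) := by
    refine Matrix.ext_of_mulVec_single fun i => ?_
    rw [Matrix.sub_mulVec, Matrix.one_mulVec, hyv, Matrix.add_mulVec, Matrix.vecMulVec_mulVec,
      Matrix.vecMulVec_mulVec, op_smul_eq_smul, op_smul_eq_smul, sub_dotProduct, smul_dotProduct, smul_dotProduct,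
      smul_dotProduct, hdot, hdot, smul_eq_mul, smul_eq_mul, smul_eq_mul]
    abel
  rw [hM, Matrix.trace_add, Matrix.trace_vecMulVec, Matrix.trace_vecMulVec, dotProduct_sub, dotProduct_smul,
    dotProduct_smul, dotProduct_smul, dotProduct_comm w₁, dotProduct_comm w₁, dotProduct_comm w₂, hdot, hdot, hdot,
    h₁, h₂, smul_eq_mul, smul_eq_mul, smul_eq_mul, ← (hu.isHerm n).symm w₁ w₂] at htr
  by_contra hne
  refine mul_ne_zero (mul_ne_zero (mul_ne_zero hc0 hc0) hne) ((map_ne_zero σ).2 hne) ?_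
  linear_combination -htr

/-- The unipotent radical is preserved. -/
theorem image_flag (hn : 3 ≤ n) {β : MulAut (Cfsg.PSU n F q)} {e f : Vn n F} (H : HP σ e f)
    (hβ : FixPt hu β e) {x : Su n F q} (hx : x ∈ flagFix σ e) :
    ∃ v ∈ flagFix σ e, β (mkU x) = mkU v := by
  have hH := hu.isHerm n
  have he0 := H.e_ne
  obtain ⟨v, hv, hvp⟩ := exists_lift hu p (by omega : 2 ≤ n) (x := β (mkU x))
    (by rw [← map_pow, ← map_pow, flagFix_pow hu p (by omega) hx, map_one, map_one])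
  refine ⟨v, ?_, hv.symm⟩
  obtain ⟨b, hb0, hb⟩ := lift_fix_pt hu p hn he0 H.ee hβ (a := 1) (by rw [one_smul]; exact hx.1) hv
  have hb1 : b = 1 := by
    have hpow : ∀ i : ℕ, mat (v ^ i) *ᵥ e = b ^ i • e := fun i => by
      induction i with
      | zero => rw [pow_zero, pow_zero, one_smul, mat_one_mulVec]
      | succ i ih => rw [pow_succ, mat_mul_mulVec, hb, Matrix.mulVec_smul, ih, smul_smul, pow_succ']
    have h1 := hpow (p ^ 2)
    rw [hvp, mat_one_mulVec] at h1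
    have h2 : b ^ p ^ 2 = 1 := by
      have h0 : (b ^ p ^ 2 - 1) • e = 0 := by rw [sub_smul, one_smul, ← h1, sub_self]
      exact sub_eq_zero.1 ((smul_eq_zero.1 h0).resolve_right he0)
    have h3 : (b - 1) ^ p ^ 2 = 0 := by rw [sub_pow_char_pow, h2, one_pow, sub_self]
    exact sub_eq_zero.1 (eq_zero_of_pow_eq_zero h3)
  rw [hb1, one_smul] at hb
  obtain ⟨κ, hκ0, hκ⟩ := skew_exists hu
  -- isotropic vectors orthogonal to e stay orthogonal to their images
  have horth : ∀ w, hB n σ w w = 0 → hB n σ e w = 0 → hB n σ (mat v *ᵥ w) w = 0 := fun w hw hew => by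
    by_cases hw0 : w = 0
    · rw [hw0, map_zero]
    obtain ⟨w₀, d, hw₀0, hw₀, hd, h⟩ := image_transvection hu p hn β.symm hw0 hw hκ
    have h' : β (mkU (tr hu w₀ d)) = mkU (tr hu w κ) := by rw [← h, MulEquiv.apply_symm_apply]
    have hd0 : d ≠ 0 := param_ne_zero hu p (by omega) β.symm hw0 hw hw₀ hκ hκ0 h
    obtain ⟨c', hc', he'⟩ := hβ κ hκ
    have hew₀ : hB n σ e w₀ = 0 :=
      (image_orth hu p (by omega) β he0 hw₀0 H.ee hw₀ hκ hd hκ0 hd0 he0 hw0 H.ee hw hc' hκ he' h').1 hew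
    have hfix : mat (tr hu w₀ d) *ᵥ e = (1 : F) • e := by
      rw [tr_mulVec hu hw₀ hd, (eq_zero_comm hH).1 hew₀, mul_zero, zero_smul, add_zero, one_smul]
    have hmem : x * (tr hu w₀ d * x⁻¹ * (tr hu w₀ d)⁻¹) ∈ flagFix σ e :=
      mul_mem hx (flagFix_conj hu he0 hfix (inv_mem hx))
    refine orth_of_pow hu p hn (by rw [hB_mat hu]; exact hw) hw hκ hκ0 (k := 2) ?_
    have e1 : tr hu (mat v *ᵥ w) κ * tr hu w (-κ) = v * tr hu w κ * v⁻¹ * (tr hu w κ)⁻¹ := by
      rw [conj_tr hu v hw hκ]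
      congr 1
      refine eq_inv_of_mul_eq_one_left ?_
      rw [tr_mul hu hw (by rw [map_neg]; linear_combination -hκ) hκ, neg_add_cancel]
      exact eS_zero hu hw
    have e2 : mkU (tr hu (mat v *ᵥ w) κ * tr hu w (-κ)) =
        β (mkU (x * (tr hu w₀ d * x⁻¹ * (tr hu w₀ d)⁻¹))) := by
      rw [e1]
      simp only [map_mul, map_inv, hv, h', mul_assoc]
    rw [e2, ← map_pow, ← map_pow, flagFix_pow hu p (by omega) hmem, map_one, map_one]
  obtain ⟨u, hu', huW, hus⟩ := H.exists_frame hu (by omega)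
  set C : Fin (n - 2) → Fin (n - 2) → F := fun i j => hB n σ (mat v *ᵥ u i) (u j) with hC
  have hCij : ∀ i j, i ≠ j → C i j = 0 ∧ C i i = C j j := fun i j hij => by
    obtain ⟨γ₁, γ₂, γ₃, h12, h13, h23, hγ₁, hγ₂, hγ₃⟩ := exists_three_norm_neg_one hu
    have key : ∀ γ : F, γ * σ γ = -1 → C i j * γ ^ 2 + (C i i - C j j) * γ - C j i = 0 := fun γ hγ => by
      have h := horth (u i + γ • u j) (by
        simp [hu' i i, hu' j j, hu' i j, hu' j i, hij, hij.symm]
        linear_combination hγ) (by rw [map_add, map_smul, (huW i).1, (huW j).1, smul_zero, add_zero])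
      simp only [Matrix.mulVec_add, Matrix.mulVec_smul, map_add, map_smulₛₗ, LinearMap.add_apply,
        LinearMap.smul_apply, smul_eq_mul, RingHom.id_apply] at h
      simp only [hC]
      linear_combination γ * h - (γ * hB n σ (mat v *ᵥ u j) (u j) + hB n σ (mat v *ᵥ u j) (u i)) * hγ
    have k1 := key γ₁ hγ₁
    have k2 := key γ₂ hγ₂
    have k3 := key γ₃ hγ₃
    have a1 : C i j * (γ₁ + γ₂) + (C i i - C j j) = 0 :=
      mul_left_cancel₀ (sub_ne_zero.2 h12) (by linear_combination k1 - k2)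
    have a2 : C i j * (γ₁ + γ₃) + (C i i - C j j) = 0 :=
      mul_left_cancel₀ (sub_ne_zero.2 h13) (by linear_combination k1 - k3)
    have hA : C i j = 0 := mul_left_cancel₀ (sub_ne_zero.2 h23) (by linear_combination a1 - a2)
    exact ⟨hA, by linear_combination a1 - (γ₁ + γ₂) * hA⟩
  let i0 : Fin (n - 2) := ⟨0, by omega⟩
  set μ := σ (C i0 i0) with hμ
  have hvb : ∀ j, ∃ t : F, mat v *ᵥ u j = μ • u j + t • e := fun j => by
    have he' : hB n σ e (mat v *ᵥ u j) = 0 := by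
      conv_lhs => rw [← hb]
      rw [hB_mat hu]; exact (huW j).1
    refine ⟨hB n σ f (mat v *ᵥ u j), ?_⟩
    have hp := hus _ (H.proj_mem hu (mat v *ᵥ u j))
    rw [eq_proj (σ := σ) e f (mat v *ᵥ u j), he', zero_smul, add_zero, hp, add_comm]
    congr 1
    · rw [Finset.sum_eq_single j]
      · rw [proj_apply, he', zero_smul, sub_zero, map_sub, map_smul, InW.a_e hu (huW j), smul_zero, sub_zero]
        congr 1
        rw [← hH.symm, hμ]
        congr 1
        by_cases hj : j = i0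
        · rw [hj]
        · exact ((hCij j i0 hj).2)
      · intro i _ hi
        rw [proj_apply, he', zero_smul, sub_zero, map_sub, map_smul, InW.a_e hu (huW i), smul_zero, sub_zero,
          ← hH.symm, show hB n σ (mat v *ᵥ u j) (u i) = C j i from rfl, (hCij j i hi.symm).1, map_zero, zero_smul]
      · simp
    · congr 1
      rw [map_add, map_smul, H.fe hu, ← hp, (H.proj_mem hu _).2]
      simp
  have hμ1 : μ = 1 := by
    obtain ⟨t, ht⟩ := hvb i0
    have hpow : ∀ i : ℕ, ∃ t : F, mat (v ^ i) *ᵥ u i0 = μ ^ i • u i0 + t • e := fun i => by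
      induction i with
      | zero => exact ⟨0, by rw [pow_zero, pow_zero, mat_one_mulVec, one_smul, zero_smul, add_zero]⟩
      | succ i ih =>
        obtain ⟨t', ht'⟩ := ih
        refine ⟨μ ^ i * t + t', ?_⟩
        rw [pow_succ', mat_mul_mulVec, ht', Matrix.mulVec_add, Matrix.mulVec_smul, Matrix.mulVec_smul, hb, ht,
          smul_add, smul_smul, smul_smul, pow_succ, add_smul, add_assoc]
    obtain ⟨t', ht'⟩ := hpow (p ^ 2)
    rw [hvp, mat_one_mulVec] at ht'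
    have h2 := congrArg (hB n σ (u i0)) ht'
    simp only [map_add, map_smul, smul_eq_mul, hu' i0 i0, if_true, InW.a_e hu (huW i0), mul_zero, add_zero,
      mul_one] at h2
    have h3 : (μ - 1) ^ p ^ 2 = 0 := by rw [sub_pow_char_pow, ← h2, one_pow, sub_self]
    exact sub_eq_zero.1 (eq_zero_of_pow_eq_zero h3)
  refine ⟨hb, fun y hy => ?_⟩
  choose t ht using hvb
  have hy' := eq_proj (σ := σ) e f y
  rw [hy, zero_smul, add_zero, hus _ (H.proj_mem hu y)] at hy'
  generalize proj σ e f y = Y at hy'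
  refine ⟨∑ i, hB n σ (u i) Y * t i, ?_⟩
  conv_lhs => rw [hy']
  rw [Matrix.mulVec_add, Matrix.mulVec_smul, hb, Matrix.mulVec_sum]
  conv_rhs => rw [hy']
  rw [Finset.sum_smul, add_assoc, ← Finset.sum_add_distrib]
  congr 1
  refine Finset.sum_congr rfl fun i _ => ?_
  rw [Matrix.mulVec_smul, ht, hμ1, one_smul, smul_add, smul_smul]

/-- Moving the images of a hyperbolic pair back. -/
theorem exists_normalise (hn : 3 ≤ n) (β : MulAut (Cfsg.PSU n F q)) {e f : Vn n F} (H : HP σ e f) :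
    ∃ s : Su n F q, FixPt hu (MulAut.conj (mkU s) * β) e ∧ FixPt hu (MulAut.conj (mkU s) * β) f := by
  obtain ⟨κ, hκ0, hκ⟩ := skew_exists hu
  have hN : ∀ (a c : F), c + σ c = 0 → a * σ a * c + σ (a * σ a * c) = 0 := fun a c hc => by
    rw [map_mul, map_mul, hu.invol]; linear_combination a * σ a * hc
  have hconj : ∀ (s : Su n F q) {v : Vn n F}, hB n σ v v = 0 → ∀ {c : F}, c + σ c = 0 →
      MulAut.conj (mkU s) (mkU (tr hu v c)) = mkU (tr hu (mat s *ᵥ v) c) := fun s v hv c hc => by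
    rw [MulAut.conj_apply, ← map_inv, ← map_mul, ← map_mul, conj_tr hu s hv hc]
  obtain ⟨e', c₁, he'0, he', hc₁, h₁⟩ := image_transvection hu p hn β H.e_ne H.ee hκ
  obtain ⟨f', c₂, hf'0, hf', hc₂, h₂⟩ := image_transvection hu p hn β H.f_ne H.ff hκ
  obtain ⟨s₁, a, ha, hs₁⟩ := exists_su_pt hu he'0 he' H.e_ne H.ee
  have hne : hB n σ e' f' ≠ 0 := fun h0 => one_ne_zero (α := F) (H.ef ▸
    (image_orth hu p (by omega) β H.e_ne H.f_ne H.ee H.ff hκ hκ hκ0 hκ0 he'0 hf'0 he' hf' hc₁ hc₂ h₁ h₂).1 h0)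
  set f₁ := mat s₁ *ᵥ f' with hf₁
  have hef₁ : hB n σ e f₁ ≠ 0 := fun h0 => hne (by
    rw [← hB_mat hu s₁, hs₁, ← hf₁, map_smulₛₗ, LinearMap.smul_apply, h0, smul_zero])
  have hf₁i : hB n σ f₁ f₁ = 0 := by rw [hf₁, hB_mat hu]; exact hf'
  set r := (hB n σ e f₁)⁻¹ with hr
  obtain ⟨s₂, hs₂e, hs₂f⟩ := exists_su_stab hu H.ee (f := r • f₁) (f' := f)
    (by rw [smul_self (hu.isHerm n), hf₁i, mul_zero]) (by rw [map_smul, smul_eq_mul, hr, inv_mul_cancel₀ hef₁])
    H.ff H.ef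
  refine ⟨s₂ * s₁, fixPt_of_image hu p hn H.e_ne H.ee hκ hκ0 (hN a c₁ hc₁) ?_,
    fixPt_of_image hu p hn H.f_ne H.ff hκ hκ0 (hN (r⁻¹) c₂ hc₂) ?_⟩
  · rw [MulAut.mul_apply, h₁, hconj _ he' hc₁, mat_mul_mulVec, hs₁, Matrix.mulVec_smul, hs₂e, tr_smul hu H.ee hc₁]
  · rw [MulAut.mul_apply, h₂, hconj _ hf' hc₂, mat_mul_mulVec, ← hf₁]
    have : mat s₂ *ᵥ f₁ = r⁻¹ • f := by
      rw [← hs₂f, Matrix.mulVec_smul, smul_smul, inv_mul_cancel₀ (inv_ne_zero hef₁), one_smul]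
    rw [this, tr_smul hu H.ff hc₂]

end Cfsg.Agent.AutPSU
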