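import Cfsg.Agent.AutPSU.Points

/-!
A hyperbolic pair of SU_n, the orthogonal frame of its complement, dilations.
-/

set_option autoImplicit false

namespace Cfsg.Agent.AutPSU

open Matrix Classical.Herm

variable {n q : ℕ} {F : Type*} [Field F] {σ : F →+* F}

/-- A hyperbolic pair. -/
structure HP (σ : F →+* F) (e f : Vn n F) : Prop where
  ee : hB n σ e e = 0
  ff : hB n σ f f = 0
  ef : hB n σ e f = 1

theorem HP.e_ne {e f : Vn n F} (H : HP σ e f) : e ≠ 0 := fun h => by
  have := H.ef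
  rw [h, map_zero, LinearMap.zero_apply] at this
  exact zero_ne_one this

theorem HP.f_ne {e f : Vn n F} (H : HP σ e f) : f ≠ 0 := fun h => by
  have := H.ef
  rw [h, map_zero] at this
  exact zero_ne_one this

/-- Orthogonal to both. -/
def InW (σ : F →+* F) (e f a : Vn n F) : Prop := hB n σ e a = 0 ∧ hB n σ f a = 0

theorem InW.add {e f a b : Vn n F} (ha : InW σ e f a) (hb : InW σ e f b) : InW σ e f (a + b) :=
  ⟨by rw [map_add, ha.1, hb.1, add_zero], by rw [map_add, ha.2, hb.2, add_zero]⟩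

theorem InW.smul {e f a : Vn n F} (ha : InW σ e f a) (r : F) : InW σ e f (r • a) :=
  ⟨by rw [map_smul, ha.1, smul_zero], by rw [map_smul, ha.2, smul_zero]⟩

theorem inW_zero {e f : Vn n F} : InW σ e f 0 := ⟨map_zero _, map_zero _⟩

/-- The projection to the complement. -/
def proj (σ : F →+* F) (e f : Vn n F) : Vn n F →ₗ[F] Vn n F :=
  LinearMap.id - (hB n σ f).smulRight e - (hB n σ e).smulRight f

theorem proj_apply (e f x : Vn n F) : proj σ e f x = x - hB n σ f x • e - hB n σ e x • f := rfl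

theorem proj_eq {e f a : Vn n F} (ha : InW σ e f a) : proj σ e f a = a := by
  rw [proj_apply, ha.1, ha.2, zero_smul, zero_smul, sub_zero, sub_zero]

theorem eq_proj (e f x : Vn n F) : x = hB n σ f x • e + hB n σ e x • f + proj σ e f x := by
  rw [proj_apply]; abel

variable [Fintype F] (hu : UCtx σ q)
include hu

theorem HP.fe {e f : Vn n F} (H : HP σ e f) : hB n σ f e = 1 := by
  rw [← (hu.isHerm n).symm, H.ef, map_one]

theorem HP.proj_mem {e f : Vn n F} (H : HP σ e f) (x : Vn n F) : InW σ e f (proj σ e f x) := by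
  constructor <;>
    simp only [proj_apply, map_sub, map_smul, smul_eq_mul, H.ee, H.ef, H.ff, H.fe hu, mul_zero, mul_one, sub_zero,
      sub_self]

theorem InW.a_e {e f a : Vn n F} (ha : InW σ e f a) : hB n σ a e = 0 := (eq_zero_comm (hu.isHerm n)).1 ha.1

theorem InW.a_f {e f a : Vn n F} (ha : InW σ e f a) : hB n σ a f = 0 := (eq_zero_comm (hu.isHerm n)).1 ha.2

theorem HP.isE {e f a : Vn n F} (H : HP σ e f) (ha : InW σ e f a) {d : F} (hd : d + σ d = -hB n σ a a) :
    IsE σ e a d := ⟨H.ee, InW.a_e hu ha, hd⟩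

theorem HP.eS_f {e f a : Vn n F} (H : HP σ e f) (ha : InW σ e f a) {d : F} (hd : d + σ d = -hB n σ a a) :
    mat (eS hu e a d) *ᵥ f = f + a + d • e := by
  rw [eS_mulVec hu (H.isE hu ha hd), H.ef, InW.a_f hu ha, one_smul, mul_one, sub_zero]

theorem HP.eS_inj {e f a b : Vn n F} (H : HP σ e f) (ha : InW σ e f a) (hb : InW σ e f b) {d d' : F}
    (hd : d + σ d = -hB n σ a a) (hd' : d' + σ d' = -hB n σ b b) (h : eS hu e a d = eS hu e b d') :
    a = b ∧ d = d' := by
  have h1 := congrArg (fun z => mat z *ᵥ f) h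
  simp only [H.eS_f hu ha hd, H.eS_f hu hb hd', add_assoc, add_right_inj] at h1
  have h2 := congrArg (hB n σ f) h1
  simp only [map_add, map_smul, smul_eq_mul, ha.2, hb.2, H.fe hu, mul_one, zero_add] at h2
  subst h2
  exact ⟨add_right_cancel h1, rfl⟩

theorem exists_three_norm_neg_one : ∃ γ₁ γ₂ γ₃ : F, γ₁ ≠ γ₂ ∧ γ₁ ≠ γ₃ ∧ γ₂ ≠ γ₃ ∧
    γ₁ * σ γ₁ = -1 ∧ γ₂ * σ γ₂ = -1 ∧ γ₃ * σ γ₃ = -1 := by
  classical
  have hc := Classical.card_norm_fibre hu.toIsInvol (a := (-1 : F)) (by simp) (by simp)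
  rw [hu.card_fix, Nat.card_eq_fintype_card] at hc
  have h3 : 2 < Fintype.card {x : F // x * σ x = -1} := by have := hu.one_lt; omega
  obtain ⟨a, b, c, hab, hac, hbc⟩ := Fintype.two_lt_card_iff.1 h3
  exact ⟨a, b, c, fun h => hab (Subtype.ext h), fun h => hac (Subtype.ext h), fun h => hbc (Subtype.ext h),
    a.2, b.2, c.2⟩

/-- An orthonormal frame of the complement of a hyperbolic pair. -/
theorem HP.exists_frame {e f : Vn n F} (H : HP σ e f) (hn : 2 ≤ n) :
    ∃ b : Fin (n - 2) → Vn n F, Classical.Herm.IsON (hB n σ) b ∧ (∀ i, InW σ e f (b i)) ∧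
      ∀ x, InW σ e f x → x = ∑ i, hB n σ (b i) x • b i := by
  have hH := hu.isHerm n
  obtain ⟨t, ht⟩ := exists_trace hu.toIsInvol (a := (1 : F)) (map_one σ)
  obtain ⟨γ, hγ0, hγ⟩ := exists_neg_one_norm hH
  let u : Fin 2 → Vn n F := ![e + t • f, γ • (e - σ t • f)]
  have hu' : Classical.Herm.IsON (hB n σ) u := by
    intro i j
    fin_cases i <;> fin_cases j <;>
      simp [u, H.ee, H.ff, H.ef, H.fe hu, hu.invol] <;>
      first | linear_combination ht | linear_combination -hγ - γ * σ γ * ht | linear_combination hγ - γ * σ γ * ht | ring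
  obtain ⟨b, hb, hbP, hbs⟩ := exists_compl_frame hH hu' (d := n - 2) (by rw [Module.finrank_fin_fun]; omega)
  have hiff : ∀ x, x ∈ perpOf (hB n σ) u ↔ InW σ e f x := fun x => by
    rw [mem_perpOf]
    constructor
    · intro h
      have h0 := h 0
      have h1 := h 1
      simp [u, hγ0] at h0 h1
      rw [hu.invol] at h1
      have hf : hB n σ f x = 0 := by linear_combination h0 - h1 - (hB n σ f x) * ht
      exact ⟨by linear_combination h0 - σ t * hf, hf⟩
    · intro hx i
      fin_cases i <;> simp [u, hx.1, hx.2]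
  exact ⟨b, hb, fun i => (hiff _).1 (hbP i), fun x hx => hbs x ((hiff x).2 hx)⟩

/-- An isometric linear map gives an element of GU. -/
theorem exists_gu (L : Vn n F →ₗ[F] Vn n F) (hL : ∀ x y, hB n σ (L x) (L y) = hB n σ x y) :
    ∃ g : Cfsg.GU n F q, ∀ x, gmat g.1 *ᵥ x = L x := by
  have hinj : Function.Injective L := (injective_iff_map_eq_zero L).2 fun x hx =>
    (hu.isHerm n).nondeg x fun y => by rw [← hL, hx, map_zero, LinearMap.zero_apply]
  have hunit : IsUnit (LinearMap.toMatrix' L) := by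
    refine Matrix.mulVec_injective_iff_isUnit.1 fun a b h => hinj ?_
    simpa [LinearMap.toMatrix'_mulVec] using h
  refine ⟨⟨hunit.unit, (Classical.mem_GU_iff hu.pow _).2 fun u v => ?_⟩, fun x => ?_⟩
  · show hB n σ (LinearMap.toMatrix' L *ᵥ u) (LinearMap.toMatrix' L *ᵥ v) = _
    rw [LinearMap.toMatrix'_mulVec, LinearMap.toMatrix'_mulVec]
    exact hL u v
  · show LinearMap.toMatrix' L *ᵥ x = L x
    exact LinearMap.toMatrix'_mulVec L x

theorem exists_su_of_gu (g : Cfsg.GU n F q) (hd : (gmat g.1).det = 1) :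
    ∃ s : Su n F q, mat s = gmat g.1 := ⟨⟨⟨gmat g.1, hd⟩, g.2⟩, rfl⟩

/-- A dilation of a hyperbolic pair. -/
theorem HP.exists_dil {e f : Vn n F} (H : HP σ e f) {l : F} (hl : l ≠ 0) :
    ∃ g : Cfsg.GU n F q, gmat g.1 *ᵥ e = l • e ∧ gmat g.1 *ᵥ f = (σ l)⁻¹ • f ∧
      (∀ a, InW σ e f a → gmat g.1 *ᵥ a = a) ∧ (gmat g.1).det = l * (σ l)⁻¹ := by
  classical
  let L : Vn n F →ₗ[F] Vn n F :=
    LinearMap.id + (hB n σ f).smulRight ((l - 1) • e) + (hB n σ e).smulRight (((σ l)⁻¹ - 1) • f)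
  have hLa : ∀ x, L x = x + hB n σ f x • (l - 1) • e + hB n σ e x • ((σ l)⁻¹ - 1) • f := fun x => rfl
  have hsl : σ l ≠ 0 := (map_ne_zero σ).2 hl
  obtain ⟨g, hg⟩ := exists_gu hu L fun x y => by
    simp only [hLa, map_add, map_smulₛₗ, LinearMap.add_apply, LinearMap.smul_apply, smul_eq_mul, RingHom.id_apply,
      H.ee, H.ff, H.ef, H.fe hu, mul_zero, mul_one, add_zero, zero_add, map_sub, map_one, map_inv₀, hu.invol,
      (hu.isHerm n).symm]
    field_simp
    ring
  refine ⟨g, ?_, ?_, fun a ha => ?_, ?_⟩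
  · rw [hg, hLa, H.fe hu, H.ee, one_smul, zero_smul, add_zero, sub_smul, one_smul, add_sub_cancel]
  · rw [hg, hLa, H.ff, H.ef, one_smul, zero_smul, add_zero, sub_smul, one_smul, add_sub_cancel]
  · rw [hg, hLa, ha.1, ha.2, zero_smul, zero_smul, add_zero, add_zero]
  · let U : Matrix (Fin n) (Fin 2) F := Matrix.of fun i j => ![e i, f i] j
    let W : Matrix (Fin 2) (Fin n) F := Matrix.of fun j i => ![(l - 1) * σ (f i), ((σ l)⁻¹ - 1) * σ (e i)] j
    have hM : gmat g.1 = 1 + U * W := by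
      refine Matrix.ext_of_mulVec_single fun i => ?_
      rw [hg, hLa, Matrix.add_mulVec, Matrix.one_mulVec]
      funext j
      simp [U, W, Matrix.mul_apply, Fin.sum_univ_two, Classical.hermB_apply, Pi.single_apply,
        Matrix.mulVec_single_one]
      ring
    have hWU : W * U = Matrix.of ![![(l - 1) * hB n σ f e, (l - 1) * hB n σ f f],
        ![((σ l)⁻¹ - 1) * hB n σ e e, ((σ l)⁻¹ - 1) * hB n σ e f]] := by
      ext a b
      fin_cases a <;> fin_cases b <;>
        simp [U, W, Matrix.mul_apply, Classical.hermB_apply, Finset.mul_sum, mul_assoc]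
    rw [hM, Matrix.det_one_add_mul_comm, hWU, Matrix.det_fin_two]
    simp [H.fe hu, H.ef, H.ee, H.ff]

/-- A dilation of an anisotropic vector. -/
theorem exists_refl {b : Vn n F} (hb : hB n σ b b = 1) {z : F} (hz : z * σ z = 1) :
    ∃ g : Cfsg.GU n F q, gmat g.1 *ᵥ b = z • b ∧ (∀ a, hB n σ b a = 0 → gmat g.1 *ᵥ a = a) ∧
      (gmat g.1).det = z := by
  classical
  let L : Vn n F →ₗ[F] Vn n F := LinearMap.id + (hB n σ b).smulRight ((z - 1) • b)
  have hLa : ∀ x, L x = x + hB n σ b x • (z - 1) • b := fun x => rfl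
  obtain ⟨g, hg⟩ := exists_gu hu L fun x y => by
    simp only [hLa, map_add, map_smulₛₗ, LinearMap.add_apply, LinearMap.smul_apply, smul_eq_mul, RingHom.id_apply,
      hb, mul_one, map_sub, map_one, (hu.isHerm n).symm]
    linear_combination hB n σ x b * hB n σ b y * hz
  refine ⟨g, ?_, fun a ha => ?_, ?_⟩
  · rw [hg, hLa, hb, one_smul, sub_smul, one_smul, add_sub_cancel]
  · rw [hg, hLa, ha, zero_smul, add_zero]
  · let U : Matrix (Fin n) (Fin 1) F := Matrix.of fun i _ => b i
    let W : Matrix (Fin 1) (Fin n) F := Matrix.of fun _ i => (z - 1) * σ (b i)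
    have hM : gmat g.1 = 1 + U * W := by
      refine Matrix.ext_of_mulVec_single fun i => ?_
      rw [hg, hLa, Matrix.add_mulVec, Matrix.one_mulVec]
      funext j
      simp [U, W, Matrix.mul_apply, Classical.hermB_apply, Pi.single_apply, Matrix.mulVec_single_one]
      ring
    rw [hM, Matrix.det_one_add_mul_comm, Matrix.det_fin_one, Matrix.add_apply, Matrix.one_apply_eq]
    have : (W * U) 0 0 = (z - 1) * hB n σ b b := by
      simp [U, W, Matrix.mul_apply, Classical.hermB_apply, Finset.mul_sum, mul_assoc]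
    rw [this, hb, mul_one, add_sub_cancel]

end Cfsg.Agent.AutPSU
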