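import Cfsg.Agent.AutPSU.BalanceReal
import Cfsg.Agent.GraphForms.Dets

/-!
Involutory graph automorphisms of PSU_n: real forms, classes, centralizers and the splitting of classes.
-/

set_option autoImplicit false

namespace Cfsg.Agent.AutPSU

open Matrix Classical.Herm
open GraphForms (simG Sim mval mem_simG scalar_mem det_sq)

variable {n q : ℕ} {F : Type*} [Field F] {F₀ : Type*} [Field F₀] {σ : F →+* F}

/-- Matrices over the subfield. -/
abbrev imap (n : ℕ) (i : F₀ →+* F) : GL (Fin n) F₀ →* GL (Fin n) F := Matrix.GeneralLinearGroup.map i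

/-- The transport of a matrix over the subfield by a real structure. -/
abbrev rpsi (i : F₀ →+* F) (hh : GL (Fin n) F) (e : GL (Fin n) F₀) : GL (Fin n) F := hh * imap n i e * hh⁻¹

/-- A unitary matrix with a real form R. -/
def IsReal (σ : F →+* F) (σe : F ≃+* F) (i : F₀ →+* F) (g : Cfsg.GU n F q) (R : Matrix (Fin n) (Fin n) F₀) : Prop :=
  ∃ (hh : GL (Fin n) F) (k : F) (a : Fˣ), k ≠ 0 ∧ R.map i = k • (sd σ (gmat hh) * gmat hh) ∧
    g.1 = sc n a * (hh * (AutPSL.fieldGL σe hh)⁻¹)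

theorem gmat_sc (a : Fˣ) (x : GL (Fin n) F) : gmat (sc n a * x) = (a : F) • gmat x := by
  show Matrix.scalar (Fin n) (a : F) * gmat x = _
  rw [Matrix.scalar_apply, ← Matrix.smul_one_eq_diagonal, Matrix.smul_mul, Matrix.one_mul]

theorem sc_mid (a : Fˣ) (x y : GL (Fin n) F) : x * (sc n a * y) = sc n a * (x * y) := by
  rw [← mul_assoc, ← AutPSL.scalar_comm a x, mul_assoc]

theorem sc_sc (a b : Fˣ) (x : GL (Fin n) F) : sc n a * (sc n b * x) = sc n (a * b) * x := by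
  rw [← mul_assoc, ← map_mul]

theorem fieldGL_sc (τ : F ≃+* F) (a : Fˣ) :
    AutPSL.fieldGL τ (sc n a) = sc n (Units.map (τ : F →* F) a) := AutPSL.fieldGL_scalar τ a

theorem rpsi_mul (i : F₀ →+* F) (hh : GL (Fin n) F) (e e' : GL (Fin n) F₀) :
    rpsi i hh (e * e') = rpsi i hh e * rpsi i hh e' := by
  simp only [rpsi, map_mul]; group

theorem rpsi_center (hn : 0 < n) (i : F₀ →+* F) (hh : GL (Fin n) F) (b : Fˣ) (e : GL (Fin n) F₀) :
    sc n b * rpsi i hh e ∈ Subgroup.center (GL (Fin n) F) ↔ e ∈ Subgroup.center (GL (Fin n) F₀) := by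
  rw [Subgroup.mul_mem_cancel_left _ (AutPSL.scalar_mem_center b), ← AutPSL.center_comap_map hn i,
    Subgroup.mem_comap]
  refine ⟨fun h => ?_, fun h => (Subgroup.instNormalCenter).conj_mem _ h hh⟩
  have h2 := (Subgroup.instNormalCenter).conj_mem _ h hh⁻¹
  rwa [show hh⁻¹ * rpsi i hh e * hh⁻¹⁻¹ = imap n i e by rw [rpsi]; group] at h2

theorem range_equiv {G X : Type*} [Group G] [Group X] (f : G →* X) (S : Subgroup X) (N : Subgroup G) [N.Normal]
    (hS : f.range = S) (hN : f.ker = N) : Nonempty (↥S ≃* G ⧸ N) := by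
  subst hS
  exact ⟨(QuotientGroup.quotientKerEquivRange f).symm.trans (QuotientGroup.quotientMulEquivOfEq hN)⟩

theorem twist_calc (S : GL (Fin n) F →* GL (Fin n) F) {Z SZ : Fˣ} (a a' : Fˣ) (hZ : S (sc n Z) = sc n SZ)
    (x y : GL (Fin n) F) :
    sc n a' * (x * (S x)⁻¹) = sc n (a' * a⁻¹ * Z⁻¹ * SZ) *
      (sc n Z * (x * y⁻¹) * (sc n a * (y * (S y)⁻¹)) * (S (sc n Z * (x * y⁻¹)))⁻¹) := by
  have hW : (S (sc n Z * (x * y⁻¹)))⁻¹ = sc n SZ⁻¹ * (S (x * y⁻¹))⁻¹ := by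
    rw [map_mul S, hZ, _root_.mul_inv_rev, ← map_inv (Matrix.GeneralLinearGroup.scalar (Fin n)), ← AutPSL.scalar_comm]
  rw [hW, mul_assoc (sc n Z), sc_mid a (x * y⁻¹), sc_sc, mul_assoc (sc n (Z * a)), sc_mid SZ⁻¹, sc_sc, sc_sc,
    show a' * a⁻¹ * Z⁻¹ * SZ * (Z * a) * SZ⁻¹ = a' from Units.ext (by push_cast; field_simp), map_mul S, map_inv S]
  group

theorem gmat_imap (i : F₀ →+* F) (e : GL (Fin n) F₀) : gmat (imap n i e) = (mval e).map i := rfl

variable [Fintype F] (hu : UCtx σ q) {σe : F ≃+* F} (hσe : ∀ x, σe x = σ x) {i : F₀ →+* F}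
  (hi : ∀ x, σ x = x ↔ x ∈ i.range)
include hu hσe hi

omit [Fintype F] hu hσe in
theorem map_fixed (M : Matrix (Fin n) (Fin n) F₀) : sd σ (M.map i) = (M.map i)ᵀ :=
  Matrix.ext fun a b => (hi _).2 ⟨M b a, rfl⟩

omit [Fintype F] hu in
theorem fieldGL_imap (e : GL (Fin n) F₀) : AutPSL.fieldGL σe (imap n i e) = imap n i e :=
  Units.ext (Matrix.ext fun _ _ => (hσe _).trans ((hi _).2 ⟨_, rfl⟩))

omit hσe hi in
theorem conjA_eq_of (hn : 1 ≤ n) {u u' : Cfsg.GU n F q} {z : Fˣ} (h : u.1 = sc n z * u'.1) : conjA u = conjA u' := by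
  have h1 : conjA (u * u'⁻¹) = 1 := conjA_of_scalar hu hn ⟨z, by
    show sc n z = u.1 * u'.1⁻¹
    rw [h, mul_inv_cancel_right]⟩
  rwa [map_mul, map_inv, mul_inv_eq_one] at h1

omit hσe hi in
theorem scalar_of_conjA_eq (p : ℕ) [Fact p.Prime] [CharP F p] (hn : 3 ≤ n) {u u' : Cfsg.GU n F q}
    (h : conjA u = conjA u') : ∃ z : Fˣ, u.1 = sc n z * u'.1 := by
  obtain ⟨z, hz⟩ := (conjA_eq_one_iff hu p hn (g := u * u'⁻¹)).1 (by rw [map_mul, map_inv, h, mul_inv_cancel])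
  exact ⟨z, (eq_mul_inv_iff_mul_eq.1 (show sc n z = u.1 * u'.1⁻¹ from hz)).symm⟩

omit [Fintype F] hu in
/-- The coboundary is unchanged by matrices over the subfield. -/
theorem twist_imap (hh : GL (Fin n) F) (P : GL (Fin n) F₀) :
    hh * imap n i P * (AutPSL.fieldGL σe (hh * imap n i P))⁻¹ = hh * (AutPSL.fieldGL σe hh)⁻¹ := by
  rw [map_mul, fieldGL_imap hσe hi]; group

omit [Fintype F] hu hσe in
/-- The form of a transported matrix. -/
theorem sd_rpsi {R : Matrix (Fin n) (Fin n) F₀} {hh : GL (Fin n) F} {k : F}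
    (hR : R.map i = k • (sd σ (gmat hh) * gmat hh)) (e : GL (Fin n) F₀) :
    k • (sd σ (gmat (rpsi i hh e)) * gmat (rpsi i hh e)) =
      sd σ (gmat hh⁻¹) * ((mval e)ᵀ * R * mval e).map i * gmat hh⁻¹ := by
  have h0 : gmat (rpsi i hh e) = gmat hh * (mval e).map i * gmat hh⁻¹ := rfl
  rw [h0, sd_mul, sd_mul, map_fixed hi, Matrix.map_mul, Matrix.map_mul, hR, Matrix.transpose_map]
  simp only [Matrix.smul_mul, Matrix.mul_smul, Matrix.mul_assoc]

omit [Fintype F] hσe hi in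
theorem sd_one : sd σ (1 : Matrix (Fin n) (Fin n) F) = 1 := by
  rw [sd, Matrix.map_one σ (map_zero σ) (map_one σ), Matrix.transpose_one]

omit [Fintype F] hσe hi in
theorem sd_inv_cancel (hh : GL (Fin n) F) :
    sd σ (gmat hh⁻¹) * (sd σ (gmat hh) * gmat hh) * gmat hh⁻¹ = 1 := by
  rw [← Matrix.mul_assoc, ← sd_mul, Matrix.mul_assoc]
  show sd σ (gmat hh * gmat hh⁻¹) * (gmat hh * gmat hh⁻¹) = 1
  rw [show gmat hh * gmat hh⁻¹ = 1 from Units.mul_inv hh, sd_one hu, Matrix.one_mul]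

/-- A matrix sent to a multiple of itself by the involution is a multiple of a matrix over the subfield. -/
theorem real_of_twist (hn : 1 ≤ n) {E : GL (Fin n) F} {d : Fˣ} (hE : AutPSL.fieldGL σe E = sc n d * E) :
    ∃ (c : Fˣ) (P : GL (Fin n) F₀), E = sc n c * imap n i P := by
  have hent : ∀ s t, σ (gmat E s t) = (d : F) * gmat E s t := fun s t => by
    rw [← hσe]
    have h5 := congrFun (congrFun (congrArg gmat hE) s) t
    rw [gmat_sc] at h5
    exact h5
  obtain ⟨s₀, t₀, hne⟩ : ∃ s t, gmat E s t ≠ 0 := by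
    by_contra hcc
    push Not at hcc
    exact Matrix.GeneralLinearGroup.det_ne_zero E (Matrix.det_eq_zero_of_row_eq_zero ⟨0, hn⟩ (hcc _))
  have hN : σ (d : F) * d = 1 := by
    have h5 := hent s₀ t₀
    have h6 := congrArg σ h5
    rw [hu.invol, map_mul, h5, ← mul_assoc] at h6
    exact mul_right_cancel₀ hne (h6.symm.trans (one_mul _).symm)
  have hσo : orderOf σe = 2 := by
    refine orderOf_eq_prime (RingEquiv.ext fun x => ?_) fun h0 => ?_
    · rw [pow_two, RingAut.mul_apply, hσe, hσe, hu.invol, RingAut.one_apply]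
    · obtain ⟨x, hx⟩ := exists_moved hu.toIsInvol
      exact hx (by rw [← hσe, h0, RingAut.one_apply])
  obtain ⟨c, hc'⟩ := AutPSL.hilbert90_units hσo two_pos (c := d) (by
    rw [Finset.prod_range_succ, Finset.prod_range_one, pow_zero, pow_one, RingAut.one_apply, hσe, mul_comm]
    exact hN)
  rw [hσe] at hc'
  choose M hM using fun s t => (hi ((c : F) * gmat E s t)).1 (by
    rw [map_mul, hent, ← mul_assoc, mul_comm (σ _) (d : F), hc'])
  have hM' : (Matrix.of M).map i = gmat (sc n c * E) := by rw [gmat_sc]; exact Matrix.ext hM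
  have hdet : (Matrix.of M).det ≠ 0 := fun h0 => Matrix.GeneralLinearGroup.det_ne_zero (sc n c * E) (by
    show (gmat (sc n c * E)).det = 0
    rw [← hM', ← RingHom.mapMatrix_apply, ← RingHom.map_det, h0, map_zero])
  refine ⟨c⁻¹, Matrix.GeneralLinearGroup.mkOfDetNeZero _ hdet, ?_⟩
  rw [show imap n i (Matrix.GeneralLinearGroup.mkOfDetNeZero _ hdet) = sc n c * E from Units.ext hM', ← mul_assoc,
    ← map_mul, inv_mul_cancel, map_one, one_mul]

/-- A unitary lift of a similitude. -/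
theorem exists_unit_of_sim {R : Matrix (Fin n) (Fin n) F₀} {hh : GL (Fin n) F} {k : F} (hk : k ≠ 0)
    (hR : R.map i = k • (sd σ (gmat hh) * gmat hh)) {e : GL (Fin n) F₀} {c : F₀ˣ}
    (he : (mval e)ᵀ * R * mval e = (c : F₀) • R) {b : Fˣ} (hb : (b : F) * σ b * i c = 1) :
    sc n b * rpsi i hh e ∈ Cfsg.GU n F q := by
  refine mem_GU_of_sd hu (smul_right_injective _ hk ?_)
  show k • _ = k • (1 : Matrix (Fin n) (Fin n) F)
  rw [gmat_sc, sd_smul, Matrix.smul_mul, Matrix.mul_smul, smul_comm k, smul_comm k, sd_rpsi hi hR, he,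
    show ((c : F₀) • R).map i = i c • R.map i from Matrix.ext fun _ _ => map_mul i _ _, hR]
  simp only [Matrix.mul_smul, Matrix.smul_mul, sd_inv_cancel hu, smul_smul]
  congr 1
  linear_combination k * hb

theorem exists_norm_inv (c : F₀ˣ) : ∃ b : Fˣ, (b : F) * σ b * i c = 1 := by
  obtain ⟨z, hz⟩ := exists_norm hu.toIsInvol (a := (i c)⁻¹) (by rw [map_inv₀, (hi _).2 ⟨_, rfl⟩])
  have hc0 : i (c : F₀) ≠ 0 := (map_ne_zero i).2 c.ne_zero
  have hz0 : z ≠ 0 := fun h0 => inv_ne_zero hc0 (by rw [← hz, h0, zero_mul])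
  exact ⟨Units.mk0 z hz0, by rw [Units.val_mk0, hz, inv_mul_cancel₀ hc0]⟩

section Fixed

variable {g : Cfsg.GU n F q} {R : Matrix (Fin n) (Fin n) F₀} {hh : GL (Fin n) F} {k : F} {a : Fˣ} (hk : k ≠ 0)
  (hR : R.map i = k • (sd σ (gmat hh) * gmat hh)) (hg : g.1 = sc n a * (hh * (AutPSL.fieldGL σe hh)⁻¹))
include hk hR hg

theorem commute_of_rpsi (hn : 1 ≤ n) {u : Cfsg.GU n F q} {b : Fˣ} {e : GL (Fin n) F₀}
    (h : u.1 = sc n b * rpsi i hh e) :
    conjA u * (conjA g * fieldA σe) = conjA g * fieldA σe * conjA u := by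
  rw [mul_assoc (conjA g), conjA_field, ← mul_assoc, ← mul_assoc, ← map_mul, ← map_mul]
  refine congrArg (· * fieldA σe)
    (conjA_eq_of hu hn (z := b * (Units.map (σe : F →* F) b)⁻¹) ?_)
  show u.1 * g.1 = sc n _ * (g.1 * AutPSL.fieldGL σe u.1)
  have key : g.1 * AutPSL.fieldGL σe (rpsi i hh e) = rpsi i hh e * g.1 := by
    rw [hg, rpsi, map_mul, map_mul, map_inv, fieldGL_imap hσe hi, sc_mid, mul_assoc (sc n a)]
    congr 1
    group
  rw [h, map_mul (AutPSL.fieldGL σe), fieldGL_sc, sc_mid, key, sc_sc, inv_mul_cancel_right, mul_assoc]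

theorem real_of_commute (p : ℕ) [Fact p.Prime] [CharP F p] (hn : 3 ≤ n) {u : Cfsg.GU n F q}
    (hc : conjA u * (conjA g * fieldA σe) = conjA g * fieldA σe * conjA u) :
    ∃ (b : Fˣ) (e : GL (Fin n) F₀) (c : F₀ˣ), u.1 = sc n b * rpsi i hh e ∧
      (mval e)ᵀ * R * mval e = (c : F₀) • R ∧ (b : F) * σ b * i c = 1 := by
  rw [mul_assoc (conjA g), conjA_field, ← mul_assoc, ← mul_assoc, ← map_mul, ← map_mul, mul_left_inj] at hc
  obtain ⟨d, hd⟩ := scalar_of_conjA_eq hu p hn hc.symm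
  have hd' : g.1 * AutPSL.fieldGL σe u.1 = sc n d * (u.1 * g.1) := hd
  set E := hh⁻¹ * u.1 * hh with hE
  have hu1 : u.1 = hh * E * hh⁻¹ := by rw [hE]; group
  have hE1 : AutPSL.fieldGL σe E = sc n d * E := by
    rw [hg, mul_assoc (sc n a), sc_mid a u.1, ← mul_assoc (sc n d), ← map_mul, mul_comm d a, map_mul,
      mul_assoc (sc n a), mul_right_inj] at hd'
    calc AutPSL.fieldGL σe E = hh⁻¹ * (hh * (AutPSL.fieldGL σe hh)⁻¹ * AutPSL.fieldGL σe u.1) * AutPSL.fieldGL σe hh := by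
          rw [hE, map_mul, map_mul, map_inv]; group
      _ = hh⁻¹ * (sc n d * (u.1 * hh)) := by rw [hd']; group
      _ = sc n d * E := by rw [sc_mid, hE, mul_assoc hh⁻¹]
  obtain ⟨b, e, hbe⟩ := real_of_twist hu hσe hi (by omega) hE1
  have hue : u.1 = sc n b * rpsi i hh e := by rw [hu1, hbe, sc_mid, rpsi]; group
  have hb0 : (b : F) * σ b ≠ 0 := mul_ne_zero b.ne_zero ((map_ne_zero σ).2 b.ne_zero)
  obtain ⟨c, hc'⟩ := (hi ((b : F) * σ b)⁻¹).1 (by rw [map_inv₀, map_mul, hu.invol, mul_comm])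
  have hc0 : c ≠ 0 := fun h0 => inv_ne_zero hb0 (by rw [← hc', h0, map_zero])
  refine ⟨b, e, Units.mk0 c hc0, hue, Matrix.map_injective i.injective ?_, by
    rw [Units.val_mk0, hc', mul_inv_cancel₀ hb0]⟩
  have h2 := sd_mul_gmat hu u
  rw [hue, gmat_sc, sd_smul, Matrix.smul_mul, Matrix.mul_smul, smul_smul] at h2
  have h3 : sd σ (gmat (rpsi i hh e)) * gmat (rpsi i hh e) = i c • (1 : Matrix (Fin n) (Fin n) F) := by
    rw [← h2, smul_smul, hc', mul_comm (σ (b : F)) b, inv_mul_cancel₀ hb0, one_smul]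
  have h4 := sd_rpsi hi hR e
  rw [h3] at h4
  have e1 : gmat hh⁻¹ * gmat hh = 1 := Units.inv_mul hh
  have e2 : sd σ (gmat hh) * sd σ (gmat hh⁻¹) = 1 := by rw [← sd_mul, e1, sd_one hu]
  show ((mval e)ᵀ * R * mval e).map i = (c • R).map i
  calc ((mval e)ᵀ * R * mval e).map i
      = sd σ (gmat hh) * (sd σ (gmat hh⁻¹) * ((mval e)ᵀ * R * mval e).map i * gmat hh⁻¹) * gmat hh := by
        rw [← Matrix.mul_assoc (sd σ (gmat hh)), ← Matrix.mul_assoc (sd σ (gmat hh)), e2, Matrix.one_mul,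
          Matrix.mul_assoc _ (gmat hh⁻¹) (gmat hh), e1, Matrix.mul_one]
    _ = i c • (k • (sd σ (gmat hh) * gmat hh)) := by
        rw [← h4, smul_smul, smul_smul, Matrix.mul_smul, Matrix.smul_mul, Matrix.mul_one, mul_comm]
    _ = _ := by rw [← hR]; exact (Matrix.ext fun _ _ => map_mul i _ _).symm

theorem centralizer_equiv (p : ℕ) [Fact p.Prime] [CharP F p] (hn : 3 ≤ n) :
    Nonempty (↥(Cfsg.inndiagPSU n F q ⊓ Subgroup.centralizer {(conjA g * fieldA σe : MulAut (Cfsg.PSU n F q))}) ≃*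
      Cfsg.projQuot (simG R)) := by
  have hex : ∀ e : simG R, ∃ (u : Cfsg.GU n F q) (b : Fˣ), u.1 = sc n b * rpsi i hh e.1 := fun e => by
    obtain ⟨c, hc⟩ := mem_simG.1 e.2
    obtain ⟨b, hb⟩ := exists_norm_inv hu hσe hi c
    exact ⟨⟨_, exists_unit_of_sim hu hσe hi hk hR hc hb⟩, b, rfl⟩
  choose U B hU using hex
  have hsame : ∀ (e : simG R) (u : Cfsg.GU n F q) (b : Fˣ), u.1 = sc n b * rpsi i hh e.1 → conjA u = conjA (U e) :=
    fun e u b h => conjA_eq_of hu (by omega) (z := b * (B e)⁻¹) (by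
      rw [h, hU e, sc_sc, inv_mul_cancel_right])
  let Θ : simG R →* MulAut (Cfsg.PSU n F q) := MonoidHom.mk' (fun e => conjA (U e)) fun e e' => by
    rw [← map_mul]
    refine (hsame (e * e') (U e * U e') (B e * B e') ?_).symm
    show (U e).1 * (U e').1 = _
    rw [hU, hU, Subgroup.coe_mul, rpsi_mul, mul_assoc (sc n (B e)), sc_mid, sc_sc]
  have hrange : Θ.range = Cfsg.inndiagPSU n F q ⊓ Subgroup.centralizer {conjA g * fieldA σe} := by
    ext x
    constructor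
    · rintro ⟨e, rfl⟩
      exact Subgroup.mem_inf.2 ⟨conjA_mem _, Subgroup.mem_centralizer_singleton_iff.2
        (commute_of_rpsi hu hσe hi hk hR hg (by omega) (hU e))⟩
    · intro hx
      obtain ⟨hx, hc⟩ := Subgroup.mem_inf.1 hx
      rw [inndiagPSU_eq] at hx
      obtain ⟨u, rfl⟩ := hx
      obtain ⟨b, e, c, hue, hec, -⟩ :=
        real_of_commute hu hσe hi hk hR hg p hn (Subgroup.mem_centralizer_singleton_iff.1 hc)
      exact ⟨⟨e, c, hec⟩, (hsame ⟨e, c, hec⟩ u b hue).symm⟩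
  have hker : Θ.ker = (Cfsg.Geo.scalars (Fin n) F₀).subgroupOf (simG R) := by
    ext e
    rw [MonoidHom.mem_ker]
    show conjA (U e) = 1 ↔ _
    rw [conjA_eq_one_iff hu p hn, Subgroup.mem_subgroupOf, AutPSL.scalars_eq_center, AutPSL.scalars_eq_center, hU]
    exact rpsi_center (by omega) i hh _ _
  exact range_equiv Θ _ _ hrange hker

theorem det_image (p : ℕ) [Fact p.Prime] [CharP F p] (hn : 3 ≤ n) (z : (normHom σ).ker) :
    z ∈ ((Cfsg.inndiagPSU n F q ⊓ Subgroup.centralizer {(conjA g * fieldA σe : MulAut (Cfsg.PSU n F q))}).comap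
        conjA).map (detU hu) ↔
      ∃ (b : Fˣ) (e : GL (Fin n) F₀) (c : F₀ˣ), (mval e)ᵀ * R * mval e = (c : F₀) • R ∧
        (b : F) * σ b * i c = 1 ∧ ((z.1 : Fˣ) : F) = (b : F) ^ n * i (mval e).det := by
  have hdet : ∀ (b : Fˣ) (e : GL (Fin n) F₀),
      (gmat (sc n b * rpsi i hh e)).det = (b : F) ^ n * i (mval e).det := fun b e => by
    rw [gmat_sc, Matrix.det_smul, Fintype.card_fin]
    congr 1
    show (gmat hh * gmat (imap n i e) * gmat hh⁻¹).det = _
    rw [Matrix.det_mul, Matrix.det_mul, mul_right_comm, ← Matrix.det_mul,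
      show gmat hh * gmat hh⁻¹ = 1 from Units.mul_inv hh, Matrix.det_one, one_mul, gmat_imap, ← RingHom.mapMatrix_apply,
      ← RingHom.map_det]
  constructor
  · rintro ⟨u, hu', rfl⟩
    obtain ⟨-, hc⟩ := Subgroup.mem_inf.1 hu'
    obtain ⟨b, e, c, hue, hec, hb⟩ :=
      real_of_commute hu hσe hi hk hR hg p hn (Subgroup.mem_centralizer_singleton_iff.1 hc)
    exact ⟨b, e, c, hec, hb, by rw [detU_coe, hue, hdet]⟩
  · rintro ⟨b, e, c, hec, hb, hz⟩
    refine ⟨⟨_, exists_unit_of_sim hu hσe hi hk hR hec hb⟩, Subgroup.mem_inf.2 ⟨conjA_mem _,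
      Subgroup.mem_centralizer_singleton_iff.2 (commute_of_rpsi hu hσe hi hk hR hg (by omega) rfl)⟩,
      Subtype.ext (Units.ext ?_)⟩
    rw [detU_coe, hdet, hz]

end Fixed

variable {g g' : Cfsg.GU n F q} {R R' : Matrix (Fin n) (Fin n) F₀}

omit [Fintype F] hσe hi in
theorem real_det_ne_zero (h : IsReal σ σe i g R) : R.det ≠ 0 := by
  obtain ⟨hh, k, a, hk, hR, -⟩ := h
  intro h0
  have h1 := congrArg Matrix.det hR
  rw [← RingHom.mapMatrix_apply, ← RingHom.map_det, h0, map_zero, Matrix.det_smul, Matrix.det_mul, sd,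
    Matrix.det_transpose, ← RingHom.mapMatrix_apply, ← RingHom.map_det] at h1
  exact mul_ne_zero (pow_ne_zero _ hk) (mul_ne_zero ((map_ne_zero σ).2 (Matrix.GeneralLinearGroup.det_ne_zero hh))
    (Matrix.GeneralLinearGroup.det_ne_zero hh)) h1.symm

theorem real_unique (hn : 1 ≤ n) (h : IsReal σ σe i g R) (h' : IsReal σ σe i g R') : Sim R R' := by
  have hd' := real_det_ne_zero hu h'
  obtain ⟨hh, k, a, hk, hR, hg⟩ := h
  obtain ⟨hh', k', a', hk', hR', hg'⟩ := h'
  have hE : AutPSL.fieldGL σe (hh⁻¹ * hh') = sc n (a' * a⁻¹) * (hh⁻¹ * hh') := by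
    have h1 : (AutPSL.fieldGL σe hh)⁻¹ = sc n (a⁻¹ * a') * (hh⁻¹ * hh') * (AutPSL.fieldGL σe hh')⁻¹ := by
      calc (AutPSL.fieldGL σe hh)⁻¹ = hh⁻¹ * (sc n a⁻¹ * g.1) := by
            rw [hg, ← mul_assoc (sc n a⁻¹), ← map_mul, inv_mul_cancel, map_one, one_mul, inv_mul_cancel_left]
        _ = _ := by
            rw [hg', sc_mid, sc_mid, ← mul_assoc (sc n a⁻¹), ← map_mul, mul_assoc (sc n _), mul_assoc hh⁻¹]
    rw [map_mul, map_inv, h1, inv_mul_cancel_right, mul_comm a⁻¹]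
  obtain ⟨c, P, hP⟩ := real_of_twist hu hσe hi hn hE
  have hh'eq : hh' = sc n c * (hh * imap n i P) := by rw [← sc_mid, ← hP, mul_inv_cancel_left]
  have key : R'.map i = (k' * (σ (c : F) * c) * k⁻¹) • ((mval P)ᵀ * R * mval P).map i := by
    rw [hR', hh'eq, gmat_sc, sd_smul, Matrix.smul_mul, Matrix.mul_smul, smul_smul, smul_smul,
      show gmat (hh * imap n i P) = gmat hh * (mval P).map i from rfl, sd_mul, map_fixed hi, Matrix.map_mul,
      Matrix.map_mul, hR, Matrix.transpose_map, Matrix.mul_smul, Matrix.smul_mul, smul_smul]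
    rw [show k' * (σ (c : F) * c) * k⁻¹ * k = k' * (σ (c : F) * c) by field_simp,
      show k' * σ (c : F) * c = k' * (σ (c : F) * c) from mul_assoc _ _ _]
    simp only [Matrix.mul_assoc]
  set s := k' * (σ (c : F) * c) * k⁻¹ with hs
  have hs0 : s ≠ 0 := mul_ne_zero (mul_ne_zero hk' (mul_ne_zero ((map_ne_zero σ).2 c.ne_zero) c.ne_zero)) (inv_ne_zero hk)
  obtain ⟨x, y, hne⟩ : ∃ x y, R' x y ≠ 0 := by
    by_contra hcc
    push Not at hcc
    exact hd' (Matrix.det_eq_zero_of_row_eq_zero ⟨0, hn⟩ (hcc _))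
  have hxy : i (R' x y) = s * i (((mval P)ᵀ * R * mval P) x y) := congrFun (congrFun key x) y
  have hB : i (((mval P)ᵀ * R * mval P) x y) ≠ 0 := fun h0 => hne (i.injective (by rw [hxy, h0, mul_zero, map_zero]))
  obtain ⟨t, ht⟩ : s ∈ i.range := ⟨R' x y / ((mval P)ᵀ * R * mval P) x y, by
    rw [map_div₀, hxy, mul_div_assoc, div_self hB, mul_one]⟩
  have ht0 : t ≠ 0 := fun h0 => hs0 (by rw [← ht, h0, map_zero])
  have h2 : R' = t • ((mval P)ᵀ * R * mval P) := Matrix.map_injective i.injective (by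
    show R'.map i = (t • ((mval P)ᵀ * R * mval P)).map i
    rw [key, ← ht]
    exact (Matrix.ext fun _ _ => map_mul i _ _).symm)
  refine ⟨Equiv.refl _, P, (Units.mk0 t ht0)⁻¹, ?_⟩
  rw [h2]
  simp [ht0]

theorem real_conj (h : IsReal σ σe i g R) (u : Cfsg.GU n F q) :
    IsReal σ σe i (u * g * fieldGU σe u⁻¹) R := by
  obtain ⟨hh, k, a, hk, hR, hg⟩ := h
  refine ⟨u.1 * hh, k, a, hk, ?_, ?_⟩
  · show _ = k • (sd σ (gmat u.1 * gmat hh) * (gmat u.1 * gmat hh))
    rw [sd_mul, Matrix.mul_assoc, ← Matrix.mul_assoc (sd σ (gmat u.1)), sd_mul_gmat hu, Matrix.one_mul, hR]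
  · show u.1 * g.1 * AutPSL.fieldGL σe u.1⁻¹ = _
    rw [hg, sc_mid, map_mul, map_inv, mul_assoc (sc n a)]
    congr 1
    group

omit hu hσe hi in
theorem conj_graph (u g : Cfsg.GU n F q) (τ : F ≃+* F) :
    conjA u * (conjA g * fieldA τ) * (conjA u)⁻¹ = conjA (u * g * fieldGU τ u⁻¹) * fieldA τ := by
  rw [← map_inv conjA u, mul_assoc (conjA u), mul_assoc (conjA g), conjA_field, ← mul_assoc, ← mul_assoc,
    ← map_mul, ← map_mul]

theorem conjUnder_iff (p : ℕ) [Fact p.Prime] [CharP F p] (hn : 3 ≤ n) (h : IsReal σ σe i g R)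
    (h' : IsReal σ σe i g' R') :
    Cfsg.IsConjUnder (Cfsg.inndiagPSU n F q) (conjA g * fieldA σe) (conjA g' * fieldA σe) ↔ Sim R R' := by
  constructor
  · rintro ⟨x, hx, he⟩
    rw [inndiagPSU_eq] at hx
    obtain ⟨u, rfl⟩ := hx
    rw [conj_graph, mul_left_inj] at he
    obtain ⟨z, hz⟩ := scalar_of_conjA_eq hu p hn he
    obtain ⟨hh, k, a, hk, hR, hg⟩ := real_conj hu hσe hi h u
    refine real_unique hu hσe hi (by omega) (g := g') ⟨hh, k, z * a, hk, hR, ?_⟩ h'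
    rw [hz, hg, sc_sc]
  · intro hs
    have hd := real_det_ne_zero hu h'
    obtain ⟨hh, k, a, hk, hR, hg⟩ := h
    obtain ⟨hh', k', a', hk', hR', hg'⟩ := h'
    obtain ⟨e, P, c, hP⟩ := hs
    obtain ⟨Q, c₁, hQ⟩ : ∃ (Q : GL (Fin n) F₀) (c₁ : F₀ˣ), (mval Q)ᵀ * R * mval Q = (c₁ : F₀) • R' := by
      let E : Matrix (Fin n) (Fin n) F₀ := (1 : Matrix (Fin n) (Fin n) F₀).submatrix e id
      have hE : E.det ≠ 0 := by
        rw [show E = (1 : Matrix (Fin n) (Fin n) F₀).submatrix e id from rfl, Matrix.det_permute]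
        rcases Int.units_eq_one_or (Equiv.Perm.sign e) with h | h <;> simp [h]
      refine ⟨P * (Matrix.GeneralLinearGroup.mkOfDetNeZero E hE)⁻¹, c, ?_⟩
      have h1 : R'.submatrix e.symm e.symm = Eᵀ * R' * E := by
        ext r s
        rw [Matrix.mul_apply, Finset.sum_eq_single (e.symm s), Matrix.mul_apply, Finset.sum_eq_single (e.symm r)]
        · simp [E, Matrix.one_apply]
        · intro b _ hb
          simp [E, mt (fun h : e b = r => show b = e.symm r by rw [← h, e.symm_apply_apply]) hb]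
        · simp
        · intro b _ hb
          simp [E, mt (fun h : e b = s => show b = e.symm s by rw [← h, e.symm_apply_apply]) hb]
        · simp
      set Eu := Matrix.GeneralLinearGroup.mkOfDetNeZero E hE
      calc (mval (P * Eu⁻¹))ᵀ * R * mval (P * Eu⁻¹)
          = (mval Eu⁻¹)ᵀ * ((mval P)ᵀ * R * mval P) * mval Eu⁻¹ := by
            simp only [mval, Units.val_mul, Matrix.transpose_mul, Matrix.mul_assoc]
        _ = _ := by
            rw [hP, h1, Matrix.mul_smul, Matrix.smul_mul,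
              show (mval Eu⁻¹)ᵀ * (Eᵀ * R' * E) * mval Eu⁻¹ = (mval Eu * mval Eu⁻¹)ᵀ * R' * (mval Eu * mval Eu⁻¹) by
                simp only [Matrix.transpose_mul, Matrix.mul_assoc]; rfl,
              Units.mul_inv, Matrix.transpose_one, Matrix.one_mul, Matrix.mul_one]
    set H := hh * imap n i Q with hH
    have hic : i (c₁ : F₀) ≠ 0 := (map_ne_zero i).2 c₁.ne_zero
    have hRH : R'.map i = (k / i c₁) • (sd σ (gmat H) * gmat H) := by
      have h1 : i c₁ • R'.map i = k • (sd σ (gmat H) * gmat H) := by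
        rw [show i (c₁ : F₀) • R'.map i = ((c₁ : F₀) • R').map i from (Matrix.ext fun _ _ => map_mul i _ _).symm, ← hQ,
          hH, show gmat (hh * imap n i Q) = gmat hh * (mval Q).map i from rfl, sd_mul, map_fixed hi,
          Matrix.map_mul, Matrix.map_mul, hR, Matrix.transpose_map, Matrix.mul_smul, Matrix.smul_mul]
        simp only [Matrix.mul_assoc]
      rw [div_eq_inv_mul, ← smul_smul, ← h1, smul_smul, inv_mul_cancel₀ hic, one_smul]
    set k₁ := k / i (c₁ : F₀)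
    have hk₁ : k₁ ≠ 0 := div_ne_zero hk hic
    -- compare the two hermitian matrices
    set t := k₁ / k' with ht
    have ht0 : t ≠ 0 := div_ne_zero hk₁ hk'
    have hcmp : sd σ (gmat hh') * gmat hh' = t • (sd σ (gmat H) * gmat H) := by
      rw [ht, div_eq_inv_mul, ← smul_smul, ← hRH, hR', smul_smul, inv_mul_cancel₀ hk', one_smul]
    have htfix : σ t = t := by
      have h1 := congrArg (sd σ) hcmp
      rw [sd_smul, sd_mul, sd_mul, sd_sd hu, sd_sd hu, hcmp] at h1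
      refine (smul_left_injective F ?_ h1).symm
      intro h0
      have h2 := congrArg Matrix.det h0
      haveI : Nonempty (Fin n) := ⟨⟨0, by omega⟩⟩
      rw [Matrix.det_mul, Matrix.det_zero, sd, Matrix.det_transpose, ← RingHom.mapMatrix_apply, ← RingHom.map_det]
        at h2
      exact mul_ne_zero ((map_ne_zero σ).2 (Matrix.GeneralLinearGroup.det_ne_zero H))
        (Matrix.GeneralLinearGroup.det_ne_zero H) h2
    obtain ⟨z, hz⟩ := exists_norm hu.toIsInvol (a := t⁻¹) (by rw [map_inv₀, htfix])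
    have hz0 : z ≠ 0 := fun h0 => inv_ne_zero ht0 (by rw [← hz, h0, zero_mul])
    have hmem : sc n (Units.mk0 z hz0) * (hh' * H⁻¹) ∈ Cfsg.GU n F q := mem_GU_of_sd hu (by
      rw [gmat_sc, sd_smul, Matrix.smul_mul, Matrix.mul_smul, smul_smul, Units.val_mk0, mul_comm (σ z), hz,
        show gmat (hh' * H⁻¹) = gmat hh' * gmat H⁻¹ from rfl, sd_mul,
        show sd σ (gmat H⁻¹) * sd σ (gmat hh') * (gmat hh' * gmat H⁻¹) =
          sd σ (gmat H⁻¹) * (sd σ (gmat hh') * gmat hh') * gmat H⁻¹ by simp only [Matrix.mul_assoc],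
        hcmp, Matrix.mul_smul, Matrix.smul_mul, sd_inv_cancel hu, smul_smul, inv_mul_cancel₀ ht0, one_smul])
    set u : Cfsg.GU n F q := ⟨_, hmem⟩
    refine ⟨conjA u, conjA_mem u, ?_⟩
    rw [conj_graph]
    refine congrArg (· * fieldA σe) (conjA_eq_of hu (by omega)
      (z := a' * a⁻¹ * (Units.mk0 z hz0)⁻¹ * Units.map (σe : F →* F) (Units.mk0 z hz0)) ?_)
    show g'.1 = sc n _ * (u.1 * g.1 * AutPSL.fieldGL σe u.1⁻¹)
    rw [show g.1 = sc n a * (H * (AutPSL.fieldGL σe H)⁻¹) by rw [hH, twist_imap hσe hi, hg],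
      show u.1 = sc n (Units.mk0 z hz0) * (hh' * H⁻¹) from rfl, hg', map_inv (AutPSL.fieldGL σe)]
    exact twist_calc (AutPSL.fieldGL σe) a a' (fieldGL_sc σe _) hh' H

omit hu hσe hi in
/-- The square of a semilinear automorphism. -/
theorem graph_sq (g : Cfsg.GU n F q) (τ : F ≃+* F) :
    (conjA g * fieldA τ : MulAut (Cfsg.PSU n F q)) ^ 2 = conjA (g * fieldGU τ g) * fieldA (τ * τ) := by
  rw [pow_two, map_mul conjA, map_mul fieldA, mul_assoc (conjA g) (fieldA τ), ← mul_assoc (fieldA τ) (conjA g),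
    conjA_field]
  group

theorem graph_cases (p : ℕ) [Fact p.Prime] [CharP F p] {γ : MulAut (Cfsg.PSU n F q)}
    (hγ : Cfsg.IsGraphAutClassPSU γ) (ho : orderOf γ = 2) :
    ∃ (g : Cfsg.GU n F q) (R : Matrix (Fin n) (Fin n) F₀), γ = conjA g * fieldA σe ∧ (Rᵀ = R ∨ Rᵀ = -R) ∧
      IsReal σ σe i g R := by
  obtain ⟨hn, δ, φ, τ, hev, hδ, hφ, rfl⟩ := hγ
  obtain ⟨g, rfl⟩ := isInnerDiagonal_iff.1 hδ
  obtain rfl := isFieldAutOf_iff.1 hφ
  have h1 := pow_orderOf_eq_one (conjA g * fieldA τ : MulAut (Cfsg.PSU n F q))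
  rw [ho, graph_sq] at h1
  obtain ⟨hττ, hscal⟩ := eq_one_of_conj_field hu p hn h1
  have hτo : orderOf τ = 2 := orderOf_eq_prime (by rw [pow_two]; exact hττ) fun h => by
    rw [h, orderOf_one] at hev
    exact Nat.not_even_one hev
  obtain ⟨m, hm', hm⟩ := FiniteField.card F p
  obtain rfl : τ = σe := by
    have hσo : orderOf σe = 2 := by
      refine orderOf_eq_prime (RingEquiv.ext fun x => ?_) fun h0 => ?_
      · rw [pow_two, RingAut.mul_apply, hσe, hσe, hu.invol, RingAut.one_apply]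
      · obtain ⟨x, hx⟩ := exists_moved hu.toIsInvol
        exact hx (by rw [← hσe, h0, RingAut.one_apply])
    exact RingEquiv.ext fun x => ((AutPSL.involution_eq_frobenius (p := p) (f := m) m.pos hm hτo).2 x).trans
      ((AutPSL.involution_eq_frobenius (p := p) (f := m) m.pos hm hσo).2 x).symm
  have htw : AutPSL.twN τ g.1 2 ∈ Subgroup.center (GL (Fin n) F) := by
    rw [AutPSL.scalars_eq_center] at hscal
    show g.1 * AutPSL.fieldGL τ (g.1 * AutPSL.fieldGL τ 1) ∈ _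
    rwa [map_one, mul_one]
  obtain ⟨a, hh, hg⟩ := AutPSL.exists_coboundary (by omega) hτo g.1 htw
  have hkτ : gmat g.1 * (gmat hh).map σ = (a : F) • gmat hh := by
    have h : g.1 * AutPSL.fieldGL τ hh = sc n a * hh := by rw [hg, mul_assoc, inv_mul_cancel_right]
    rw [← gmat_sc, ← h]
    exact congrArg (gmat g.1 * ·) (Matrix.ext fun _ _ => (hσe _).symm)
  set ν : F := σ a * a with hν
  set G := sd σ (gmat hh) * gmat hh with hGd
  have hGσ : G.map σ = ν • G := by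
    have h1 : sd σ (gmat g.1 * (gmat hh).map σ) * (gmat g.1 * (gmat hh).map σ) = G.map σ := by
      rw [sd_mul, Matrix.mul_assoc, ← Matrix.mul_assoc (sd σ (gmat g.1)), sd_mul_gmat hu, Matrix.one_mul,
        show sd σ ((gmat hh).map σ) = (sd σ (gmat hh)).map σ from rfl, hGd, ← Matrix.map_mul]
    rw [← h1, hkτ, sd_smul, Matrix.smul_mul, Matrix.mul_smul, smul_smul]
  have hGT : Gᵀ = ν • G := by
    have h1 : sd σ G = G := by rw [hGd, sd_mul, sd_sd hu]
    rw [← hGσ]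
    conv_lhs => rw [← h1, sd, Matrix.transpose_transpose]
  have hGij : ∀ x y, σ (G x y) = ν * G x y := fun x y => congrFun (congrFun hGσ x) y
  obtain ⟨x₀, y₀, hne⟩ : ∃ x y, G x y ≠ 0 := by
    by_contra hc
    push Not at hc
    have h0 : G.det = 0 := Matrix.det_eq_zero_of_row_eq_zero ⟨0, by omega⟩ (hc _)
    rw [hGd, Matrix.det_mul, sd, Matrix.det_transpose, ← RingHom.mapMatrix_apply, ← RingHom.map_det] at h0
    exact mul_ne_zero ((map_ne_zero σ).2 (Matrix.GeneralLinearGroup.det_ne_zero hh))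
      (Matrix.GeneralLinearGroup.det_ne_zero hh) h0
  have hνν : ν * ν = 1 := by
    have h1 := congrArg σ (hGij x₀ y₀)
    rw [hu.invol, map_mul, hν, map_mul, hu.invol, mul_comm (a : F), ← hν, hGij, ← mul_assoc] at h1
    exact mul_right_cancel₀ hne (h1.symm.trans (one_mul _).symm)
  obtain ⟨k, hk, hkν⟩ : ∃ k : F, k ≠ 0 ∧ σ k * ν = k := by
    rcases mul_self_eq_one_iff.1 hνν with h | h
    · exact ⟨1, one_ne_zero, by rw [map_one, one_mul, h]⟩
    · obtain ⟨κ, hκ0, hκ⟩ := skew_exists hu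
      exact ⟨κ, hκ0, by rw [h]; linear_combination -hκ⟩
  choose R hR using fun x y => (hi (k * G x y)).1 (by rw [map_mul, hGij, ← mul_assoc, hkν])
  refine ⟨g, Matrix.of R, rfl, ?_, hh, k, a, hk, Matrix.ext hR, hg⟩
  have hT : ∀ x y, i (R y x) = ν * i (R x y) := fun x y => by
    rw [hR, hR, show G y x = ν * G x y from congrFun (congrFun hGT x) y]
    ring
  rcases mul_self_eq_one_iff.1 hνν with h | h
  · exact Or.inl (Matrix.ext fun x y => i.injective (by simpa [h] using hT x y))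
  · exact Or.inr (Matrix.ext fun x y => i.injective (by simpa [h] using hT x y))

theorem isReal_one : IsReal σ σe i (1 : Cfsg.GU n F q) (1 : Matrix (Fin n) (Fin n) F₀) :=
  ⟨1, 1, 1, one_ne_zero, by
    rw [one_smul, Matrix.map_one i (map_zero i) (map_one i)]
    show 1 = sd σ 1 * 1
    rw [sd_one hu, Matrix.mul_one],
    by simp⟩

theorem graph_of_real (p : ℕ) [Fact p.Prime] [CharP F p] (hn : 3 ≤ n) (h : IsReal σ σe i g R) :
    Cfsg.IsGraphAutClassPSU (conjA g * fieldA σe : MulAut (Cfsg.PSU n F q)) ∧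
      orderOf (conjA g * fieldA σe : MulAut (Cfsg.PSU n F q)) = 2 := by
  obtain ⟨hh, k, a, hk, hR, hg⟩ := h
  have hσ1 : σe ≠ 1 := fun h0 => by
    obtain ⟨x, hx⟩ := exists_moved hu.toIsInvol
    exact hx (by rw [← hσe, h0, RingAut.one_apply])
  have hσσ : σe * σe = 1 := RingEquiv.ext fun x => by rw [RingAut.mul_apply, hσe, hσe, hu.invol, RingAut.one_apply]
  have hσo : orderOf σe = 2 := orderOf_eq_prime (by rw [pow_two]; exact hσσ) hσ1
  refine ⟨⟨hn, conjA g, fieldA σe, σe, by rw [hσo]; exact even_two, isInnerDiagonal_iff.2 ⟨g, rfl⟩,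
    isFieldAutOf_iff.2 rfl, rfl⟩, orderOf_eq_prime ?_ fun h0 => hσ1 (eq_one_of_conj_field hu p hn h0).1⟩
  rw [graph_sq, hσσ, map_one, mul_one, conjA_eq_one_iff hu p hn, AutPSL.scalars_eq_center]
  show g.1 * AutPSL.fieldGL σe g.1 ∈ _
  have h2 : AutPSL.fieldGL σe (AutPSL.fieldGL σe hh) = hh := by
    rw [AutPSL.fieldGL_fieldGL, hσσ, AutPSL.fieldGL_one]
  rw [hg, map_mul, fieldGL_sc, map_mul, map_inv, h2, sc_mid, mul_assoc (sc n a), mul_assoc hh, inv_mul_cancel_left,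
    mul_inv_cancel, mul_one, ← map_mul]
  exact AutPSL.scalar_mem_center _

theorem exists_rep {κ : Type} [Fintype κ] [DecidableEq κ] {M : Matrix κ κ F₀} (hd : M.det ≠ 0)
    (hc : Fintype.card κ = n) (hs : Mᵀ = M ∨ Mᵀ = -M) :
    ∃ (g : Cfsg.GU n F q) (R : Matrix (Fin n) (Fin n) F₀), IsReal σ σe i g R ∧ Sim R M := by
  let e : κ ≃ Fin n := (Fintype.equivFin κ).trans (finCongr hc)
  set R := M.submatrix e.symm e.symm with hRd
  have hfix : ∀ x, σ (i x) = i x := fun x => (hi _).2 ⟨x, rfl⟩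
  obtain ⟨ε, k, hk, hε, hεε, hsym⟩ : ∃ (ε : F₀) (k : F), k ≠ 0 ∧ σ k = i ε * k ∧ ε * ε = 1 ∧ Rᵀ = ε • R := by
    rcases hs with h | h
    · exact ⟨1, 1, one_ne_zero, by simp, one_mul 1, by rw [hRd, Matrix.transpose_submatrix, h, one_smul]⟩
    · obtain ⟨κ', hκ0, hκ⟩ := skew_exists hu
      refine ⟨-1, κ', hκ0, by rw [map_neg, map_one]; linear_combination hκ, by ring, ?_⟩
      rw [hRd, Matrix.transpose_submatrix, h, neg_one_smul]
      rfl
  have hσo : orderOf σe = 2 := by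
    refine orderOf_eq_prime (RingEquiv.ext fun x => ?_) fun h0 => ?_
    · rw [pow_two, RingAut.mul_apply, hσe, hσe, hu.invol, RingAut.one_apply]
    · obtain ⟨x, hx⟩ := exists_moved hu.toIsInvol
      exact hx (by rw [← hσe, h0, RingAut.one_apply])
  have hie : i ε * i ε = 1 := by rw [← map_mul, hεε, map_one]
  obtain ⟨h', hh'⟩ := AutPSL.hermitian_exists hσo (k⁻¹ • R.map i) (by
    rw [Matrix.det_smul, ← RingHom.mapMatrix_apply, ← RingHom.map_det, hRd, Matrix.det_submatrix_equiv_self]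
    exact mul_ne_zero (pow_ne_zero _ (inv_ne_zero hk)) ((map_ne_zero i).2 hd)) (by
    ext x y
    have h1 : R y x = ε * R x y := congrFun (congrFun hsym x) y
    show σe (k⁻¹ * i (R y x)) = k⁻¹ * i (R x y)
    rw [hσe, map_mul, map_inv₀, hfix, hε, h1, map_mul, mul_inv, inv_eq_of_mul_eq_one_right hie]
    linear_combination k⁻¹ * i (R x y) * hie)
  -- the real structure
  obtain ⟨hh, hhh⟩ : ∃ hh : GL (Fin n) F, gmat hh = sd σ (gmat h') :=
    ⟨Matrix.GeneralLinearGroup.mkOfDetNeZero (sd σ (gmat h')) (by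
      rw [sd, Matrix.det_transpose, ← RingHom.mapMatrix_apply, ← RingHom.map_det, map_ne_zero]
      exact Matrix.GeneralLinearGroup.det_ne_zero h'), rfl⟩
  have hG : R.map i = k • (sd σ (gmat hh) * gmat hh) := by
    rw [hhh, sd_sd hu, show sd σ (gmat h') = ((gmat h')ᵀ).map σe from Matrix.ext fun _ _ => (hσe _).symm, ← hh',
      smul_smul, mul_inv_cancel₀ hk, one_smul]
  obtain ⟨a, ha⟩ := exists_norm hu.toIsInvol (a := i ε) (hfix ε)
  have ha0 : a ≠ 0 := fun h0 => left_ne_zero_of_mul_eq_one hie (by rw [← ha, h0, zero_mul])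
  set S := AutPSL.fieldGL σe hh with hS
  have hSG : sd σ (gmat S) * gmat S = i ε • (sd σ (gmat hh) * gmat hh) := by
    have h1 : sd σ (gmat S) * gmat S = (sd σ (gmat hh) * gmat hh).map σ := by
      have e : gmat S = (gmat hh).map σ := Matrix.ext fun _ _ => hσe _
      rw [e, show sd σ ((gmat hh).map σ) = (sd σ (gmat hh)).map σ from rfl, Matrix.map_mul]
    have h2 : (sd σ (gmat hh) * gmat hh) = k⁻¹ • R.map i := by rw [hG, smul_smul, inv_mul_cancel₀ hk, one_smul]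
    rw [h1, h2]
    ext x y
    show σ (k⁻¹ * i (R x y)) = i ε * (k⁻¹ * i (R x y))
    rw [map_mul, map_inv₀, hfix, hε, mul_inv, inv_eq_of_mul_eq_one_right hie]
    ring
  have hmem : sc n (Units.mk0 a ha0) * (hh * S⁻¹) ∈ Cfsg.GU n F q := mem_GU_of_sd hu (by
    rw [gmat_sc, sd_smul, Matrix.smul_mul, Matrix.mul_smul, smul_smul, Units.val_mk0, mul_comm (σ a), ha,
      show gmat (hh * S⁻¹) = gmat hh * gmat S⁻¹ from rfl, sd_mul,
      show sd σ (gmat S⁻¹) * sd σ (gmat hh) * (gmat hh * gmat S⁻¹) =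
        sd σ (gmat S⁻¹) * (sd σ (gmat hh) * gmat hh) * gmat S⁻¹ by simp only [Matrix.mul_assoc]]
    have h3 : sd σ (gmat hh) * gmat hh = i ε • (sd σ (gmat S) * gmat S) := by rw [hSG, smul_smul, hie, one_smul]
    rw [h3, Matrix.mul_smul, Matrix.smul_mul, sd_inv_cancel hu, smul_smul, hie, one_smul])
  exact ⟨⟨_, hmem⟩, R, ⟨hh, k, Units.mk0 a ha0, hk, hG, rfl⟩, Sim.of_eq e rfl⟩

end Cfsg.Agent.AutPSU
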