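import Cfsg.Agent.AutPSU.Graph

/-!
The splitting of the classes of involutory graph automorphisms of PSU_n, and the common setup.
-/

set_option autoImplicit false

namespace Cfsg.Agent.AutPSU

open Matrix Classical.Herm
open GraphForms (simG Sim mval mem_simG)

variable {n q : ℕ} {F : Type*} [Field F] [Fintype F] {F₀ : Type*} [Field F₀]

/-- The involution, its equivalence and the embedding of a field with q elements. -/
theorem exists_setup (hF : Fintype.card F = q ^ 2) [Fintype F₀] (hF₀ : Fintype.card F₀ = q) :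
    ∃ (p : ℕ) (σ : F →+* F) (σe : F ≃+* F) (i : F₀ →+* F), p.Prime ∧ CharP F p ∧ UCtx σ q ∧
      (∀ x, σe x = σ x) ∧ ∀ x, σ x = x ↔ x ∈ i.range := by
  obtain ⟨p, _⟩ := CharP.exists F
  have hp : p.Prime := CharP.char_is_prime F p
  haveI : Fact p.Prime := ⟨hp⟩
  obtain ⟨σ, hu⟩ := exists_uctx hF
  let σe : F ≃+* F := { σ with invFun := σ, left_inv := hu.invol, right_inv := hu.invol }
  have hσe : ∀ x, σe x = σ x := fun _ => rfl
  have hσo : orderOf σe = 2 := by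
    refine orderOf_eq_prime (RingEquiv.ext fun x => ?_) fun h0 => ?_
    · rw [pow_two, RingAut.mul_apply, hσe, hσe, hu.invol, RingAut.one_apply]
    · obtain ⟨x, hx⟩ := exists_moved hu.toIsInvol
      exact hx (by rw [← hσe, h0, RingAut.one_apply])
  obtain ⟨m, -, hm⟩ := FiniteField.card F p
  obtain ⟨hev, -⟩ := AutPSL.involution_eq_frobenius (p := p) (f := m) m.pos hm hσo
  obtain ⟨i, hi⟩ := AutPSL.exists_fixed_embedding hm hσo hev.two_dvd F₀ (by
    refine Nat.pow_left_injective two_ne_zero ?_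
    show Fintype.card F₀ ^ 2 = (p ^ ((m : ℕ) / 2)) ^ 2
    rw [hF₀, ← hF, ← pow_mul, Nat.div_mul_cancel hev.two_dvd, hm])
  exact ⟨p, σ, σe, i, hp, inferInstance, hu, hσe, fun x => by rw [← hσe]; exact hi x⟩

variable {σ : F →+* F} (hu : UCtx σ q) {σe : F ≃+* F} (hσe : ∀ x, σe x = σ x) {i : F₀ →+* F}
  (hi : ∀ x, σ x = x ↔ x ∈ i.range) (p : ℕ) [Fact p.Prime] [CharP F p] (hn : 3 ≤ n)
  {g : Cfsg.GU n F q} {R : Matrix (Fin n) (Fin n) F₀} (h : IsReal σ σe i g R)
include hu hσe hi p hn h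

theorem real_centralizer :
    Nonempty (↥(Cfsg.inndiagPSU n F q ⊓ Subgroup.centralizer {(conjA g * fieldA σe : MulAut (Cfsg.PSU n F q))}) ≃*
      Cfsg.projQuot (simG R)) := by
  obtain ⟨hh, k, a, hk, hR, hg⟩ := h
  exact centralizer_equiv hu hσe hi hk hR hg p hn

theorem split_eq :
    ∃ H : Subgroup (normHom σ).ker,
      Cfsg.splitClassCount (Cfsg.inndiagPSU n F q) (Cfsg.Inn (Cfsg.PSU n F q)) (conjA g * fieldA σe) =
        ((powMonoidHom n : (normHom σ).ker →* (normHom σ).ker).range ⊔ H).index ∧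
      ∀ z, z ∈ H ↔ ∃ (b : Fˣ) (e : GL (Fin n) F₀) (c : F₀ˣ), (mval e)ᵀ * R * mval e = (c : F₀) • R ∧
        (b : F) * σ b * i c = 1 ∧ ((z.1 : Fˣ) : F) = (b : F) ^ n * i (mval e).det := by
  obtain ⟨hh, k, a, hk, hR, hg⟩ := h
  refine ⟨_, ?_, det_image hu hσe hi hk hR hg p hn⟩
  rw [AutPSL.splitClassCount_eq_relIndex _ _ inn_le_inndiag, ← relIndex_eq hu p hn]
  congr 2
  exact (Subgroup.map_comap_eq_self (inf_le_left.trans_eq (inndiagPSU_eq (n := n) (F := F) (q := q)))).symm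

theorem split_symp {m : ℕ} (hs : Sim R (Matrix.J (Fin m) F₀)) :
    Cfsg.splitClassCount (Cfsg.inndiagPSU n F q) (Cfsg.Inn (Cfsg.PSU n F q)) (conjA g * fieldA σe) =
      Nat.gcd m (q + 1) := by
  have hnm : n = 2 * m := by
    have := hs.card_eq
    simp at this
    omega
  have hN : Nat.card (normHom σ).ker = q + 1 := by rw [card_ker_normHom hu.toIsInvol, hu.card_fix]
  obtain ⟨H, hH, hmem⟩ := split_eq hu hσe hi p hn h
  rw [hH]
  refine GraphForms.index_range_pow hN _ ⟨2, by omega⟩ (fun z hz => ?_) fun z hz => Subgroup.mem_sup_right ?_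
  · obtain ⟨b, e, c, hec, hb, hz'⟩ := (hmem z).1 hz
    obtain ⟨e', he', hd⟩ := hs.det_pair.1 ⟨e, hec, rfl⟩
    rw [← hd, GraphForms.symp_det he', map_pow, hnm, pow_mul, ← mul_pow] at hz'
    have hc0 : i (c : F₀) ≠ 0 := (map_ne_zero i).2 c.ne_zero
    have hfix : σ (i (c : F₀)) = i c := (hi _).2 ⟨_, rfl⟩
    refine ⟨⟨Units.mk0 ((b : F) ^ 2 * i c) (mul_ne_zero (pow_ne_zero _ b.ne_zero) hc0), Units.ext ?_⟩,
      Subtype.ext (Units.ext hz'.symm)⟩
    show (b : F) ^ 2 * i c * σ ((b : F) ^ 2 * i c) = 1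
    rw [map_mul, map_pow, hfix]
    linear_combination ((b : F) * σ b * i c + 1) * hb
  · obtain ⟨w, rfl⟩ := hz
    have hσo : orderOf σe = 2 := by
      refine orderOf_eq_prime (RingEquiv.ext fun x => ?_) fun h0 => ?_
      · rw [pow_two, RingAut.mul_apply, hσe, hσe, hu.invol, RingAut.one_apply]
      · obtain ⟨x, hx⟩ := exists_moved hu.toIsInvol
        exact hx (by rw [← hσe, h0, RingAut.one_apply])
    obtain ⟨b, hb⟩ := AutPSL.hilbert90_units hσo two_pos (c := (w.1 : Fˣ)) (by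
      rw [Finset.prod_range_succ, Finset.prod_range_one, pow_zero, pow_one, RingAut.one_apply, hσe]
      exact norm_ker_val hu w)
    rw [hσe] at hb
    have hb0 : (b : F) * σ b ≠ 0 := mul_ne_zero b.ne_zero ((map_ne_zero σ).2 b.ne_zero)
    obtain ⟨c, hc⟩ := (hi ((b : F) * σ b)⁻¹).1 (by rw [map_inv₀, map_mul, hu.invol, mul_comm])
    have hc0 : c ≠ 0 := fun h0 => inv_ne_zero hb0 (by rw [← hc, h0, map_zero])
    obtain ⟨e', he'⟩ := GraphForms.symp_exists (m := m) (Units.mk0 c hc0)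
    obtain ⟨e, he, hd⟩ := hs.det_pair.2 ⟨e', he', rfl⟩
    refine (hmem _).2 ⟨b, e, Units.mk0 c hc0, he, by rw [Units.val_mk0, hc, mul_inv_cancel₀ hb0], ?_⟩
    rw [hd, GraphForms.symp_det he', Units.val_mk0, map_pow, hc, hnm, pow_mul, ← mul_pow]
    show ((w.1 : Fˣ) : F) ^ m = _
    congr 1
    have h1 : (b : F) ≠ 0 := b.ne_zero
    have h2 : σ (b : F) ≠ 0 := (map_ne_zero σ).2 b.ne_zero
    field_simp
    linear_combination hb

theorem split_small
    (hsq : ∀ (e : GL (Fin n) F₀) (c : F₀ˣ), (mval e)ᵀ * R * mval e = (c : F₀) • R → IsSquare (c : F₀))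
    (hneg : Odd n ∨ (-1 : F₀) = 1) :
    Cfsg.splitClassCount (Cfsg.inndiagPSU n F q) (Cfsg.Inn (Cfsg.PSU n F q)) (conjA g * fieldA σe) =
      Nat.gcd n (q + 1) := by
  have hN : Nat.card (normHom σ).ker = q + 1 := by rw [card_ker_normHom hu.toIsInvol, hu.card_fix]
  have hd := real_det_ne_zero hu h
  obtain ⟨H, hH, hmem⟩ := split_eq hu hσe hi p hn h
  rw [hH]
  refine GraphForms.index_range_pow hN _ dvd_rfl (fun z hz => ?_) fun z hz => Subgroup.mem_sup_left hz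
  obtain ⟨b, e, c, hec, hb, hz'⟩ := (hmem z).1 hz
  obtain ⟨t, ht⟩ := hsq e c hec
  have h1 := GraphForms.det_sq hd hec
  rw [Fintype.card_fin, ht, show (t * t) ^ n = (t ^ n) ^ 2 by ring] at h1
  have ht0 : t ≠ 0 := fun h0 => c.ne_zero (by rw [ht, h0, mul_zero])
  obtain ⟨s, hs, hdet⟩ : ∃ s : F₀, s * s = t * t ∧ (mval e).det = s ^ n := by
    rcases sq_eq_sq_iff_eq_or_eq_neg.1 h1 with h | h
    · exact ⟨t, rfl, h⟩
    · rcases hneg with ho | h1'
      · exact ⟨-t, neg_mul_neg t t, by rw [ho.neg_pow, h]⟩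
      · exact ⟨t, rfl, by rw [h, ← neg_one_mul (t ^ n), h1', one_mul]⟩
  have hfix : σ (i s) = i s := (hi _).2 ⟨_, rfl⟩
  have hs0 : i s ≠ 0 := (map_ne_zero i).2 fun h0 => mul_ne_zero ht0 ht0 (by rw [← hs, h0, mul_zero])
  refine ⟨⟨Units.mk0 ((b : F) * i s) (mul_ne_zero b.ne_zero hs0), Units.ext ?_⟩, Subtype.ext (Units.ext ?_)⟩
  · show (b : F) * i s * σ ((b : F) * i s) = 1
    have h5 : i s * i s = i c := by rw [ht, ← hs, map_mul]
    rw [map_mul, hfix]
    linear_combination hb + (b : F) * σ b * h5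
  · show ((b : F) * i s) ^ n = _
    rw [hz', hdet, map_pow, mul_pow]

theorem split_orth [Finite F₀] (h2 : (2 : F₀) ≠ 0) {m : ℕ} (hnm : n = 2 * m) (hT : Rᵀ = R) :
    Cfsg.splitClassCount (Cfsg.inndiagPSU n F q) (Cfsg.Inn (Cfsg.PSU n F q)) (conjA g * fieldA σe) =
      Nat.gcd n (q + 1) / 2 := by
  have hN : Nat.card (normHom σ).ker = q + 1 := by rw [card_ker_normHom hu.toIsInvol, hu.card_fix]
  have hd := real_det_ne_zero hu h
  have hσ1 : σ (-1 : F) = -1 := by rw [map_neg, map_one]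
  let z₀ : (normHom σ).ker := ⟨-1, Units.ext (by
    show ((-1 : Fˣ) : F) * σ ((-1 : Fˣ) : F) = 1
    rw [Units.val_neg, Units.val_one, hσ1]; ring)⟩
  have hz : orderOf z₀ = 2 := orderOf_eq_prime (Subtype.ext (by show (-1 : Fˣ) ^ 2 = 1; simp)) fun h0 => h2 (by
    have h1 := congrArg (fun z : (normHom σ).ker => ((z.1 : Fˣ) : F)) h0
    simp only [z₀, Units.val_neg, OneMemClass.coe_one, Units.val_one] at h1
    refine i.injective ?_
    rw [map_ofNat, map_zero]
    linear_combination -h1)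
  obtain ⟨H, hH, hmem⟩ := split_eq hu hσe hi p hn h
  rw [hH]
  conv_rhs => rw [hnm, ← GraphForms.index_pow_sup_two hN m hz]
  congr 1
  have hex : ∀ (b : Fˣ) (c : F₀ˣ) (δ : F₀), (b : F) * σ b * i c = 1 → δ ^ 2 = (c : F₀) ^ n →
      ∀ z : (normHom σ).ker, ((z.1 : Fˣ) : F) = (b : F) ^ n * i δ → z ∈ H := by
    intro b c δ hb hδ z hz'
    obtain ⟨e, he, hd'⟩ := GraphForms.orth_exists h2 hT hd (by rw [Fintype.card_fin]; exact ⟨m, by omega⟩)
      (by rw [Fintype.card_fin]; omega) (c := (c : F₀)) (δ := δ) (by rw [Fintype.card_fin]; exact hδ) c.ne_zero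
    exact (hmem z).2 ⟨b, e, c, he, hb, by rw [hd']; exact hz'⟩
  refine le_antisymm (sup_le ?_ ?_) (sup_le ?_ ?_)
  · rintro _ ⟨x, rfl⟩
    exact Subgroup.mem_sup_left ⟨x ^ 2, by simp [powMonoidHom_apply, ← pow_mul, hnm.symm]⟩
  · intro z hz
    obtain ⟨b, e, c, hec, hb, hz'⟩ := (hmem z).1 hz
    have h1 := GraphForms.det_sq hd hec
    rw [Fintype.card_fin, show (c : F₀) ^ n = ((c : F₀) ^ m) ^ 2 by rw [hnm, mul_comm, pow_mul]] at h1
    have hc0 : i (c : F₀) ≠ 0 := (map_ne_zero i).2 c.ne_zero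
    have hfix : σ (i (c : F₀)) = i c := (hi _).2 ⟨_, rfl⟩
    let w : (normHom σ).ker := ⟨Units.mk0 ((b : F) ^ 2 * i c) (mul_ne_zero (pow_ne_zero _ b.ne_zero) hc0),
      Units.ext (by
        show (b : F) ^ 2 * i c * σ ((b : F) ^ 2 * i c) = 1
        rw [map_mul, map_pow, hfix]
        linear_combination ((b : F) * σ b * i c + 1) * hb)⟩
    have hw : (((w ^ m).1 : Fˣ) : F) = (b : F) ^ n * i ((c : F₀) ^ m) := by
      show ((b : F) ^ 2 * i c) ^ m = _
      rw [mul_pow, ← pow_mul, map_pow, hnm]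
    rcases sq_eq_sq_iff_eq_or_eq_neg.1 h1 with h | h
    · exact Subgroup.mem_sup_left ⟨w, Subtype.ext (Units.ext (by rw [hz', h, ← hw]; rfl))⟩
    · have e : z = w ^ m * z₀ := Subtype.ext (Units.ext (by
        rw [hz', h, Subgroup.coe_mul, Units.val_mul, hw, map_neg]
        show _ = _ * ((-1 : Fˣ) : F)
        rw [Units.val_neg, Units.val_one]
        ring))
      rw [e]
      exact mul_mem (Subgroup.mem_sup_left ⟨w, rfl⟩) (Subgroup.mem_sup_right (Subgroup.mem_zpowers _))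
  · rintro _ ⟨w, rfl⟩
    have hσo : orderOf σe = 2 := by
      refine orderOf_eq_prime (RingEquiv.ext fun x => ?_) fun h0 => ?_
      · rw [pow_two, RingAut.mul_apply, hσe, hσe, hu.invol, RingAut.one_apply]
      · obtain ⟨x, hx⟩ := exists_moved hu.toIsInvol
        exact hx (by rw [← hσe, h0, RingAut.one_apply])
    obtain ⟨b, hb⟩ := AutPSL.hilbert90_units hσo two_pos (c := (w.1 : Fˣ)) (by
      rw [Finset.prod_range_succ, Finset.prod_range_one, pow_zero, pow_one, RingAut.one_apply, hσe]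
      exact norm_ker_val hu w)
    rw [hσe] at hb
    have hb0 : (b : F) * σ b ≠ 0 := mul_ne_zero b.ne_zero ((map_ne_zero σ).2 b.ne_zero)
    obtain ⟨c, hc⟩ := (hi ((b : F) * σ b)⁻¹).1 (by rw [map_inv₀, map_mul, hu.invol, mul_comm])
    have hc0 : c ≠ 0 := fun h0 => inv_ne_zero hb0 (by rw [← hc, h0, map_zero])
    refine Subgroup.mem_sup_right (hex b (Units.mk0 c hc0) (c ^ m) (by rw [Units.val_mk0, hc, mul_inv_cancel₀ hb0])
      (by rw [Units.val_mk0, ← pow_mul, hnm, mul_comm]) _ ?_)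
    show ((w.1 : Fˣ) : F) ^ m = _
    rw [map_pow, hc, hnm, pow_mul, ← mul_pow]
    congr 1
    have h2' : σ (b : F) ≠ 0 := (map_ne_zero σ).2 b.ne_zero
    have h1' : (b : F) ≠ 0 := b.ne_zero
    field_simp
    linear_combination hb
  · rw [Subgroup.zpowers_le]
    exact Subgroup.mem_sup_right (hex 1 1 (-1) (by simp) (by simp) _ (by simp [z₀]))

end Cfsg.Agent.AutPSU
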