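import Cfsg.Agent.AutPSU.Flag

/-!
The map induced on the Heisenberg quotient by an automorphism fixing a hyperbolic pair of isotropic points.
-/

set_option autoImplicit false

namespace Cfsg.Agent.AutPSU

open Matrix Classical.Herm

variable {n q : ℕ} {F : Type*} [Field F] [Fintype F] {σ : F →+* F} (hu : UCtx σ q)
include hu

omit [Fintype F] in
theorem K_skew (u v : Vn n F) :
    (hB n σ v u - hB n σ u v) + σ (hB n σ v u - hB n σ u v) = 0 := by
  rw [map_sub, (hu.isHerm n).symm, (hu.isHerm n).symm]; ring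

omit [Fintype F] in
theorem eq_zero_of_fixed_multiples {X : F} (h : ∀ r : F, σ (r * X) = r * X) : X = 0 := by
  by_contra hX
  obtain ⟨b, hb⟩ := exists_moved hu.toIsInvol
  have h1 := h 1
  rw [one_mul] at h1
  have h2 := h b
  rw [map_mul, h1] at h2
  exact hb (mul_right_cancel₀ hX h2)

/-- The map induced on the Heisenberg quotient. -/
def IsPar (β : MulAut (Cfsg.PSU n F q)) (e f : Vn n F) (φ : Vn n F → Vn n F) : Prop :=
  ∀ a, InW σ e f a → InW σ e f (φ a) ∧ ∀ d, d + σ d = -hB n σ a a →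
    ∃ d', d' + σ d' = -hB n σ (φ a) (φ a) ∧ β (mkU (eS hu e a d)) = mkU (eS hu e (φ a) d')

variable (p : ℕ) [Fact p.Prime] [CharP F p] (hn : 3 ≤ n) {e f : Vn n F} (H : HP σ e f)
include p hn H

theorem eS_mkU_inj {a b : Vn n F} (ha : InW σ e f a) (hb : InW σ e f b) {d d' : F}
    (hd : d + σ d = -hB n σ a a) (hd' : d' + σ d' = -hB n σ b b)
    (h : mkU (eS hu e a d) = mkU (eS hu e b d')) : a = b ∧ d = d' :=
  H.eS_inj hu ha hb hd hd' (eq_of_mkU_eq p hu (by omega) (eS_pow hu p (by omega) (H.isE hu ha hd))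
    (eS_pow hu p (by omega) (H.isE hu hb hd')) h)

theorem tr_mkU_inj {c c' : F} (hc : c + σ c = 0) (hc' : c' + σ c' = 0)
    (h : mkU (tr hu e c) = mkU (tr hu e c')) : c = c' :=
  (eS_mkU_inj hu p hn H inW_zero inW_zero (by simp [hc]) (by simp [hc']) h).2

theorem exists_par {β : MulAut (Cfsg.PSU n F q)} (hβe : FixPt hu β e) : ∃ φ, IsPar hu β e f φ := by
  have key : ∀ a, InW σ e f a → ∃ a', InW σ e f a' ∧ ∀ d, d + σ d = -hB n σ a a →
      ∃ d', d' + σ d' = -hB n σ a' a' ∧ β (mkU (eS hu e a d)) = mkU (eS hu e a' d') := by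
    intro a ha
    obtain ⟨d₀, hd₀⟩ := exists_d hu a
    obtain ⟨v, hv, hv'⟩ := image_flag hu p hn H hβe (eS_mem_flagFix hu (H.isE hu ha hd₀))
    obtain ⟨a', d', hfa, hE, rfl⟩ := flagFix_eq hu H.ee H.ff H.ef hv
    have ha' : InW σ e f a' := ⟨hE.ea hu, hfa⟩
    refine ⟨a', ha', fun d hd => ?_⟩
    have hc : (d - d₀) + σ (d - d₀) = 0 := by rw [map_sub]; linear_combination hd - hd₀
    obtain ⟨c', hc', hcc⟩ := hβe _ hc
    refine ⟨d' + c', by rw [map_add]; linear_combination hE.tr + hc', ?_⟩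
    have e1 : eS hu e a d = eS hu e a d₀ * tr hu e (d - d₀) := by
      rw [tr, eS_mul hu (H.isE hu ha hd₀) (isE_zero H.ee hc)]
      simp
    rw [e1, map_mul, map_mul, hv', hcc, ← map_mul, tr, eS_mul hu hE (isE_zero H.ee hc')]
    simp
  choose! φ hφ using key
  exact ⟨φ, hφ⟩

variable {β : MulAut (Cfsg.PSU n F q)} {φ : Vn n F → Vn n F} (hφ : IsPar hu β e f φ)
include hφ

theorem IsPar.mem {a : Vn n F} (ha : InW σ e f a) : InW σ e f (φ a) := (hφ a ha).1

theorem IsPar.unique {a b : Vn n F} (ha : InW σ e f a) (hb : InW σ e f b) {d d' : F}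
    (hd : d + σ d = -hB n σ a a) (hd' : d' + σ d' = -hB n σ b b)
    (h : β (mkU (eS hu e a d)) = mkU (eS hu e b d')) : φ a = b := by
  obtain ⟨hm, h2⟩ := hφ a ha
  obtain ⟨d'', hd'', h3⟩ := h2 d hd
  exact (eS_mkU_inj hu p hn H hm hb hd'' hd' (h3.symm.trans h)).1

theorem IsPar.add {a b : Vn n F} (ha : InW σ e f a) (hb : InW σ e f b) : φ (a + b) = φ a + φ b := by
  obtain ⟨d, hd⟩ := exists_d hu a
  obtain ⟨d', hd'⟩ := exists_d hu b
  obtain ⟨x, hx, hx'⟩ := (hφ a ha).2 d hd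
  obtain ⟨y, hy, hy'⟩ := (hφ b hb).2 d' hd'
  have hE := H.isE hu ha hd
  have hE' := H.isE hu hb hd'
  have hF := H.isE hu (IsPar.mem hu p hn H hφ ha) hx
  have hF' := H.isE hu (IsPar.mem hu p hn H hφ hb) hy
  refine IsPar.unique hu p hn H hφ (ha.add hb) ((IsPar.mem hu p hn H hφ ha).add (IsPar.mem hu p hn H hφ hb))
    (hE.mul hu hE').tr (hF.mul hu hF').tr ?_
  rw [← eS_mul hu hE hE', ← eS_mul hu hF hF', map_mul, map_mul, map_mul, hx', hy']

theorem IsPar.zero : φ 0 = 0 := by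
  have h := IsPar.add hu p hn H hφ (inW_zero (e := e) (f := f)) inW_zero
  rw [add_zero] at h
  exact left_eq_add.1 h

theorem IsPar.symm_left {ψ : Vn n F → Vn n F} (hψ : IsPar hu β.symm e f ψ) {a : Vn n F} (ha : InW σ e f a) :
    ψ (φ a) = a := by
  obtain ⟨d, hd⟩ := exists_d hu a
  obtain ⟨hm, h2⟩ := hφ a ha
  obtain ⟨d', hd', h3⟩ := h2 d hd
  exact IsPar.unique hu p hn H hψ hm ha hd' hd (by rw [← h3, MulEquiv.symm_apply_apply])

theorem IsPar.surj (hβe : FixPt hu β e) {b : Vn n F} (hb : InW σ e f b) : ∃ a, InW σ e f a ∧ φ a = b := by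
  obtain ⟨ψ, hψ⟩ := exists_par hu p hn H (fixPt_symm hu p hn H.e_ne H.ee hβe)
  obtain ⟨d, hd⟩ := exists_d hu b
  obtain ⟨hm, h2⟩ := hψ b hb
  obtain ⟨d', hd', h3⟩ := h2 d hd
  exact ⟨ψ b, hm, IsPar.unique hu p hn H hφ hm hb hd' hd (by rw [← h3, MulEquiv.apply_symm_apply])⟩

theorem IsPar.eq_zero (hβe : FixPt hu β e) {a : Vn n F} (ha : InW σ e f a) (h : φ a = 0) : a = 0 := by
  obtain ⟨ψ, hψ⟩ := exists_par hu p hn H (fixPt_symm hu p hn H.e_ne H.ee hβe)
  rw [← IsPar.symm_left hu p hn H hφ hψ ha, h]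
  exact IsPar.zero hu p hn H hψ

theorem IsPar.comm {a b : Vn n F} (ha : InW σ e f a) (hb : InW σ e f b) :
    β (mkU (tr hu e (hB n σ b a - hB n σ a b))) =
      mkU (tr hu e (hB n σ (φ b) (φ a) - hB n σ (φ a) (φ b))) := by
  obtain ⟨d, hd⟩ := exists_d hu a
  obtain ⟨d', hd'⟩ := exists_d hu b
  obtain ⟨x, hx, hx'⟩ := (hφ a ha).2 d hd
  obtain ⟨y, hy, hy'⟩ := (hφ b hb).2 d' hd'
  have key : ∀ {u v : Vn n F} {s t : F}, IsE σ e u s → IsE σ e v t →
      tr hu e (hB n σ v u - hB n σ u v) = eS hu e u s * eS hu e v t * (eS hu e v t * eS hu e u s)⁻¹ := by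
    intro u v s t h h'
    rw [eq_mul_inv_iff_mul_eq, eS_mul hu h' h, eS_mul hu h h', tr,
      eS_mul hu (isE_zero h.ee (K_skew hu u v)) (h'.mul hu h)]
    simp only [map_zero, LinearMap.zero_apply, sub_zero, zero_add]
    congr 1
    · exact add_comm v u
    · ring
  rw [key (H.isE hu ha hd) (H.isE hu hb hd'),
    key (H.isE hu (IsPar.mem hu p hn H hφ ha) hx) (H.isE hu (IsPar.mem hu p hn H hφ hb) hy)]
  simp only [map_mul, map_inv, hx', hy']

theorem IsPar.comm_eq {a b a' b' : Vn n F} (ha : InW σ e f a) (hb : InW σ e f b) (ha' : InW σ e f a')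
    (hb' : InW σ e f b') (h : hB n σ b a - hB n σ a b = hB n σ b' a' - hB n σ a' b') :
    hB n σ (φ b) (φ a) - hB n σ (φ a) (φ b) = hB n σ (φ b') (φ a') - hB n σ (φ a') (φ b') :=
  tr_mkU_inj hu p hn H (K_skew hu _ _) (K_skew hu _ _)
    (by rw [← IsPar.comm hu p hn H hφ ha hb, h, IsPar.comm hu p hn H hφ ha' hb'])

theorem IsPar.comm_zero {a b : Vn n F} (ha : InW σ e f a) (hb : InW σ e f b) (h : hB n σ a b = 0) :
    σ (hB n σ (φ a) (φ b)) = hB n σ (φ a) (φ b) := by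
  have h1 := IsPar.comm_eq hu p hn H hφ ha hb (inW_zero (e := e) (f := f)) inW_zero
    (by rw [(eq_zero_comm (hu.isHerm n)).1 h, h]; simp)
  rw [IsPar.zero hu p hn H hφ] at h1
  simp only [map_zero, LinearMap.zero_apply, sub_zero] at h1
  rw [(hu.isHerm n).symm]
  linear_combination h1

theorem commute_eS_tr_iff {a : Vn n F} (ha : InW σ e f a) {d : F} (hd : d + σ d = -hB n σ a a) {w : Vn n F}
    (hw0 : w ≠ 0) (hwW : InW σ e f w) (hw : hB n σ w w = 0) {c : F} (hc : c + σ c = 0) (hc0 : c ≠ 0) :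
    Commute (mkU (eS hu e a d)) (mkU (tr hu w c)) ↔ hB n σ a w = 0 := by
  have hE := H.isE hu ha hd
  constructor
  · intro h
    have h1 := commute_of_mkU p hu (by omega) (eS_pow hu p (by omega) hE) h
    have h2 : tr hu (mat (eS hu e a d) *ᵥ w) c = tr hu w c := by
      rw [← conj_tr hu _ hw hc, h1.eq, mul_inv_cancel_right]
    obtain ⟨r, hr⟩ := tr_inj hu hw0 hw (by rw [hB_mat hu]; exact hw) hc hc hc0 h2.symm
    rw [eS_mulVec hu hE, hwW.1] at hr
    have h3 := congrArg (hB n σ f) hr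
    simpa [hwW.2, H.fe hu] using h3
  · intro h
    exact (eS_tr_commute hu hE hw hc hwW.1 h).map mkU

/-- Isotropic lines of the complement go to isotropic lines, preserving orthogonality. -/
theorem IsPar.line (hβe : FixPt hu β e) (hβf : FixPt hu β f) {w : Vn n F} (hw0 : w ≠ 0)
    (hwW : InW σ e f w) (hw : hB n σ w w = 0) :
    φ w ≠ 0 ∧ hB n σ (φ w) (φ w) = 0 ∧ (∀ r : F, ∃ r' : F, φ (r • w) = r' • φ w) ∧
      (∀ a, InW σ e f a → (hB n σ a w = 0 ↔ hB n σ (φ a) (φ w) = 0)) ∧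
      ∀ c, c + σ c = 0 → ∃ c', c' + σ c' = 0 ∧ β (mkU (tr hu w c)) = mkU (tr hu (φ w) c') := by
  have hH := hu.isHerm n
  obtain ⟨κ, hκ0, hκ⟩ := skew_exists hu
  obtain ⟨w', c', hw'0, hw', hc', h⟩ := image_transvection hu p hn β hw0 hw hκ
  have hc'0 : c' ≠ 0 := param_ne_zero hu p (by omega) β hw0 hw hw' hκ hκ0 h
  obtain ⟨ce, hce, hce'⟩ := hβe κ hκ
  obtain ⟨cf, hcf, hcf'⟩ := hβf κ hκ
  have hW' : InW σ e f w' :=
    ⟨(image_orth hu p (by omega) β H.e_ne hw0 H.ee hw hκ hκ hκ0 hκ0 H.e_ne hw'0 H.ee hw' hce hc' hce' h).2 hwW.1,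
     (image_orth hu p (by omega) β H.f_ne hw0 H.ff hw hκ hκ hκ0 hκ0 H.f_ne hw'0 H.ff hw' hcf hc' hcf' h).2 hwW.2⟩
  have hiff : ∀ a, InW σ e f a → (hB n σ a w = 0 ↔ hB n σ (φ a) w' = 0) := fun a ha => by
    obtain ⟨d, hd⟩ := exists_d hu a
    obtain ⟨hm, h2⟩ := hφ a ha
    obtain ⟨d', hd', h3⟩ := h2 d hd
    rw [← commute_eS_tr_iff hu p hn H hφ ha hd hw0 hwW hw hκ hκ0,
      ← commute_eS_tr_iff hu p hn H hφ hm hd' hw'0 hW' hw' hc' hc'0, ← h3, ← h]
    exact ⟨fun h => h.map β, fun h => by simpa using h.map β.symm⟩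
  have hline : ∀ r : F, ∃ r' : F, φ (r • w) = r' • w' := fun r => by
    have hrW := hwW.smul r
    refine perp_perp hu hw'0 fun y hy => ?_
    have hm := IsPar.mem hu p hn H hφ hrW
    refine eq_zero_of_fixed_multiples hu fun s => ?_
    have hsy : InW σ e f (proj σ e f (s • y)) := H.proj_mem hu _
    obtain ⟨b, hb, hb'⟩ := IsPar.surj hu p hn H hφ hβe hsy
    have hproj : ∀ v, InW σ e f v → ∀ x, hB n σ v (proj σ e f x) = hB n σ v x := fun v hv x => by
      rw [proj_apply, map_sub, map_sub, map_smul, map_smul, InW.a_e hu hv, InW.a_f hu hv, smul_zero, smul_zero,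
        sub_zero, sub_zero]
    have hwb : hB n σ b w = 0 := by
      rw [hiff b hb, hb', eq_zero_comm hH, hproj _ hW', map_smul, hy, smul_zero]
    have h0 : hB n σ (r • w) b = 0 := by
      rw [map_smulₛₗ, LinearMap.smul_apply, (eq_zero_comm hH).1 hwb, smul_zero]
    have := IsPar.comm_zero hu p hn H hφ hrW hb h0
    rw [hb', hproj _ hm, map_smul, smul_eq_mul] at this
    exact this
  obtain ⟨a, ha⟩ := hline 1
  rw [one_smul] at ha
  have ha0 : a ≠ 0 := fun h0 => hw0 (IsPar.eq_zero hu p hn H hφ hβe hwW (by rw [ha, h0, zero_smul]))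
  refine ⟨by rw [ha]; exact smul_ne_zero ha0 hw'0, by rw [ha, smul_self hH, hw', mul_zero], fun r => ?_,
    fun b hb => ?_, fun c hc => ?_⟩
  · obtain ⟨r', hr'⟩ := hline r
    exact ⟨r' * a⁻¹, by rw [hr', ha, smul_smul, mul_assoc, inv_mul_cancel₀ ha0, mul_one]⟩
  · rw [hiff b hb, ha, map_smul, smul_eq_mul, mul_eq_zero, or_iff_right ha0]
  · by_cases hc0 : c = 0
    · refine ⟨0, by simp, ?_⟩
      rw [hc0, show tr hu w (0 : F) = 1 from eS_zero hu hw, map_one, map_one,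
        show tr hu (φ w) (0 : F) = 1 from eS_zero hu (by rw [ha, smul_self hH, hw', mul_zero]), map_one]
    obtain ⟨w'', c'', hw''0, hw'', hc'', h''⟩ := image_transvection hu p hn β hw0 hw hc
    obtain ⟨b, hb⟩ := image_same_point hu p hn β hw0 hw hκ hc hκ0 hc0 hw'0 hw''0 hw' hw'' hc' hc'' h h''
    have hbw : w'' = (b * a⁻¹) • φ w := by
      rw [hb, ha, smul_smul, mul_assoc, inv_mul_cancel₀ ha0, mul_one]
    refine ⟨b * a⁻¹ * σ (b * a⁻¹) * c'', ?_, ?_⟩
    · simp only [map_mul, hu.invol]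
      linear_combination b * a⁻¹ * (σ b * σ a⁻¹) * hc''
    · rw [h'', hbw, tr_smul hu (by rw [ha, smul_self hH, hw', mul_zero]) hc'']

end Cfsg.Agent.AutPSU
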