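import Cfsg.Agent.AutPSU.Eichler

/-!
Automorphisms of PSU_n map transvections to transvections and preserve orthogonality of isotropic points.
-/

set_option autoImplicit false

namespace Cfsg.Agent.AutPSU

open Matrix Classical.Herm

variable {n q : ℕ} {F : Type*} [Field F] [Fintype F] {σ : F →+* F} (hu : UCtx σ q)
include hu

theorem exists_su_stab {e f f' : Vn n F} (he : hB n σ e e = 0) (hf : hB n σ f f = 0) (hef : hB n σ e f = 1)
    (hf' : hB n σ f' f' = 0) (hef' : hB n σ e f' = 1) :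
    ∃ s : Su n F q, mat s *ᵥ e = e ∧ mat s *ᵥ f = f' := by
  obtain ⟨g, h1, h2⟩ := stab_trans (hu.isHerm n) he hf hef hf' hef'
  refine ⟨(Classical.suEquiv n hu.pow).symm g, ?_, ?_⟩ <;>
    rw [← Classical.suEquiv_apply hu.pow, MulEquiv.apply_symm_apply]
  · exact h1
  · exact h2

theorem exists_su_pt {v w : Vn n F} (hv0 : v ≠ 0) (hv : hB n σ v v = 0) (hw0 : w ≠ 0) (hw : hB n σ w w = 0) :
    ∃ (s : Su n F q) (a : F), a ≠ 0 ∧ mat s *ᵥ v = a • w := by
  have := isPretransitive_suG (hu.isHerm n)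
  obtain ⟨g, hg⟩ := MulAction.exists_smul_eq (suG (hB n σ)) (pt v hv0 hv) (pt w hw0 hw)
  rw [smul_pt, pt_eq_iff] at hg
  obtain ⟨a, ha⟩ := hg
  have e : mat ((Classical.suEquiv n hu.pow).symm g) *ᵥ v = a • w := by
    rw [← Classical.suEquiv_apply hu.pow, MulEquiv.apply_symm_apply, ha]
  refine ⟨_, a, fun h0 => ?_, e⟩
  rw [h0, zero_smul] at e
  exact mat_mulVec_ne_zero _ hv0 e

/-- The stabiliser of the point of an isotropic vector. -/
noncomputable def stabPt {e : Vn n F} (he0 : e ≠ 0) (he : hB n σ e e = 0) : Subgroup (Su n F q) :=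
  (MulAction.stabilizer (suG (hB n σ)) (pt e he0 he)).comap (Classical.suEquiv n hu.pow).toMonoidHom

theorem mem_stabPt {e : Vn n F} (he0 : e ≠ 0) (he : hB n σ e e = 0) {s : Su n F q} :
    s ∈ stabPt hu he0 he ↔ ∃ a : F, mat s *ᵥ e = a • e := by
  rw [stabPt, Subgroup.mem_comap, MulAction.mem_stabilizer_iff, MulEquiv.coe_toMonoidHom, smul_pt, pt_eq_iff]
  exact ⟨fun ⟨a, h⟩ => ⟨a, h.symm⟩, fun ⟨a, h⟩ => ⟨a, h.symm⟩⟩

theorem not_dvd_index_stabPt (p : ℕ) [Fact p.Prime] [CharP F p] (hn : 2 ≤ n) {e : Vn n F} (he0 : e ≠ 0)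
    (he : hB n σ e e = 0) : ¬ p ∣ (stabPt hu he0 he).index := by
  classical
  have := isPretransitive_suG (hu.isHerm n)
  rw [stabPt, Subgroup.index_comap_of_surjective (f := (Classical.suEquiv n hu.pow).toMonoidHom) _ (Classical.suEquiv n hu.pow).surjective,
    MulAction.index_stabilizer_of_transitive]
  intro hdvd
  let Φ : Iso (hB n σ) × Fˣ → {v : Vn n F // v ≠ 0 ∧ hB n σ v v = 0} := fun x =>
    ⟨(x.2 : F) • x.1.1.rep, smul_ne_zero x.2.ne_zero x.1.1.rep_nonzero, by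
      rw [smul_self (hu.isHerm n), x.1.2, mul_zero]⟩
  have hΦ : Function.Bijective Φ := by
    constructor
    · rintro ⟨P, a⟩ ⟨Q, b⟩ hab
      have h : (a : F) • P.1.rep = (b : F) • Q.1.rep := congrArg Subtype.val hab
      have hPQ : P = Q := Subtype.ext (by
        rw [← Projectivization.mk_rep P.1, ← Projectivization.mk_rep Q.1, Projectivization.mk_eq_mk_iff']
        exact ⟨(a : F)⁻¹ * b, by rw [mul_smul, ← h, inv_smul_smul₀ a.ne_zero]⟩)
      subst hPQ
      rw [Units.ext (smul_left_injective F P.1.rep_nonzero h)]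
    · rintro ⟨v, hv0, hv⟩
      obtain ⟨a, ha⟩ := Projectivization.exists_smul_eq_mk_rep F v hv0
      refine ⟨(pt v hv0 hv, a⁻¹), Subtype.ext ?_⟩
      show ((a⁻¹ : Fˣ) : F) • (Projectivization.mk F v hv0).rep = v
      rw [← ha, Units.smul_def, smul_smul, Units.inv_mul, one_smul]
  have hd1 : p ∣ Nat.card {v : Vn n F // v ≠ 0 ∧ hB n σ v v = 0} := by
    rw [← Nat.card_congr (Equiv.ofBijective Φ hΦ), Nat.card_prod]
    exact dvd_mul_of_dvd_left hdvd _
  have hcard : Nat.card {v : Vn n F // v ≠ 0 ∧ hB n σ v v = 0} =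
      if Even n then (q ^ n - 1) * (q ^ (n - 1) + 1) else (q ^ n + 1) * (q ^ (n - 1) - 1) := by
    have h1 := Classical.card_herm_isotropic hu.toIsInvol hu.card_fix n
    have h2 : Nat.card {v : Vn n F // hB n σ v v = 0} =
        Nat.card {v : Vn n F // v ≠ 0 ∧ hB n σ v v = 0} + 1 := by
      rw [Nat.card_eq_fintype_card, Nat.card_eq_fintype_card, Fintype.card_subtype, Fintype.card_subtype,
        show (Finset.univ.filter fun v : Vn n F => hB n σ v v = 0) =
          insert 0 (Finset.univ.filter fun v : Vn n F => v ≠ 0 ∧ hB n σ v v = 0) by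
          ext v
          by_cases hv : v = 0 <;> simp [hv],
        Finset.card_insert_of_notMem (by simp)]
    rw [h2] at h1
    exact Nat.add_right_cancel h1
  rw [hcard] at hd1
  have hp := (Fact.out : p.Prime)
  have hpq : p ∣ q := by
    obtain ⟨k, -, hk⟩ := FiniteField.card F p
    have hF : Fintype.card F = q ^ 2 := by
      rw [← Nat.card_eq_fintype_card, card_eq_fix_sq hu.toIsInvol, hu.card_fix]
    exact hp.dvd_of_dvd_pow (show p ∣ q ^ 2 by rw [← hF, hk]; exact dvd_pow_self p k.ne_zero)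
  have hminus : ∀ k, 1 ≤ k → ¬ p ∣ q ^ k - 1 := fun k hk h => by
    have hd : p ∣ q ^ k := dvd_pow hpq (by omega)
    have h1 : 1 ≤ q ^ k := Nat.one_le_pow _ _ (by have := hu.one_lt; omega)
    have h2 := Nat.dvd_sub hd h
    rw [Nat.sub_sub_self h1] at h2
    exact hp.not_dvd_one h2
  have hplus : ∀ k, 1 ≤ k → ¬ p ∣ q ^ k + 1 := fun k hk h =>
    hp.not_dvd_one ((Nat.dvd_add_right (dvd_pow hpq (by omega))).1 h)
  split_ifs at hd1
  · exact (hp.dvd_mul.1 hd1).elim (hminus n (by omega)) (hplus (n - 1) (by omega))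
  · exact (hp.dvd_mul.1 hd1).elim (hplus n (by omega)) (hminus (n - 1) (by omega))

variable (p : ℕ) [Fact p.Prime] [CharP F p]
include p

/-- The image of a transvection is a transvection. -/
theorem image_transvection (hn : 3 ≤ n) (β : MulAut (Cfsg.PSU n F q)) {e : Vn n F} (he0 : e ≠ 0)
    (he : hB n σ e e = 0) {c : F} (hc : c + σ c = 0) :
    ∃ e' c', e' ≠ 0 ∧ hB n σ e' e' = 0 ∧ c' + σ c' = 0 ∧ β (mkU (tr hu e c)) = mkU (tr hu e' c') := by
  classical
  let S := stabPt hu he0 he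
  let P : Sylow p S := _root_.Classical.arbitrary _
  have hPp : IsPGroup p ((P : Subgroup S).map S.subtype) := P.isPGroup'.map _
  have hidx : ¬ p ∣ ((P : Subgroup S).map S.subtype).index := by
    rw [Subgroup.index_map_subtype]
    exact (Fact.out : p.Prime).not_dvd_mul P.not_dvd_index (not_dvd_index_stabPt hu p (by omega) he0 he)
  let P' : Sylow p (Su n F q) := hPp.toSylow hidx
  let Q : Subgroup S := (flagFix σ e).subgroupOf S
  haveI hQn : Q.Normal := ⟨fun z hz g => by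
    rw [Subgroup.mem_subgroupOf] at hz ⊢
    obtain ⟨a, ha⟩ := (mem_stabPt hu he0 he).1 g.2
    have hai : mat (g : Su n F q)⁻¹ *ᵥ e = a⁻¹ • e := by
      have h1 := congrArg (mat (g : Su n F q)⁻¹ *ᵥ ·) ha
      simp only [mat_inv_mulVec, Matrix.mulVec_smul] at h1
      have ha0 : a ≠ 0 := fun h0 => he0 (by rw [h1, h0, zero_smul])
      conv_rhs => rw [h1]
      rw [smul_smul, inv_mul_cancel₀ ha0, one_smul]
    have ha0 : a ≠ 0 := fun h0 => mat_mulVec_ne_zero (g : Su n F q) he0 (by rw [ha, h0, zero_smul])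
    refine ⟨?_, fun x hx => ?_⟩
    · show mat ((g : Su n F q) * (z : Su n F q) * (g : Su n F q)⁻¹) *ᵥ e = e
      rw [mat_mul_mulVec, mat_mul_mulVec, hai, Matrix.mulVec_smul, hz.1, Matrix.mulVec_smul, ha, smul_smul,
        inv_mul_cancel₀ ha0, one_smul]
    · obtain ⟨b, hb⟩ := hz.2 (mat (g : Su n F q)⁻¹ *ᵥ x) (by
        have h1 := hB_mat hu (g : Su n F q) e (mat (g : Su n F q)⁻¹ *ᵥ x)
        rw [mat_mulVec_inv, ha, map_smulₛₗ, LinearMap.smul_apply, hx, smul_zero] at h1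
        exact h1.symm)
      refine ⟨b * a, ?_⟩
      show mat ((g : Su n F q) * (z : Su n F q) * (g : Su n F q)⁻¹) *ᵥ x = _
      rw [mat_mul_mulVec, mat_mul_mulVec, hb, Matrix.mulVec_add, Matrix.mulVec_smul, mat_mulVec_inv, ha, smul_smul]⟩
  have hQp : IsPGroup p Q := fun ⟨x, hx⟩ => ⟨2, Subtype.ext (Subtype.ext (flagFix_pow hu p (by omega) hx))⟩
  have hQP : Q ≤ (P : Subgroup S) := by
    have h := P.is_maximal' (hQp.to_sup_of_normal_left P.isPGroup') le_sup_right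
    exact h ▸ le_sup_left
  have hflag : ∀ y ∈ flagFix σ e, y ∈ (P' : Subgroup (Su n F q)) := fun y hy =>
    ⟨⟨y, (mem_stabPt hu he0 he).2 ⟨1, by rw [one_smul]; exact hy.1⟩⟩, hQP hy, rfl⟩
  have htv : tr hu e c ∈ flagFix σ e := eS_mem_flagFix hu (isE_zero he hc)
  -- image
  let Qb : Sylow p (Cfsg.PSU n F q) := P'.mapSurjective mkU_surjective
  let R : Sylow p (Cfsg.PSU n F q) :=
    Qb.mapSurjective (f := (β : Cfsg.PSU n F q ≃* Cfsg.PSU n F q).toMonoidHom) β.surjective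
  obtain ⟨x, hx⟩ := MulAction.exists_smul_eq (Cfsg.PSU n F q) Qb R
  obtain ⟨g, rfl⟩ := mkU_surjective x
  have hR : ((P' : Subgroup (Su n F q)).map mkU).map (β : Cfsg.PSU n F q ≃* Cfsg.PSU n F q).toMonoidHom =
      ((P' : Subgroup (Su n F q)).map mkU).map (MulAut.conj (mkU g)).toMonoidHom := by
    have := congrArg (fun T : Sylow p (Cfsg.PSU n F q) => (T : Subgroup (Cfsg.PSU n F q))) hx
    exact this.symm
  have hmem : β (mkU (tr hu e c)) ∈ ((P' : Subgroup (Su n F q)).map mkU).map (MulAut.conj (mkU g)).toMonoidHom := by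
    rw [← hR]; exact ⟨_, ⟨_, hflag _ htv, rfl⟩, rfl⟩
  obtain ⟨_, ⟨u, huP, rfl⟩, hu'⟩ := hmem
  have hu'' : β (mkU (tr hu e c)) = mkU g * mkU u * (mkU g)⁻¹ := hu'.symm
  obtain ⟨k, hk⟩ := P'.isPGroup' ⟨u, huP⟩
  have hku : u ^ p ^ k = 1 := by simpa using congrArg Subtype.val hk
  -- commutes with the Sylow subgroup
  have hcomm : ∀ w ∈ (P' : Subgroup (Su n F q)), Commute u w := by
    intro w hw
    have h1 : mkU g * mkU w * (mkU g)⁻¹ ∈
        ((P' : Subgroup (Su n F q)).map mkU).map (β : Cfsg.PSU n F q ≃* Cfsg.PSU n F q).toMonoidHom := by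
      rw [hR]; exact ⟨_, ⟨w, hw, rfl⟩, rfl⟩
    obtain ⟨_, ⟨w', hw', rfl⟩, hw''⟩ := h1
    have hc' : Commute (tr hu e c) w' := by
      obtain ⟨s, hs, rfl⟩ := hw'
      obtain ⟨a, ha⟩ := (mem_stabPt hu he0 he).1 s.2
      -- elements of the Sylow subgroup fix the vector
      have ha1 : a = 1 := by
        obtain ⟨j, hj⟩ := P.isPGroup' ⟨s, hs⟩
        have hj' : (s : Su n F q) ^ p ^ j = 1 := by
          simpa using congrArg (fun z : (P : Subgroup S) => ((z : S) : Su n F q)) hj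
        have hpow : ∀ i : ℕ, mat ((s : Su n F q) ^ i) *ᵥ e = a ^ i • e := fun i => by
          induction i with
          | zero => rw [pow_zero, pow_zero, one_smul, mat_one_mulVec]
          | succ i ih => rw [pow_succ, mat_mul_mulVec, ha, Matrix.mulVec_smul, ih, smul_smul, pow_succ']
        have h1 := hpow (p ^ j)
        rw [hj', mat_one_mulVec] at h1
        have h2 : a ^ p ^ j = 1 := by
          have h0 : (a ^ p ^ j - 1) • e = 0 := by rw [sub_smul, one_smul, ← h1, sub_self]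
          exact sub_eq_zero.1 ((smul_eq_zero.1 h0).resolve_right he0)
        have h3 : (a - 1) ^ p ^ j = 0 := by rw [sub_pow_char_pow, h2, one_pow, sub_self]
        exact sub_eq_zero.1 (eq_zero_of_pow_eq_zero h3)
      rw [ha1, one_smul] at ha
      show tr hu e c * (s : Su n F q) = (s : Su n F q) * tr hu e c
      have := conj_tr hu (s : Su n F q) he hc
      rw [ha, mul_inv_eq_iff_eq_mul] at this
      exact this.symm
    have h2 : Commute (β (mkU (tr hu e c))) (β (mkU w')) := (hc'.map mkU).map β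
    rw [hu'', show β (mkU w') = mkU g * mkU w * (mkU g)⁻¹ from hw''] at h2
    exact commute_of_mkU p hu (by omega) hku ((Commute.conj_iff (h := mkU g)).1 h2)
  -- u fixes e
  obtain ⟨κ, hκ0, hκ⟩ := skew_exists hu
  have hue : mat u *ᵥ e = e := by
    have hh := hcomm _ (hflag _ (eS_mem_flagFix hu (isE_zero he hκ)))
    have h1 : tr hu (mat u *ᵥ e) κ = tr hu e κ := by rw [← conj_tr hu u he hκ, hh.eq, mul_inv_cancel_right]
    obtain ⟨a, ha⟩ := tr_inj hu he0 he (by rw [hB_mat hu]; exact he) hκ hκ hκ0 h1.symm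
    have hpow : ∀ i : ℕ, mat (u ^ i) *ᵥ e = a ^ i • e := fun i => by
      induction i with
      | zero => rw [pow_zero, pow_zero, one_smul, mat_one_mulVec]
      | succ i ih => rw [pow_succ, mat_mul_mulVec, ha, Matrix.mulVec_smul, ih, smul_smul, pow_succ']
    have h2 := hpow (p ^ k)
    rw [hku, mat_one_mulVec] at h2
    have h3 : a ^ p ^ k = 1 := by
      have h0 : (a ^ p ^ k - 1) • e = 0 := by rw [sub_smul, one_smul, ← h2, sub_self]
      exact sub_eq_zero.1 ((smul_eq_zero.1 h0).resolve_right he0)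
    have h4 : (a - 1) ^ p ^ k = 0 := by rw [sub_pow_char_pow, h3, one_pow, sub_self]
    rw [ha, sub_eq_zero.1 (eq_zero_of_pow_eq_zero h4), one_smul]
  obtain ⟨f, hff, hef⟩ := exists_hyp_partner (hu.isHerm n) he0 he
  -- u lies in the flag fixer
  have huQ : u ∈ flagFix σ e := by
    refine ⟨hue, fun x hx => ?_⟩
    obtain ⟨d, hd⟩ := exists_d hu x
    have hE : IsE σ e x d := ⟨he, (eq_zero_comm (hu.isHerm n)).1 hx, hd⟩
    have hh := hcomm _ (hflag _ (eS_mem_flagFix hu hE))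
    have h1 : eS hu e (mat u *ᵥ x) d = eS hu e x d := by
      have h := suConj hu u hE
      rw [hue, hh.eq, mul_inv_cancel_right] at h
      exact h.symm
    have hE' : IsE σ e (mat u *ᵥ x) d := by
      have := hE.conjS hu u
      rwa [hue] at this
    have h2 := congrArg (fun z => mat z *ᵥ f) h1
    simp only [eS_mulVec hu hE, eS_mulVec hu hE', hef, one_smul] at h2
    refine ⟨hB n σ (mat u *ᵥ x) f - hB n σ x f, ?_⟩
    have h3 : mat u *ᵥ x + (d * 1 - hB n σ (mat u *ᵥ x) f) • e = x + (d * 1 - hB n σ x f) • e := by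
      rw [add_assoc, add_assoc, add_right_inj] at h2
      exact h2
    linear_combination (norm := module) h3
  obtain ⟨a, d, hfa, hE, hz⟩ := flagFix_eq hu he hff hef huQ
  -- the parameter vanishes
  have ha : ∀ b, hB n σ e b = 0 → hB n σ a b = 0 := fun b hb => by
    have key : ∀ b, hB n σ e b = 0 → hB n σ a b = hB n σ b a := fun b hb => by
      obtain ⟨d', hd'⟩ := exists_d hu b
      have hE' : IsE σ e b d' := ⟨he, (eq_zero_comm (hu.isHerm n)).1 hb, hd'⟩
      have hh := hcomm _ (hflag _ (eS_mem_flagFix hu hE'))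
      rw [hz] at hh
      have h2 : eS hu e (a + b) (d + d' - hB n σ a b) = eS hu e (b + a) (d' + d - hB n σ b a) := by
        rw [← eS_mul hu hE hE', ← eS_mul hu hE' hE]; exact hh
      have h3 := congrArg (fun z => mat z *ᵥ f) h2
      simp only [eS_mulVec hu (hE.mul hu hE'), eS_mulVec hu (hE'.mul hu hE), hef, one_smul, mul_one] at h3
      rw [add_comm b a, add_right_inj] at h3
      have h4 := smul_left_injective F he0 h3
      simp only [map_add, LinearMap.add_apply] at h4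
      linear_combination -h4
    obtain ⟨y, hy⟩ := exists_moved hu.toIsInvol
    have h1 := key b hb
    have h2 := key (y • b) (by rw [map_smul, hb, smul_zero])
    simp only [map_smulₛₗ, RingHom.id_apply, LinearMap.smul_apply, smul_eq_mul, ← h1] at h2
    by_contra hne
    exact hy (mul_right_cancel₀ hne h2).symm
  obtain ⟨r, hr⟩ := perp_perp hu he0 ha
  have ha0 : a = 0 := by
    rw [hr, map_smul, smul_eq_mul, ← (hu.isHerm n).symm e f, hef, map_one, mul_one] at hfa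
    rw [hr, hfa, zero_smul]
  subst ha0
  have hd : d + σ d = 0 := by simpa using hE.tr
  refine ⟨mat g *ᵥ e, d, mat_mulVec_ne_zero g he0, by rw [hB_mat hu]; exact he, hd, ?_⟩
  rw [hu'', hz, ← map_inv, ← map_mul, ← map_mul, conj_tr hu g he hd]

omit [Fact p.Prime] [CharP F p] p in
/-- Isotropic points with the same isotropic orthogonal are equal. -/
theorem pt_separate {a b : Vn n F} (ha0 : a ≠ 0) (ha : hB n σ a a = 0) (hb : hB n σ b b = 0)
    (h : ∀ y, y ≠ 0 → hB n σ y y = 0 → hB n σ a y = 0 → hB n σ b y = 0) : ∃ r : F, b = r • a := by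
  have hH := hu.isHerm n
  have hba : hB n σ b a = 0 := h a ha0 ha ha
  refine perp_perp hu ha0 fun y hy => ?_
  by_contra hne
  have hyb : hB n σ y b ≠ 0 := mt (eq_zero_comm hH).1 hne
  obtain ⟨t, ht⟩ := exists_trace hu.toIsInvol (a := -hB n σ y y) (by rw [map_neg, fix_self hH])
  set v := y + (t / hB n σ y b) • b with hv
  have hvv : hB n σ v v = 0 := by
    simp only [hv, map_add, map_smulₛₗ, LinearMap.add_apply, LinearMap.smul_apply, smul_eq_mul, RingHom.id_apply, hb,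
      mul_zero, add_zero, ← hH.symm y b, div_mul_cancel₀ _ hyb]
    rw [map_div₀, div_mul_cancel₀ _ ((map_ne_zero σ).2 hyb)]
    linear_combination ht
  have hav : hB n σ a v = 0 := by
    rw [hv, map_add, map_smul, hy, (eq_zero_comm hH).1 hba, smul_zero, add_zero]
  have hbv : hB n σ b v = hB n σ b y := by rw [hv, map_add, map_smul, hb, smul_zero, add_zero]
  have hv0 : v ≠ 0 := fun h0 => hne (by rw [← hbv, h0, map_zero])
  exact hne (hbv ▸ h v hv0 hvv hav)

theorem tr_pow_p (hn : 0 < n) {v : Vn n F} (hv : hB n σ v v = 0) {c : F} (hc : c + σ c = 0) :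
    tr hu v c ^ p ^ 2 = 1 := eS_pow hu p hn (isE_zero hv hc)

theorem commute_mkU_tr_iff (hn : 2 ≤ n) {v w : Vn n F} (hv0 : v ≠ 0) (hw0 : w ≠ 0) (hv : hB n σ v v = 0)
    (hw : hB n σ w w = 0) {c d : F} (hc : c + σ c = 0) (hd : d + σ d = 0) (hc0 : c ≠ 0) (hd0 : d ≠ 0) :
    Commute (mkU (tr hu v c)) (mkU (tr hu w d)) ↔ hB n σ v w = 0 :=
  ⟨fun h => (tr_commute_iff hu hv0 hw0 hv hw hc hd hc0 hd0).1
      (commute_of_mkU p hu hn (tr_pow_p hu p (by omega) hv hc) h),
    fun h => ((tr_commute_iff hu hv0 hw0 hv hw hc hd hc0 hd0).2 h).map mkU⟩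

theorem param_ne_zero (hn : 2 ≤ n) (β : MulAut (Cfsg.PSU n F q)) {v w : Vn n F} (hv0 : v ≠ 0)
    (hv : hB n σ v v = 0) (hw : hB n σ w w = 0) {c d : F} (hc : c + σ c = 0) (hc0 : c ≠ 0)
    (h : β (mkU (tr hu v c)) = mkU (tr hu w d)) : d ≠ 0 := fun hd => by
  rw [hd, show tr hu w (0 : F) = 1 from eS_zero hu hw, map_one] at h
  have h1 : mkU (tr hu v c) = 1 := β.injective (h.trans (map_one β).symm)
  have h2 := eq_of_mkU_eq p hu hn (tr_pow_p hu p (by omega) hv hc) (one_pow (p ^ 1))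
    (h1.trans (map_one _).symm)
  exact hc0 ((tr_eq_one hu hv0 hv hc).1 h2)

/-- Transvection images respect orthogonality. -/
theorem image_orth (hn : 2 ≤ n) (β : MulAut (Cfsg.PSU n F q)) {v w v' w' : Vn n F} {c d c' d' : F}
    (hv0 : v ≠ 0) (hw0 : w ≠ 0) (hv : hB n σ v v = 0) (hw : hB n σ w w = 0) (hc : c + σ c = 0) (hd : d + σ d = 0)
    (hc0 : c ≠ 0) (hd0 : d ≠ 0) (hv0' : v' ≠ 0) (hw0' : w' ≠ 0) (hv' : hB n σ v' v' = 0) (hw' : hB n σ w' w' = 0)
    (hc' : c' + σ c' = 0) (hd' : d' + σ d' = 0) (h1 : β (mkU (tr hu v c)) = mkU (tr hu v' c'))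
    (h2 : β (mkU (tr hu w d)) = mkU (tr hu w' d')) : hB n σ v' w' = 0 ↔ hB n σ v w = 0 := by
  rw [← commute_mkU_tr_iff hu p hn hv0' hw0' hv' hw' hc' hd' (param_ne_zero hu p hn β hv0 hv hv' hc hc0 h1)
      (param_ne_zero hu p hn β hw0 hw hw' hd hd0 h2),
    ← commute_mkU_tr_iff hu p hn hv0 hw0 hv hw hc hd hc0 hd0, ← h1, ← h2]
  exact ⟨fun h => by simpa using h.map β.symm, fun h => h.map β⟩

/-- All transvections at a point map to transvections at one point. -/
theorem image_same_point (hn : 3 ≤ n) (β : MulAut (Cfsg.PSU n F q)) {v e₁ e₂ : Vn n F} {c₁ c₂ d₁ d₂ : F}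
    (hv0 : v ≠ 0) (hv : hB n σ v v = 0) (hc₁ : c₁ + σ c₁ = 0) (hc₂ : c₂ + σ c₂ = 0) (hc₁0 : c₁ ≠ 0) (hc₂0 : c₂ ≠ 0)
    (he₁0 : e₁ ≠ 0) (he₂0 : e₂ ≠ 0) (he₁ : hB n σ e₁ e₁ = 0) (he₂ : hB n σ e₂ e₂ = 0) (hd₁ : d₁ + σ d₁ = 0)
    (hd₂ : d₂ + σ d₂ = 0) (h₁ : β (mkU (tr hu v c₁)) = mkU (tr hu e₁ d₁))
    (h₂ : β (mkU (tr hu v c₂)) = mkU (tr hu e₂ d₂)) : ∃ a : F, e₂ = a • e₁ := by
  refine pt_separate hu he₁0 he₁ he₂ fun y hy0 hy hey => ?_
  obtain ⟨κ, hκ0, hκ⟩ := skew_exists hu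
  obtain ⟨w, d, hw0, hw, hd, h⟩ := image_transvection hu p hn β.symm hy0 hy hκ
  have h' : β (mkU (tr hu w d)) = mkU (tr hu y κ) := by rw [← h, MulEquiv.apply_symm_apply]
  have hd0 : d ≠ 0 := param_ne_zero hu p (by omega) β.symm hy0 hy hw hκ hκ0 h
  have e1 := image_orth hu p (by omega) β hv0 hw0 hv hw hc₁ hd hc₁0 hd0 he₁0 hy0 he₁ hy hd₁ hκ h₁ h'
  exact (image_orth hu p (by omega) β hv0 hw0 hv hw hc₂ hd hc₂0 hd0 he₂0 hy0 he₂ hy hd₂ hκ h₂ h').2 (e1.1 hey)

/-- A hyperbolic pair with coordinates in the prime field. -/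
theorem exists_fixed_pair (hn : 3 ≤ n) : ∃ e f : Vn n F, hB n σ e e = 0 ∧ hB n σ f f = 0 ∧ hB n σ e f = 1 ∧
    ∀ τ : F ≃+* F, (fun i => τ (e i)) = e ∧ (fun i => τ (f i)) = f := by
  classical
  let ι := ZMod.castHom (dvd_refl p) F
  have hσι : ∀ a : ZMod p, σ (ι a) = ι a := fun a => RingHom.congr_fun (RingHom.ext_zmod (σ.comp ι) ι) a
  have hτι : ∀ (τ : F ≃+* F) (a : ZMod p), τ (ι a) = ι a :=
    fun τ a => RingHom.congr_fun (RingHom.ext_zmod ((τ : F →+* F).comp ι) ι) a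
  let i0 : Fin n := ⟨0, by omega⟩
  let i1 : Fin n := ⟨1, by omega⟩
  let i2 : Fin n := ⟨2, by omega⟩
  let vec : ZMod p → ZMod p → ZMod p → Vn n F := fun a b c =>
    ι a • Pi.single i0 1 + ι b • Pi.single i1 1 + ι c • Pi.single i2 1
  have hon := Classical.isON_single (σ := σ) n
  have h01 : i0 ≠ i1 := by simp [i0, i1]
  have h02 : i0 ≠ i2 := by simp [i0, i2]
  have h12 : i1 ≠ i2 := by simp [i1, i2]
  have hvec : ∀ a b c a' b' c', hB n σ (vec a b c) (vec a' b' c') = ι (a * a' + b * b' + c * c') := by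
    intro a b c a' b' c'
    simp only [vec, map_add, map_smulₛₗ, map_smul, LinearMap.add_apply, LinearMap.smul_apply, smul_eq_mul,
      RingHom.id_apply, hσι, hon i0 i0, hon i1 i1, hon i2 i2, hon i0 i1, hon i1 i0, hon i0 i2, hon i2 i0, hon i1 i2,
      hon i2 i1, if_true, if_neg h01, if_neg h01.symm, if_neg h02, if_neg h02.symm, if_neg h12, if_neg h12.symm,
      map_mul]
    ring
  have hfix : ∀ a b c (τ : F ≃+* F), (fun i => τ (vec a b c i)) = vec a b c := fun a b c τ => funext fun i => by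
    simp [vec, map_add, map_mul, hτι, Pi.single_apply, apply_ite τ]
  obtain ⟨a, b, hab⟩ := ZMod.sq_add_sq p (-1)
  by_cases hp : (2 : ZMod p) = 0
  · refine ⟨vec 1 1 0, vec 0 1 1, ?_, ?_, ?_, fun τ => ⟨hfix _ _ _ τ, hfix _ _ _ τ⟩⟩
    · rw [hvec, show (1 : ZMod p) * 1 + 1 * 1 + 0 * 0 = 2 by ring, hp, map_zero]
    · rw [hvec, show (0 : ZMod p) * 0 + 1 * 1 + 1 * 1 = 2 by ring, hp, map_zero]
    · rw [hvec, show (1 : ZMod p) * 0 + 1 * 1 + 0 * 1 = 1 by ring, map_one]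
  · refine ⟨vec 1 a b, vec (1 - 2⁻¹) (-(2⁻¹ * a)) (-(2⁻¹ * b)), ?_, ?_, ?_, fun τ => ⟨hfix _ _ _ τ, hfix _ _ _ τ⟩⟩
    · rw [hvec, show (1 : ZMod p) * 1 + a * a + b * b = 0 by linear_combination hab, map_zero]
    · rw [hvec, show ((1 : ZMod p) - 2⁻¹) * (1 - 2⁻¹) + -(2⁻¹ * a) * -(2⁻¹ * a) + -(2⁻¹ * b) * -(2⁻¹ * b) = 0 by
        linear_combination (2⁻¹ : ZMod p) ^ 2 * hab - mul_inv_cancel₀ hp, map_zero]
    · rw [hvec, show (1 : ZMod p) * (1 - 2⁻¹) + a * -(2⁻¹ * a) + b * -(2⁻¹ * b) = 1 by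
        linear_combination -(2⁻¹ : ZMod p) * hab, map_one]

end Cfsg.Agent.AutPSU
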