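import Cfsg.Agent.AutPSU.Semi

/-!
Rigidity, and the decomposition of every automorphism of PSU as inner-diagonal times field.
-/

set_option autoImplicit false

namespace Cfsg.Agent.AutPSU

open Matrix Classical.Herm

variable {n q : ℕ} {F : Type*} [Field F] [Fintype F] {σ : F →+* F} (hu : UCtx σ q)
  (p : ℕ) [Fact p.Prime] [CharP F p] (hn : 3 ≤ n)
include hu p hn

/-- The automorphism fixes the Heisenberg group at e elementwise. -/
theorem fix_flag {e f : Vn n F} (H : HP σ e f) (hs : ¬ (n = 3 ∧ q = 2)) {γ : MulAut (Cfsg.PSU n F q)}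
    (hγe : FixPt hu γ e) (hγf : FixPt hu γ f) (hφ : IsPar hu γ e f id) {a : Vn n F} (ha : InW σ e f a) {d : F}
    (hd : d + σ d = -hB n σ a a) : γ (mkU (eS hu e a d)) = mkU (eS hu e a d) := by
  classical
  obtain ⟨b, hb, hbW, -⟩ := H.exists_frame hu (by omega)
  have hT : ∀ c, c + σ c = 0 → γ (mkU (tr hu e c)) = mkU (tr hu e c) := fun c hc => by
    obtain ⟨s, hs⟩ := exists_antitrace hu.toIsInvol (k := c) (eq_neg_of_add_eq_zero_right hc)
    have h1 := IsPar.comm hu p hn H hφ (hbW ⟨0, by omega⟩) ((hbW ⟨0, by omega⟩).smul s)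
    simp only [id, map_smul, map_smulₛₗ, LinearMap.smul_apply, smul_eq_mul, hb _ _, if_true, mul_one, hs] at h1
    exact h1
  have hX : ∀ a, InW σ e f a → ∃ x, x + σ x = 0 ∧ ∀ d, d + σ d = -hB n σ a a →
      γ (mkU (eS hu e a d)) = mkU (eS hu e a (d + x)) := fun a ha => by
    obtain ⟨d₀, hd₀⟩ := exists_d hu a
    obtain ⟨d', hd', h⟩ := (hφ a ha).2 d₀ hd₀
    refine ⟨d' - d₀, by rw [map_sub]; simp only [id] at hd'; linear_combination hd' - hd₀, fun d hd => ?_⟩
    have hc : (d - d₀) + σ (d - d₀) = 0 := by rw [map_sub]; linear_combination hd - hd₀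
    have e1 : eS hu e a d = eS hu e a d₀ * tr hu e (d - d₀) := by
      rw [tr, eS_mul hu (H.isE hu ha hd₀) (isE_zero H.ee hc)]
      simp
    simp only [id] at hd' h
    rw [e1, map_mul, map_mul, h, hT _ hc, ← map_mul, tr, eS_mul hu (H.isE hu ha hd') (isE_zero H.ee hc)]
    simp only [add_zero, map_zero, sub_zero]
    congr 2
    ring
  choose! X hXs hXe using hX
  have hXu : ∀ {a : Vn n F}, InW σ e f a → ∀ {d x : F}, d + σ d = -hB n σ a a → x + σ x = 0 →
      γ (mkU (eS hu e a d)) = mkU (eS hu e a (d + x)) → X a = x := fun {a} ha {d x} hd hx h => by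
    have hd1 : d + X a + σ (d + X a) = -hB n σ a a := by rw [map_add]; linear_combination hd + hXs a ha
    have hd2 : d + x + σ (d + x) = -hB n σ a a := by rw [map_add]; linear_combination hd + hx
    exact add_left_cancel (eS_mkU_inj hu p hn H ha ha hd1 hd2 ((hXe a ha d hd).symm.trans h)).2
  have hXadd : ∀ a c, InW σ e f a → InW σ e f c → X (a + c) = X a + X c := fun a c ha hc => by
    obtain ⟨d, hd⟩ := exists_d hu a
    obtain ⟨d', hd'⟩ := exists_d hu c
    have hE := H.isE hu ha hd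
    have hE' := H.isE hu hc hd'
    have hd1 : d + X a + σ (d + X a) = -hB n σ a a := by rw [map_add]; linear_combination hd + hXs a ha
    have hd2 : d' + X c + σ (d' + X c) = -hB n σ c c := by rw [map_add]; linear_combination hd' + hXs c hc
    refine hXu (ha.add hc) (hE.mul hu hE').tr (by rw [map_add]; linear_combination hXs a ha + hXs c hc) ?_
    rw [← eS_mul hu hE hE', map_mul, map_mul, hXe a ha d hd, hXe c hc d' hd', ← map_mul,
      eS_mul hu (H.isE hu ha hd1) (H.isE hu hc hd2)]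
    congr 2
    ring
  have hX0 : X 0 = 0 := hXu inW_zero (d := 0) (x := 0) (by simp) (by simp) (by
    simpa using hT 0 (by simp))
  have hgood : ∀ w, Good σ e f w → ∀ t : F, X (t • w) = 0 := fun w hw => by
    by_contra hc
    push Not at hc
    obtain ⟨t₀, ht₀⟩ := hc
    obtain ⟨R, hR0, hR, hRT⟩ := exists_torus_set hu H hs hw
    let g : F → F := fun t => X ((t * t₀) • w) / X (t₀ • w)
    have hgadd : ∀ s t, g (s + t) = g s + g t := fun s t => by
      simp only [g, add_mul, add_smul, hXadd _ _ (hw.mem.smul _) (hw.mem.smul _), add_div]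
    have hg1 : g 1 = 1 := by simp only [g, one_mul, div_self ht₀]
    have hgR : ∀ r ∈ R, ∀ t, g (r * t) = g r * g t := fun r hr => by
      obtain ⟨h, l, m, μ, hl, he, hf, hμ, rfl⟩ := hRT r hr
      obtain ⟨h', l', m', hh, he', hf', hl', -, -⟩ := torus_image hu p hn H hγe hγf he hf
      have hN : ∀ {c : F} (t : F), c + σ c = 0 → t * σ t * c + σ (t * σ t * c) = 0 := fun t hc => by
        rw [map_mul, map_mul, hu.invol]; linear_combination t * σ t * hc
      have hNl : l' * σ l' = l * σ l := by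
        obtain ⟨κ, hκ0, hκ⟩ := skew_exists hu
        have h1 : γ (mkU (h * tr hu e κ * h⁻¹)) = mkU (h' * tr hu e κ * h'⁻¹) := by
          simp only [map_mul, map_inv, hh, hT κ hκ]
        rw [conj_tr hu h H.ee hκ, conj_tr hu h' H.ee hκ, he, he', tr_smul hu H.ee hκ, tr_smul hu H.ee hκ,
          hT _ (hN l hκ)] at h1
        exact mul_right_cancel₀ hκ0 (tr_mkU_inj hu p hn H (hN l hκ) (hN l' hκ) h1).symm
      have key : ∀ a, InW σ e f a → X (σ l • mat h *ᵥ a) = l * σ l * X a := fun a ha => by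
        obtain ⟨d, hd⟩ := exists_d hu a
        have hd1 : d + X a + σ (d + X a) = -hB n σ a a := by rw [map_add]; linear_combination hd + hXs a ha
        have haW := torus_inW hu p hn H hl he hf ha
        have heq := IsPar.equivariant hu p hn H hφ hl hl' he hf he' hf' hh ha
        simp only [id] at heq
        have conj : ∀ {k : Su n F q} {t s : F}, mat k *ᵥ e = t • e → s + σ s = -hB n σ a a →
            InW σ e f (mat k *ᵥ a) → k * eS hu e a s * k⁻¹ = eS hu e (σ t • mat k *ᵥ a) (t * σ t * s) ∧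
            t * σ t * s + σ (t * σ t * s) = -hB n σ (σ t • mat k *ᵥ a) (σ t • mat k *ᵥ a) := by
          intro k t s hk hs' hkW
          have hv' : IsE σ e (mat k *ᵥ a) s := H.isE hu hkW (by rw [hB_mat hu]; exact hs')
          exact ⟨by rw [suConj hu k (H.isE hu ha hs'), hk, eS_smul hu hv'], (hv'.smul hu t).tr⟩
        obtain ⟨k1, k2⟩ := conj he hd haW
        obtain ⟨k3, -⟩ := conj he' hd1 (torus_inW hu p hn H hl' he' hf' ha)
        refine hXu (haW.smul _) k2 (hN l (hXs a ha)) ?_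
        rw [← k1]
        simp only [map_mul, map_inv, ← hh, hXe a ha d hd]
        rw [← map_inv, ← map_mul, ← map_mul, k3, ← heq, hNl, mul_add]
      have key2 : ∀ t, g (σ l * μ * t) = l * σ l * g t := fun t => by
        have h1 := key ((t * t₀) • w) (hw.mem.smul _)
        rw [Matrix.mulVec_smul, hμ, smul_smul, smul_smul] at h1
        simp only [g]
        rw [show σ l * μ * t * t₀ = σ l * (t * t₀) * μ by ring, h1, mul_div_assoc]
      intro t
      have h5 := key2 1
      rw [mul_one, hg1, mul_one] at h5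
      rw [key2, h5]
    have hall := hom_of_large hu hgadd hg1 R hR0 hR hgR
    obtain ⟨x, hx⟩ := no_hom_to_fixField hu hgadd hg1 hall
    refine hx ?_
    simp only [g, map_div₀]
    rw [eq_neg_of_add_eq_zero_right (hXs _ (hw.mem.smul (x * t₀))), eq_neg_of_add_eq_zero_right (hXs _ (hw.mem.smul t₀)),
      neg_div_neg_eq]
  have hall0 : ∀ a, InW σ e f a → X a = 0 := fun a ha => good_induction hu hn H (P := fun a => X a = 0) hX0
    (fun a c ha hc h1 h2 => by rw [hXadd a c ha hc, h1, h2, add_zero]) hgood ha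
  rw [hXe a ha d hd, hall0 a ha, add_zero]

/-- An automorphism fixing two opposite points and trivial on the Heisenberg quotient is trivial. -/
theorem rigid {e f : Vn n F} (H : HP σ e f) (hs : ¬ (n = 3 ∧ q = 2)) {γ : MulAut (Cfsg.PSU n F q)}
    (hγe : FixPt hu γ e) (hγf : FixPt hu γ f) (hφ : IsPar hu γ e f id) : γ = 1 := by
  classical
  have hH := hu.isHerm n
  have hE : ∀ a d, InW σ e f a → d + σ d = -hB n σ a a → γ (mkU (eS hu e a d)) = mkU (eS hu e a d) :=
    fun a d ha hd => fix_flag hu p hn H hs hγe hγf hφ ha hd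
  have hTe : ∀ c, c + σ c = 0 → γ (mkU (tr hu e c)) = mkU (tr hu e c) := fun c hc =>
    hE 0 c inW_zero (by simp [hc])
  have hTf : ∀ c, c + σ c = 0 → γ (mkU (tr hu f c)) = mkU (tr hu f c) := fun c hc => by
    by_cases hc0 : c = 0
    · rw [hc0, show tr hu f (0 : F) = 1 from eS_zero hu H.ff, map_one, map_one]
    obtain ⟨κ, hκ0, hκ⟩ := skew_exists hu
    obtain ⟨c', hc', h⟩ := hγf c hc
    have hci : c⁻¹ + σ c⁻¹ = 0 := by
      rw [map_inv₀, eq_neg_of_add_eq_zero_right hc, inv_neg, add_neg_cancel]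
    have hN : ∀ (t : F), t * σ t * κ + σ (t * σ t * κ) = 0 := fun t => by
      rw [map_mul, map_mul, hu.invol]; linear_combination t * σ t * hκ
    obtain ⟨k, hk, hk'⟩ := hγf _ (hN c)
    set x := tr hu e c⁻¹ with hx
    have hxf : mat x *ᵥ f = f + c⁻¹ • e := by rw [hx, tr_mulVec hu H.ee hci, H.ef, mul_one]
    have hce : ∀ {k : F}, k + σ k = 0 → mat (tr hu f k) *ᵥ e = e + k • f := fun hk => by
      rw [tr_mulVec hu H.ff hk, H.fe hu, mul_one]
    have hiso : hB n σ (e + c' • f) (e + c' • f) = 0 := by rw [← hce hc', hB_mat hu]; exact H.ee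
    have hiso₁ : hB n σ (mat x *ᵥ f) (mat x *ᵥ f) = 0 := by rw [hB_mat hu]; exact H.ff
    have h1 : γ (mkU (tr hu f c * tr hu e κ * (tr hu f c)⁻¹)) = mkU (tr hu (e + c' • f) κ) := by
      rw [← hce hc', ← conj_tr hu _ H.ee hκ]
      simp only [map_mul, map_inv, h, hTe κ hκ]
    have h2 : tr hu f c * tr hu e κ * (tr hu f c)⁻¹ = x * tr hu f (c * σ c * κ) * x⁻¹ := by
      rw [conj_tr hu _ H.ee hκ, conj_tr hu _ H.ff (hN c), hce hc, hxf, ← tr_smul hu (by rw [← hxf]; exact hiso₁) hκ,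
        smul_add, smul_smul, mul_inv_cancel₀ hc0, one_smul, add_comm]
    have h3 : γ (mkU (x * tr hu f (c * σ c * κ) * x⁻¹)) = mkU (tr hu (mat x *ᵥ f) k) := by
      rw [← conj_tr hu _ H.ff hk]
      simp only [map_mul, map_inv, hk', hx, hTe _ hci]
    rw [h2, h3] at h1
    have hk0 : k ≠ 0 := param_ne_zero hu p (by omega) γ H.f_ne H.ff H.ff (hN c)
      (mul_ne_zero (mul_ne_zero hc0 ((map_ne_zero σ).2 hc0)) hκ0) hk'
    obtain ⟨b, hb⟩ := tr_inj hu (mat_mulVec_ne_zero x H.f_ne) hiso₁ hiso hk hκ hk0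
      (eq_of_mkU_eq p hu (by omega) (tr_pow_p hu p (by omega) hiso₁ hk) (tr_pow_p hu p (by omega) hiso hκ) h1)
    rw [hxf] at hb
    have h4 := congrArg (hB n σ e) hb
    have h5 := congrArg (hB n σ f) hb
    simp [H.ee, H.ef, H.ff, H.fe hu] at h4 h5
    subst h4
    have : c' = c := by
      field_simp at h5
      exact h5.symm
    rw [h, this]
  have hopen : ∀ v, hB n σ v v = 0 → hB n σ e v ≠ 0 → ∀ c, c + σ c = 0 → γ (mkU (tr hu v c)) = mkU (tr hu v c) := by
    intro v hv hev c hc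
    set u := (hB n σ e v)⁻¹ • v with hu'
    have hu0 : hB n σ u u = 0 := by rw [hu', smul_self hH, hv, mul_zero]
    have heu : hB n σ e u = 1 := by rw [hu', map_smul, smul_eq_mul, inv_mul_cancel₀ hev]
    have hue : hB n σ u e = 1 := by rw [← hH.symm, heu, map_one]
    have haW : InW σ e f (proj σ e f u) := H.proj_mem hu u
    have hd : hB n σ f u + σ (hB n σ f u) = -hB n σ (proj σ e f u) (proj σ e f u) := by
      rw [proj_apply, heu, hH.symm, one_smul]
      simp only [map_sub, map_smulₛₗ, LinearMap.sub_apply, LinearMap.smul_apply, smul_eq_mul, RingHom.id_apply,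
        H.ee, H.ff, H.ef, H.fe hu, hu0, heu, hue]
      rw [hH.symm f u]
      ring
    have hxf : mat (eS hu e (proj σ e f u) (hB n σ f u)) *ᵥ f = u := by
      rw [H.eS_f hu haW hd]
      conv_rhs => rw [eq_proj (σ := σ) e f u, heu, one_smul]
      abel
    have hvu : v = hB n σ e v • u := by rw [hu', smul_smul, mul_inv_cancel₀ hev, one_smul]
    have hN : hB n σ e v * σ (hB n σ e v) * c + σ (hB n σ e v * σ (hB n σ e v) * c) = 0 := by
      rw [map_mul, map_mul, hu.invol]; linear_combination hB n σ e v * σ (hB n σ e v) * hc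
    rw [hvu, tr_smul hu hu0 hc, ← hxf, ← conj_tr hu _ H.ff hN]
    simp only [map_mul, map_inv, hE _ _ haW hd, hTf _ hN]
  have hall : ∀ v, hB n σ v v = 0 → ∀ c, c + σ c = 0 → γ (mkU (tr hu v c)) = mkU (tr hu v c) := by
    intro v hv c hc
    by_cases hv0 : v = 0
    · subst hv0
      have : tr hu (0 : Vn n F) c = 1 := su_ext_mulVec fun x => by simp [tr_mulVec hu hv hc, mat_one]
      rw [this, map_one, map_one]
    by_cases hev : hB n σ e v = 0
    swap
    · exact hopen v hv hev c hc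
    obtain ⟨z, hz, hze, hzv⟩ := exists_common hH H.e_ne H.ee hv0 hv
    have hez : hB n σ e z ≠ 0 := mt (eq_zero_comm hH).1 hze
    obtain ⟨κ, hκ0, hκ⟩ := skew_exists hu
    have h1 : mat (tr hu z κ) *ᵥ v = v + (κ * hB n σ z v) • z := tr_mulVec hu hz hκ v
    have h2 := hopen (mat (tr hu z κ) *ᵥ v) (by rw [hB_mat hu]; exact hv) (by
      rw [h1, map_add, map_smul, hev, zero_add, smul_eq_mul]
      exact mul_ne_zero (mul_ne_zero hκ0 hzv) hez) c hc
    rw [← conj_tr hu _ hv hc] at h2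
    simp only [map_mul, map_inv, hopen z hz hez κ hκ] at h2
    exact mul_left_cancel (mul_right_cancel h2)
  refine autExt fun s => ?_
  let K : Subgroup (Su n F q) := MonoidHom.eqLocus (γ.toMonoidHom.comp mkU) mkU
  suffices hK : K = ⊤ by
    have : s ∈ K := hK ▸ Subgroup.mem_top s
    exact this
  refine eq_top_iff.2 ((Classical.closure_unitaryTransvection hu.toIsInvol hu.pow hu.card_fix (by omega) hs).symm.le.trans
    ((Subgroup.closure_le _).2 ?_))
  rintro A ⟨v, c, hv, hA⟩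
  obtain ⟨c', hc', hA'⟩ := Classical.transvection_mem_cases hu.toIsInvol hu.pow A hv hA
  have : A = tr hu v c' := su_ext_mulVec fun x => by
    rw [tr_mulVec hu hv hc', ← Classical.suEquiv_apply hu.pow, hA']
    exact tvU_apply _ _ _
  rw [this]
  exact hall v hv c' hc'

/-- Every automorphism is an inner-diagonal one times a field automorphism. -/
theorem exists_decomp (hs : ¬ (n = 3 ∧ q = 2)) (β : MulAut (Cfsg.PSU n F q)) :
    ∃ (g : Cfsg.GU n F q) (τ : F ≃+* F), β = conjA g * fieldA τ := by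
  classical
  have hH := hu.isHerm n
  obtain ⟨e, f, he, hf, hef, hfix⟩ := exists_fixed_pair hu p hn
  have H : HP σ e f := ⟨he, hf, hef⟩
  obtain ⟨s, hse, hsf⟩ := exists_normalise hu p hn β H
  set β₁ := MulAut.conj (mkU s) * β with hβ₁
  obtain ⟨φ, hφ⟩ := exists_par hu p hn H hse
  obtain ⟨τ, hτ, ν, hν0, hν, hform⟩ := IsPar.semilinear hu p hn H hse hsf hφ hs
  have hmap : ∀ {a : Vn n F}, InW σ e f a → InW σ e f (fun i => τ.symm (a i)) := fun {a} ha => by
    constructor
    · have h1 := hB_map hu τ.symm e a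
      rw [ha.1, map_zero, (hfix τ.symm).1] at h1
      exact h1
    · have h1 := hB_map hu τ.symm f a
      rw [ha.2, map_zero, (hfix τ.symm).2] at h1
      exact h1
  let ψ : Vn n F → Vn n F := fun a i => τ.symm (φ a i)
  have hψW : ∀ a, InW σ e f a → InW σ e f (ψ a) := fun a ha => hmap (IsPar.mem hu p hn H hφ ha)
  have hψs : ∀ a, InW σ e f a → ∀ t : F, ψ (t • a) = t • ψ a := fun a ha t => funext fun i => by
    simp [ψ, hτ a ha t, map_mul]
  have hψa : ∀ a c, InW σ e f a → InW σ e f c → ψ (a + c) = ψ a + ψ c := fun a c ha hc => funext fun i => by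
    simp [ψ, IsPar.add hu p hn H hφ ha hc, map_add]
  set ν' := τ.symm ν with hν'
  have hψB : ∀ a c, InW σ e f a → InW σ e f c → hB n σ (ψ a) (ψ c) = ν' * hB n σ a c := fun a c ha hc => by
    show hB n σ (fun i => τ.symm (φ a i)) (fun i => τ.symm (φ c i)) = _
    rw [hB_map hu, hform a c ha hc, map_mul, τ.symm_apply_apply]
  have hν'f : σ ν' = ν' := by rw [hν', ← hu.comm, hν]
  obtain ⟨μ, hμ⟩ := exists_norm hu.toIsInvol hν'f
  have hμ0 : μ ≠ 0 := fun h => by
    rw [h, zero_mul] at hμ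
    exact hν0 ((map_eq_zero τ.symm).1 hμ.symm)
  obtain ⟨b, hb, hbW, hbs⟩ := H.exists_frame hu (by omega)
  let L₀ : Vn n F →ₗ[F] Vn n F := ∑ i, (hB n σ (b i)).smulRight (ψ (b i))
  have hL₀ : ∀ a, InW σ e f a → L₀ a = ψ a := fun a ha => by
    have hsum : ∀ (S : Finset (Fin (n - 2))) (c : Fin (n - 2) → F),
        InW σ e f (∑ i ∈ S, c i • b i) ∧ ψ (∑ i ∈ S, c i • b i) = ∑ i ∈ S, c i • ψ (b i) := fun S c => by
      induction S using Finset.induction_on with
      | empty =>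
        refine ⟨by simpa using inW_zero, ?_⟩
        simp [ψ, IsPar.zero hu p hn H hφ]
        rfl
      | insert i S hi ih =>
        rw [Finset.sum_insert hi, Finset.sum_insert hi]
        exact ⟨((hbW i).smul _).add ih.1, by rw [hψa _ _ ((hbW i).smul _) ih.1, hψs _ (hbW i), ih.2]⟩
    conv_rhs => rw [hbs a ha, (hsum Finset.univ _).2]
    simp [L₀]
  let L : Vn n F →ₗ[F] Vn n F := (hB n σ f).smulRight (σ μ • e) + (hB n σ e).smulRight (μ⁻¹ • f) +
    μ⁻¹ • L₀.comp (proj σ e f)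
  have hLx : ∀ x, L x = hB n σ f x • σ μ • e + hB n σ e x • μ⁻¹ • f + μ⁻¹ • ψ (proj σ e f x) := fun x => by
    simp [L, hL₀ _ (H.proj_mem hu x)]
  obtain ⟨g, hg⟩ := exists_gu hu L fun x y => by
    have hxp := H.proj_mem hu x
    have hyp := H.proj_mem hu y
    rw [hLx, hLx]
    conv_rhs => rw [eq_proj (σ := σ) e f x, eq_proj (σ := σ) e f y]
    simp only [map_add, map_smulₛₗ, LinearMap.add_apply, LinearMap.smul_apply, smul_eq_mul, RingHom.id_apply,
      H.ee, H.ff, H.ef, H.fe hu, (hψW _ hxp).1, (hψW _ hxp).2, (hψW _ hyp).1, (hψW _ hyp).2,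
      (hψW _ hxp).a_e hu, (hψW _ hxp).a_f hu, hxp.a_e hu, hxp.a_f hu, hyp.1, hyp.2,
      hψB _ _ hxp hyp, ← hμ, map_inv₀, hu.invol]
    field_simp [hμ0, (map_ne_zero σ).2 hμ0]
    ring
  have hp0 : proj σ e f e = 0 := by rw [proj_apply, H.fe hu, H.ee, one_smul, zero_smul, sub_self, sub_zero]
  have hp1 : proj σ e f f = 0 := by rw [proj_apply, H.ff, H.ef, one_smul, zero_smul, sub_zero, sub_self]
  have hψ0 : ψ 0 = 0 := funext fun i => by simp [ψ, IsPar.zero hu p hn H hφ]
  have hge : gmat g.1 *ᵥ e = σ μ • e := by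
    rw [hg, hLx, hp0, hψ0, H.fe hu, H.ee]; simp
  have hgf : gmat g.1 *ᵥ f = μ⁻¹ • f := by
    rw [hg, hLx, hp1, hψ0, H.ff, H.ef]; simp
  have hga : ∀ a, InW σ e f a → gmat g.1 *ᵥ a = μ⁻¹ • ψ a := fun a ha => by
    rw [hg, hLx, proj_eq ha, ha.1, ha.2]; simp
  have hinv : ∀ {v w : Vn n F}, gmat g.1 *ᵥ v = w → gmat (g⁻¹).1 *ᵥ w = v := fun {v w} h => by
    rw [← h]; exact gmat_inv_mulVec _ _
  have hgie : gmat (g⁻¹).1 *ᵥ e = (σ μ)⁻¹ • e := hinv (by
    rw [Matrix.mulVec_smul, hge, smul_smul, inv_mul_cancel₀ ((map_ne_zero σ).2 hμ0), one_smul])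
  have hgif : gmat (g⁻¹).1 *ᵥ f = μ • f := hinv (by
    rw [Matrix.mulVec_smul, hgf, smul_smul, mul_inv_cancel₀ hμ0, one_smul])
  set γ := (conjA g)⁻¹ * fieldA τ.symm * β₁ with hγdef
  have hstep : ∀ {v a : Vn n F} {d : F}, IsE σ v a d → (conjA g)⁻¹ (fieldA τ.symm (mkU (eS hu v a d))) =
      mkU (eS hu (gmat (g⁻¹).1 *ᵥ fun i => τ.symm (v i)) (gmat (g⁻¹).1 *ᵥ fun i => τ.symm (a i)) (τ.symm d)) :=
    fun {v a d} h => by
      rw [fieldA_mkU, fieldSu_eS hu h, ← map_inv conjA, conjA_mkU, conjSu_eS hu (h.map hu τ.symm)]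
  have h0 : (fun _ : Fin n => τ.symm (0 : F)) = (0 : Vn n F) := funext fun _ => map_zero _
  have hFix : ∀ {v : Vn n F} {t : F}, hB n σ v v = 0 → (∀ τ : F ≃+* F, (fun i => τ (v i)) = v) →
      gmat (g⁻¹).1 *ᵥ v = t • v → FixPt hu β₁ v → FixPt hu γ v := fun {v t} hv hvf hgv hfx c hc => by
    obtain ⟨c', hc', h⟩ := hfx c hc
    have hc'' : τ.symm c' + σ (τ.symm c') = 0 := by rw [← hu.comm, ← map_add, hc', map_zero]
    refine ⟨t * σ t * τ.symm c', by rw [map_mul, map_mul, hu.invol]; linear_combination t * σ t * hc'', ?_⟩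
    rw [hγdef, MulAut.mul_apply, MulAut.mul_apply, h, hstep (isE_zero hv hc'), hvf, hgv]
    rw [← tr_smul hu hv hc'']
    congr 2
    simp only [Pi.zero_apply, h0, Matrix.mulVec_zero]
  have hγe : FixPt hu γ e := hFix H.ee (fun τ => (hfix τ).1) hgie hse
  have hγf : FixPt hu γ f := hFix H.ff (fun τ => (hfix τ).2) hgif hsf
  have hγφ : IsPar hu γ e f id := fun a ha => ⟨ha, fun d hd => by
    obtain ⟨hm, h2⟩ := hφ a ha
    obtain ⟨d', hd', h3⟩ := h2 d hd
    have hE : IsE σ e (μ • a) (τ.symm d') := H.isE hu (ha.smul μ) (by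
      rw [smul_self hH, ← hu.comm, ← map_add, hd', map_neg, hform a a ha ha, map_mul, τ.symm_apply_apply, ← hν', ← hμ])
    have hsm : IsE σ e (σ (σ μ)⁻¹ • μ • a) ((σ μ)⁻¹ * σ (σ μ)⁻¹ * τ.symm d') := hE.smul hu _
    have e1 : σ (σ μ)⁻¹ • μ • a = a := by
      rw [map_inv₀, hu.invol, smul_smul, inv_mul_cancel₀ hμ0, one_smul]
    rw [e1] at hsm
    refine ⟨_, hsm.tr, ?_⟩
    have hga' : gmat (g⁻¹).1 *ᵥ (fun i => τ.symm (φ a i)) = μ • a := hinv (by
      rw [Matrix.mulVec_smul, hga a ha, smul_smul, mul_inv_cancel₀ hμ0, one_smul])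
    rw [hγdef, MulAut.mul_apply, MulAut.mul_apply, h3, hstep (H.isE hu hm hd'), (hfix τ.symm).1, hgie, hga',
      eS_smul hu hE, e1]
    rfl⟩
  have hγ := rigid hu p hn H hs hγe hγf hγφ
  refine ⟨(suToGU s)⁻¹ * fieldGU τ g, τ, ?_⟩
  have h1 : β₁ = conjA (fieldGU τ g) * fieldA τ := by
    rw [← conjA_field]
    rw [hγdef, mul_assoc, inv_mul_eq_one] at hγ
    have hh : (fieldA τ.symm : MulAut (Cfsg.PSU n F q)) = (fieldA τ)⁻¹ := by rw [← map_inv]; rfl
    rw [hγ, hh, mul_inv_cancel_left]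
  rw [map_mul, map_inv, conjA_suToGU, mul_assoc, ← h1, hβ₁, inv_mul_cancel_left]

end Cfsg.Agent.AutPSU
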