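import Cfsg.Agent.AutPSU.Torus

/-!
The map induced on the Heisenberg quotient is a semilinear similitude.
-/

set_option autoImplicit false

namespace Cfsg.Agent.AutPSU

open Matrix Classical.Herm

variable {n q : ℕ} {F : Type*} [Field F] [Fintype F] {σ : F →+* F} (hu : UCtx σ q)
include hu

/-- An additively closed property of the complement holds everywhere if it holds on the good lines. -/
theorem good_induction (hn : 3 ≤ n) {e f : Vn n F} (H : HP σ e f) {P : Vn n F → Prop} (h0 : P 0)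
    (hadd : ∀ a b, InW σ e f a → InW σ e f b → P a → P b → P (a + b))
    (hgood : ∀ w, Good σ e f w → ∀ t : F, P (t • w)) {a : Vn n F} (ha : InW σ e f a) : P a := by
  classical
  by_cases h3 : n = 3
  · obtain ⟨b, hb, hbW, hbs⟩ := line_of_three hu h3 H
    obtain ⟨c, rfl⟩ := hbs a ha
    exact hgood b ⟨hbW, fun h => by simp [h] at hb, Or.inr h3⟩ c
  obtain ⟨b, hb, hbW, hbs⟩ := H.exists_frame hu (by omega)
  obtain ⟨γ₁, γ₂, γ₃, h12, -, -, hγ₁, hγ₂, -⟩ := exists_three_norm_neg_one hu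
  have hline : ∀ j (t : F), P (t • b j) := fun j t => by
    obtain ⟨i, hij⟩ : ∃ i, i ≠ j := @exists_ne _ (Fin.nontrivial_iff_two_le.2 (by omega)) j
    have hiso : ∀ γ : F, γ * σ γ = -1 → Good σ e f (b i + γ • b j) := fun γ hγ => by
      refine ⟨(hbW i).add ((hbW j).smul γ), fun h => one_ne_zero (α := F) ?_, Or.inl ?_⟩
      · have h1 := congrArg (hB n σ (b i)) h
        simpa [hb i i, hb i j, hij] using h1
      · simp [hb i i, hb i j, hb j i, hb j j, hij, hij.symm]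
        linear_combination hγ
    have hne : γ₁ - γ₂ ≠ 0 := sub_ne_zero.2 h12
    have e1 : t • b j = (t / (γ₁ - γ₂)) • (b i + γ₁ • b j) + (-(t / (γ₁ - γ₂))) • (b i + γ₂ • b j) := by
      match_scalars <;> field_simp <;> ring
    rw [e1]
    exact hadd _ _ ((hiso γ₁ hγ₁).mem.smul _) ((hiso γ₂ hγ₂).mem.smul _) (hgood _ (hiso γ₁ hγ₁) _)
      (hgood _ (hiso γ₂ hγ₂) _)
  rw [hbs a ha]
  exact (Finset.sum_induction _ (fun x => InW σ e f x ∧ P x)
    (fun x y hx hy => ⟨hx.1.add hy.1, hadd x y hx.1 hy.1 hx.2 hy.2⟩) ⟨inW_zero, h0⟩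
    fun j _ => ⟨(hbW j).smul _, hline j _⟩).2

theorem exists_good (hn : 3 ≤ n) {e f : Vn n F} (H : HP σ e f) : ∃ w, Good σ e f w := by
  by_contra hc
  obtain ⟨b, hb, hbW, -⟩ := H.exists_frame hu (by omega)
  have : b ⟨0, by omega⟩ = 0 := good_induction hu hn H (P := fun x => x = 0) rfl
    (fun a b _ _ ha hb => by rw [ha, hb, add_zero]) (fun w hw => absurd ⟨w, hw⟩ hc) (hbW _)
  have h1 := hb ⟨0, by omega⟩ ⟨0, by omega⟩
  simp [this] at h1

variable (p : ℕ) [Fact p.Prime] [CharP F p] (hn : 3 ≤ n) {e f : Vn n F} (H : HP σ e f)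
  {β : MulAut (Cfsg.PSU n F q)} (hβe : FixPt hu β e) (hβf : FixPt hu β f) {φ : Vn n F → Vn n F}
  (hφ : IsPar hu β e f φ)
include p hn H hβe hβf hφ

/-- Non-orthogonal isotropic lines carry the same field automorphism. -/
theorem IsPar.theta_eq_of_pairing {w y : Vn n F} (hw0 : w ≠ 0) (hwW : InW σ e f w) (hw : hB n σ w w = 0) (hy0 : y ≠ 0)
    (hyW : InW σ e f y) (hy : hB n σ y y = 0) (hwy : hB n σ w y ≠ 0) {θ η : F ≃+* F}
    (hθ : ∀ t, φ (t • w) = θ t • φ w) (hη : ∀ t, φ (t • y) = η t • φ y) : θ = η := by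
  have hH := hu.isHerm n
  refine RingEquiv.ext fun t => ?_
  obtain ⟨-, -, -, hiff, -⟩ := IsPar.line hu p hn H hφ hβe hβf hw0 hwW hw
  have hB' : hB n σ (φ y) (φ w) ≠ 0 := fun h0 => hwy ((eq_zero_comm hH).1 ((hiff y hyW).2 h0))
  have key : ∀ s : F, σ (η s) * ((θ t - η t) * hB n σ (φ y) (φ w)) = σ (σ (η s) * ((θ t - η t) * hB n σ (φ y) (φ w))) :=
    fun s => by
    have h1 := IsPar.comm_eq hu p hn H hφ (a := t • w) (b := s • y) (a' := w) (b' := σ t • (s • y)) (hwW.smul t)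
      (hyW.smul s) hwW ((hyW.smul s).smul _) (by
        simp only [map_smul, map_smulₛₗ, LinearMap.smul_apply, smul_eq_mul, hu.invol, RingHom.id_apply]; ring)
    rw [smul_smul, hθ, hη, hη] at h1
    simp only [map_smul, map_smulₛₗ, LinearMap.smul_apply, smul_eq_mul, RingHom.id_apply, map_mul, hu.comm] at h1
    rw [← (hH.symm (φ y) (φ w))] at h1
    simp only [map_mul, map_sub, hu.invol] at h1 ⊢
    linear_combination h1
  have h0 := eq_zero_of_fixed_multiples hu (X := (θ t - η t) * hB n σ (φ y) (φ w)) fun r => by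
    have h2 := key (η.symm (σ r))
    rw [η.apply_symm_apply, hu.invol] at h2
    exact h2.symm
  exact sub_eq_zero.1 ((mul_eq_zero.1 h0).resolve_right hB')

/-- All good lines carry the same field automorphism. -/
theorem IsPar.theta_eq (hs : ¬ (n = 3 ∧ q = 2)) {w y : Vn n F} (hw : Good σ e f w) (hy : Good σ e f y) {θ η : F ≃+* F}
    (hθ : ∀ t, φ (t • w) = θ t • φ w) (hη : ∀ t, φ (t • y) = η t • φ y) : θ = η := by
  by_cases h3 : n = 3
  · obtain ⟨c, rfl⟩ := good_multiples hu h3 H hw.mem hw.ne hy.mem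
    have hy0 := (IsPar.line_hom hu p hn H hφ hs hβe hβf hy).1
    refine RingEquiv.ext fun t => smul_left_injective F hy0 ?_
    show θ t • φ (c • w) = η t • φ (c • w)
    rw [← hη, smul_smul, hθ, hθ, map_mul, smul_smul]
  have hwi := hw.iso.resolve_right h3
  have hyi := hy.iso.resolve_right h3
  have hH := hu.isHerm n
  obtain ⟨u, huW, hui, hwu, hyu⟩ : ∃ u, InW σ e f u ∧ hB n σ u u = 0 ∧ hB n σ w u ≠ 0 ∧ hB n σ y u ≠ 0 := by
    obtain ⟨w', hw'W, H₁⟩ := exists_partner hu H hw.mem hw.ne hwi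
    obtain ⟨y', hy'W, H₂⟩ := exists_partner hu H hy.mem hy.ne hyi
    by_cases h1 : hB n σ y w' = 0
    swap
    · exact ⟨w', hw'W, H₁.ff, by rw [H₁.ef]; exact one_ne_zero, h1⟩
    by_cases h2 : hB n σ w y' = 0
    swap
    · exact ⟨y', hy'W, H₂.ff, h2, by rw [H₂.ef]; exact one_ne_zero⟩
    obtain ⟨c, hc0, hc⟩ : ∃ c : F, c ≠ 0 ∧ c * hB n σ w' y' + σ (c * hB n σ w' y') = 0 := by
      by_cases hK : hB n σ w' y' = 0
      · exact ⟨1, one_ne_zero, by simp [hK]⟩
      · obtain ⟨κ, hκ0, hκ⟩ := skew_exists hu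
        exact ⟨κ / hB n σ w' y', div_ne_zero hκ0 hK, by rw [div_mul_cancel₀ κ hK]; exact hκ⟩
    refine ⟨w' + c • y', hw'W.add (hy'W.smul c), ?_, ?_, ?_⟩
    · rw [map_mul, hH.symm] at hc
      simp only [map_add, map_smulₛₗ, LinearMap.add_apply, LinearMap.smul_apply, smul_eq_mul, RingHom.id_apply,
        H₁.ff, H₂.ff]
      linear_combination hc
    · rw [map_add, map_smul, H₁.ef, h2, smul_zero, add_zero]; exact one_ne_zero
    · rw [map_add, map_smul, H₂.ef, h1, zero_add, smul_eq_mul, mul_one]; exact hc0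
  have hu0 : u ≠ 0 := fun h => hwu (by rw [h, map_zero])
  obtain ⟨-, ξ, hξ⟩ := IsPar.line_hom hu p hn H hφ hs hβe hβf (w := u) ⟨huW, hu0, Or.inl hui⟩
  rw [IsPar.theta_eq_of_pairing hu p hn H hβe hβf hφ hw.ne hw.mem hwi hu0 huW hui hwu hθ hξ,
    IsPar.theta_eq_of_pairing hu p hn H hβe hβf hφ hy.ne hy.mem hyi hu0 huW hui hyu hη hξ]

theorem IsPar.semilinear (hs : ¬ (n = 3 ∧ q = 2)) :
    ∃ τ : F ≃+* F, (∀ a, InW σ e f a → ∀ t : F, φ (t • a) = τ t • φ a) ∧
      ∃ ν : F, ν ≠ 0 ∧ σ ν = ν ∧ ∀ a b, InW σ e f a → InW σ e f b → hB n σ (φ a) (φ b) = ν * τ (hB n σ a b) := by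
  classical
  have hH := hu.isHerm n
  obtain ⟨w₀, hw₀⟩ := exists_good hu hn H
  obtain ⟨-, τ, hτ⟩ := IsPar.line_hom hu p hn H hφ hs hβe hβf hw₀
  have hsemi : ∀ a, InW σ e f a → ∀ t : F, φ (t • a) = τ t • φ a := fun a ha =>
    good_induction hu hn H (P := fun a => ∀ t : F, φ (t • a) = τ t • φ a)
      (fun t => by rw [smul_zero, IsPar.zero hu p hn H hφ, smul_zero])
      (fun a b ha hb h1 h2 t => by
        rw [smul_add, IsPar.add hu p hn H hφ (ha.smul t) (hb.smul t), h1, h2, IsPar.add hu p hn H hφ ha hb, smul_add])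
      (fun w hw s t => by
        obtain ⟨-, η, hη⟩ := IsPar.line_hom hu p hn H hφ hs hβe hβf hw
        rw [IsPar.theta_eq hu p hn H hβe hβf hφ hs hw₀ hw hτ hη, smul_smul, hη, hη, map_mul, smul_smul]) ha
  refine ⟨τ, hsemi, ?_⟩
  obtain ⟨b, hb, hbW, hbs⟩ := H.exists_frame hu (by omega)
  have hmem : ∀ a, InW σ e f a → InW σ e f (φ a) := fun a ha => IsPar.mem hu p hn H hφ ha
  have horth : ∀ a c, InW σ e f a → InW σ e f c → hB n σ a c = 0 → hB n σ (φ a) (φ c) = 0 := fun a c ha hc h => by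
    refine eq_zero_of_fixed_multiples hu fun r => ?_
    have h1 := IsPar.comm_zero hu p hn H hφ (a := a) (b := τ.symm r • c) ha (hc.smul _)
      (by rw [map_smul, h, smul_zero])
    rw [hsemi c hc, τ.apply_symm_apply, map_smul, smul_eq_mul] at h1
    exact h1
  let i0 : Fin (n - 2) := ⟨0, by omega⟩
  set ν := hB n σ (φ (b i0)) (φ (b i0)) with hν
  have hdiag : ∀ i, hB n σ (φ (b i)) (φ (b i)) = ν := fun i => by
    by_cases hi : i = i0
    · rw [hi]
    obtain ⟨γ, hγ0, hγ⟩ := exists_neg_one_norm hH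
    have hW := (hbW i).add ((hbW i0).smul γ)
    have h1 := horth _ _ hW hW (by
      simp [hb i i, hb i0 i0, hb i i0, hb i0 i, hi, Ne.symm hi]; linear_combination hγ)
    rw [IsPar.add hu p hn H hφ (hbW i) ((hbW i0).smul γ), hsemi _ (hbW i0)] at h1
    simp only [map_add, map_smulₛₗ, LinearMap.add_apply, LinearMap.smul_apply, smul_eq_mul, RingHom.id_apply,
      horth _ _ (hbW i) (hbW i0) (by rw [hb i i0, if_neg hi]),
      horth _ _ (hbW i0) (hbW i) (by rw [hb i0 i, if_neg (Ne.symm hi)]), mul_zero, add_zero, zero_add, ← hν] at h1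
    have h2 := congrArg τ hγ
    rw [map_mul, map_neg, map_one, hu.comm] at h2
    linear_combination h1 - ν * h2
  have hsum : ∀ (s : Finset (Fin (n - 2))) (c : Fin (n - 2) → F),
      InW σ e f (∑ i ∈ s, c i • b i) ∧ φ (∑ i ∈ s, c i • b i) = ∑ i ∈ s, τ (c i) • φ (b i) := fun s c => by
    induction s using Finset.induction_on with
    | empty => exact ⟨by simpa using inW_zero, by simpa using IsPar.zero hu p hn H hφ⟩
    | insert i s hi ih =>
      rw [Finset.sum_insert hi, Finset.sum_insert hi]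
      exact ⟨((hbW i).smul _).add ih.1, by rw [IsPar.add hu p hn H hφ ((hbW i).smul _) ih.1, hsemi _ (hbW i), ih.2]⟩
  have hform : ∀ a c, InW σ e f a → InW σ e f c → hB n σ (φ a) (φ c) = ν * τ (hB n σ a c) := fun a c ha hc => by
    have ea := hbs a ha
    have ec := hbs c hc
    set ca := fun i => hB n σ (b i) a
    set cc := fun i => hB n σ (b i) c
    have hBbb : ∀ i j, hB n σ (φ (b i)) (φ (b j)) = if i = j then ν else 0 := fun i j => by
      by_cases hij : i = j
      · rw [if_pos hij, hij, hdiag]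
      · rw [if_neg hij, horth _ _ (hbW i) (hbW j) (by rw [hb i j, if_neg hij])]
    rw [ea, ec, (hsum Finset.univ ca).2, (hsum Finset.univ cc).2]
    simp only [map_sum, map_smulₛₗ, LinearMap.sum_apply, LinearMap.smul_apply, smul_eq_mul, RingHom.id_apply, hBbb,
      hb _ _, mul_ite, mul_one, mul_zero, Finset.sum_ite_eq, Finset.sum_ite_eq', Finset.mem_univ, if_true, map_mul, hu.comm, apply_ite τ, map_zero,
      Finset.mul_sum]
    exact Finset.sum_congr rfl fun i _ => by ring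
  refine ⟨ν, fun h0 => ?_, fix_self hH _, hform⟩
  have hz : φ (b i0) = 0 := hH.nondeg _ fun y => by
    obtain ⟨a, ha, ha'⟩ := IsPar.surj hu p hn H hφ hβe (H.proj_mem hu y)
    have hm := hmem _ (hbW i0)
    conv_lhs => rw [eq_proj (σ := σ) e f y]
    rw [map_add, map_add, map_smul, map_smul, hm.a_e hu, hm.a_f hu, smul_zero, smul_zero, zero_add, zero_add, ← ha',
      hform _ _ (hbW i0) ha, h0, zero_mul]
  have h1 := IsPar.eq_zero hu p hn H hφ hβe (hbW i0) hz
  have h2 := hb i0 i0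
  simp [h1] at h2

end Cfsg.Agent.AutPSU
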