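import Cfsg.Agent.AutPSU.Par

/-!
The torus fixing a hyperbolic pair and the field automorphism on each line of the Heisenberg quotient.
-/

set_option autoImplicit false

namespace Cfsg.Agent.AutPSU

open Matrix Classical.Herm

/-- A vector of the complement on whose line the torus acts transitively enough. -/
structure Good {n : ℕ} {F : Type*} [Field F] (σ : F →+* F) (e f w : Vn n F) : Prop where
  mem : InW σ e f w
  ne : w ≠ 0
  iso : hB n σ w w = 0 ∨ n = 3

/-- An eigenvalue of the torus on the line of w in the Heisenberg quotient. -/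
def TorusEigen {n : ℕ} {F : Type*} [Field F] (q : ℕ) (σ : F →+* F) (e f w : Vn n F) (r : F) : Prop :=
  ∃ (h : Su n F q) (l m μ : F), l ≠ 0 ∧ mat h *ᵥ e = l • e ∧ mat h *ᵥ f = m • f ∧ mat h *ᵥ w = μ • w ∧ r = σ l * μ

variable {n q : ℕ} {F : Type*} [Field F] [Fintype F] {σ : F →+* F} (hu : UCtx σ q)
include hu

omit [Fintype F] in
theorem card_F [Finite F] : Nat.card F = q ^ 2 := by rw [card_eq_fix_sq hu.toIsInvol, hu.card_fix]

/-- A map multiplicative on enough elements is multiplicative. -/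
theorem hom_of_large {g : F → F} (hadd : ∀ s t, g (s + t) = g s + g t) (h1 : g 1 = 1) (R : Set F) (h0 : (0 : F) ∉ R)
    (hR : q ≤ R.ncard) (h : ∀ r ∈ R, ∀ t, g (r * t) = g r * g t) : ∀ s t, g (s * t) = g s * g t := by
  classical
  let G : F →+ F := AddMonoidHom.mk' g hadd
  let S : Subring F :=
    { carrier := {s | ∀ t, g (s * t) = g s * g t}
      one_mem' := fun t => by rw [one_mul, h1, one_mul]
      mul_mem' := fun {a b} ha hb t => by
        rw [mul_assoc, ha, hb, ha b, mul_assoc]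
      zero_mem' := fun t => by
        have : g 0 = 0 := map_zero G
        rw [zero_mul, this, zero_mul]
      add_mem' := fun {a b} ha hb t => by
        rw [add_mul, hadd, hadd, ha, hb, add_mul]
      neg_mem' := fun {a} ha t => by
        have hn : ∀ x, g (-x) = -g x := map_neg G
        rw [neg_mul, hn, hn, ha, neg_mul] }
  let K : Subfield F := { S with
    inv_mem' := fun x hx => by
      by_cases hx0 : x = 0
      · rw [hx0, _root_.inv_zero]; exact S.zero_mem
      · have e : x⁻¹ = x ^ (Fintype.card F - 2) := by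
          have hc : 1 < Fintype.card F := Fintype.one_lt_card
          refine inv_eq_of_mul_eq_one_right ?_
          rw [← pow_succ', show Fintype.card F - 2 + 1 = Fintype.card F - 1 by omega,
            FiniteField.pow_card_sub_one_eq_one x hx0]
        rw [e]
        exact Subring.pow_mem S hx _ }
  have hsub : insert (0 : F) R ⊆ (K : Set F) := fun x hx => by
    rcases hx with rfl | hx
    · exact K.zero_mem
    · exact h x hx
  have hgt : q < Nat.card K := by
    have := Set.ncard_le_ncard hsub (Set.toFinite _)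
    rw [Set.ncard_insert_of_notMem h0 (Set.toFinite _)] at this
    have e : ((K : Set F)).ncard = Nat.card K := (Nat.card_coe_set_eq _).symm
    omega
  have hpow : Nat.card F = Nat.card K ^ Module.finrank K F := Module.natCard_eq_pow_finrank
  have hfr : Module.finrank K F = 1 := by
    have hpos : 0 < Module.finrank K F := Module.finrank_pos
    by_contra hne
    have h2 : Nat.card K ^ 2 ≤ Nat.card F := hpow ▸ Nat.pow_le_pow_right (by omega) (by omega)
    rw [card_F hu] at h2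
    nlinarith
  rw [hfr, pow_one] at hpow
  have huniv : (K : Set F) = Set.univ := Set.eq_of_subset_of_ncard_le (Set.subset_univ _)
    (by rw [Set.ncard_univ, hpow, ← Nat.card_coe_set_eq]; exact le_of_eq rfl) (Set.toFinite _)
  exact fun s => (Set.eq_univ_iff_forall.1 huniv s : s ∈ K)

omit [Fintype F] in
theorem no_hom_to_fixField [Finite F] {g : F → F} (hadd : ∀ s t, g (s + t) = g s + g t) (h1 : g 1 = 1)
    (hmul : ∀ s t, g (s * t) = g s * g t) : ∃ x, σ (g x) ≠ g x := by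
  by_contra hc
  push Not at hc
  let G : F →+* F := RingHom.mk' ⟨⟨g, h1⟩, hmul⟩ hadd
  obtain ⟨b, hb⟩ := exists_moved hu.toIsInvol
  obtain ⟨x, rfl⟩ := Finite.injective_iff_surjective.1 G.injective b
  exact hb (hc x)

theorem exists_partner {e f : Vn n F} (H : HP σ e f) {w : Vn n F} (hwW : InW σ e f w) (hw0 : w ≠ 0)
    (hw : hB n σ w w = 0) : ∃ w', InW σ e f w' ∧ HP σ w w' := by
  obtain ⟨y, hy⟩ := exists_pairing (hu.isHerm n) hw0
  set x := proj σ e f y with hx
  have hwx : hB n σ w x = 1 := by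
    rw [hx, proj_apply, map_sub, map_sub, map_smul, map_smul, hwW.a_e hu, hwW.a_f hu, smul_zero, smul_zero,
      sub_zero, sub_zero, hy]
  obtain ⟨t, ht⟩ := exists_d hu x
  have hxw : hB n σ x w = 1 := by rw [← (hu.isHerm n).symm, hwx, map_one]
  refine ⟨x + t • w, (H.proj_mem hu y).add (hwW.smul t), ⟨hw, ?_, ?_⟩⟩
  · simp only [map_add, map_smulₛₗ, LinearMap.add_apply, LinearMap.smul_apply, smul_eq_mul, RingHom.id_apply, hw,
      hwx, hxw]
    linear_combination ht
  · simp [hw, hwx]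

theorem line_of_three (hn : n = 3) {e f : Vn n F} (H : HP σ e f) :
    ∃ b, hB n σ b b = 1 ∧ InW σ e f b ∧ ∀ x, InW σ e f x → ∃ c : F, x = c • b := by
  obtain ⟨b, hb, hbW, hbs⟩ := H.exists_frame hu (by omega)
  subst hn
  refine ⟨b 0, by rw [hb 0 0, if_pos rfl], hbW 0, fun x hx => ⟨hB 3 σ (b 0) x, ?_⟩⟩
  conv_lhs => rw [hbs x hx]
  exact Fin.sum_univ_one _

theorem good_multiples (hn : n = 3) {e f : Vn n F} (H : HP σ e f) {w x : Vn n F} (hw : InW σ e f w) (hw0 : w ≠ 0)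
    (hx : InW σ e f x) : ∃ c : F, x = c • w := by
  obtain ⟨b, -, -, hb⟩ := line_of_three hu hn H
  obtain ⟨a, ha⟩ := hb w hw
  obtain ⟨c, hc⟩ := hb x hx
  have ha0 : a ≠ 0 := fun h => hw0 (by rw [ha, h, zero_smul])
  exact ⟨c * a⁻¹, by rw [hc, ha, smul_smul, mul_assoc, inv_mul_cancel₀ ha0, mul_one]⟩

theorem exists_torus_set {e f : Vn n F} (H : HP σ e f) (hs : ¬ (n = 3 ∧ q = 2)) {w : Vn n F}
    (hw : Good σ e f w) :
    ∃ R : Set F, (0 : F) ∉ R ∧ q ≤ R.ncard ∧ ∀ r ∈ R, TorusEigen q σ e f w r := by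
  classical
  by_cases hn : n = 3
  · let ψ : Fˣ →* Fˣ := (Units.map σ.toMonoidHom) * (Units.map σ.toMonoidHom) * (MonoidHom.id Fˣ)⁻¹
    have hψ : ∀ l : Fˣ, (ψ l : F) = σ l * σ l * ((l : F))⁻¹ := fun l => by simp [ψ]
    refine ⟨Units.val '' (ψ.range : Set Fˣ), by rintro ⟨x, -, hx⟩; exact x.ne_zero hx, ?_, ?_⟩
    · rw [Set.ncard_image_of_injective _ Units.val_injective, ← Nat.card_coe_set_eq]
      have hker : Nat.card ψ.ker ≤ 3 := by
        have hsub : ∀ l : ψ.ker, ((l.1 : Fˣ) : F) ∈ (Polynomial.nthRootsFinset 3 (1 : F)) := fun l => by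
          have h1 := congrArg Units.val (l.2 : ψ l.1 = 1)
          rw [hψ, Units.val_one, ← div_eq_mul_inv, div_eq_one_iff_eq l.1.ne_zero] at h1
          have h2 := congrArg σ h1
          rw [map_mul, hu.invol] at h2
          rw [Polynomial.mem_nthRootsFinset (by norm_num : 0 < 3)]
          refine mul_left_cancel₀ l.1.ne_zero ?_
          rw [mul_one]
          calc ((l.1 : Fˣ) : F) * (l.1 : Fˣ) ^ 3
              = ((l.1 : Fˣ) : F) * (l.1 : Fˣ) * (((l.1 : Fˣ) : F) * (l.1 : Fˣ)) := by ring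
            _ = σ (l.1 : Fˣ) * σ (l.1 : Fˣ) := by rw [h2]
            _ = _ := h1
        calc Nat.card ψ.ker ≤ Nat.card (Polynomial.nthRootsFinset 3 (1 : F)) :=
              Nat.card_le_card_of_injective (fun l => ⟨_, hsub l⟩)
                fun a b h => Subtype.ext (Units.ext (congrArg Subtype.val h))
          _ ≤ 3 := by
              rw [Nat.card_eq_finsetCard, Polynomial.nthRootsFinset_def]
              exact (Multiset.toFinset_card_le _).trans (Polynomial.card_nthRoots 3 1)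
      have h1 := ψ.ker.index_mul_card
      rw [Subgroup.index_ker, Nat.card_units, card_F hu] at h1
      have hq2 : q ≠ 2 := fun h => hs ⟨hn, h⟩
      have hq1 := hu.one_lt
      have h3 : q ^ 2 - 1 ≤ Nat.card ψ.range * 3 := h1 ▸ Nat.mul_le_mul_left _ hker
      show q ≤ Nat.card ψ.range
      have : 3 ≤ q := by omega
      by_contra hlt
      have h4 : Nat.card ψ.range * 3 + 3 ≤ q * 3 := by omega
      have : 3 * q ≤ q ^ 2 := by nlinarith
      omega
    · rintro _ ⟨_, ⟨l, rfl⟩, rfl⟩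
      obtain ⟨b, hb, hbW, hbs⟩ := line_of_three hu hn H
      obtain ⟨g, hge, hgf, hgW, hgd⟩ := H.exists_dil hu l.ne_zero
      have hz : σ (l : F) / l * σ (σ (l : F) / l) = 1 := by
        rw [map_div₀, hu.invol, div_mul_div_comm, mul_comm, div_self (mul_ne_zero l.ne_zero ((map_ne_zero σ).2 l.ne_zero))]
      obtain ⟨g', hg'b, hg'fix, hg'd⟩ := exists_refl hu hb hz
      obtain ⟨s, hs'⟩ := exists_su_of_gu hu (g * g') (by
        show (gmat g.1 * gmat g'.1).det = 1
        rw [Matrix.det_mul, hgd, hg'd]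
        field_simp [(map_ne_zero σ).2 l.ne_zero, l.ne_zero])
      have hmat : ∀ v, mat s *ᵥ v = gmat g.1 *ᵥ (gmat g'.1 *ᵥ v) := fun v => by
        rw [hs', Matrix.mulVec_mulVec]; rfl
      obtain ⟨c, hc⟩ := hbs w hw.mem
      refine ⟨s, (l : F), (σ (l : F))⁻¹, σ (l : F) / l, l.ne_zero, ?_, ?_, ?_, ?_⟩
      · rw [hmat, hg'fix e (hbW.a_e hu), hge]
      · rw [hmat, hg'fix f (hbW.a_f hu), hgf]
      · rw [hmat, hc, Matrix.mulVec_smul, hg'b, Matrix.mulVec_smul, Matrix.mulVec_smul, hgW _ hbW, smul_comm]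
      · rw [hψ, div_eq_mul_inv, mul_assoc]
  · have hwi : hB n σ w w = 0 := hw.iso.resolve_right hn
    obtain ⟨w', hw'W, H'⟩ := exists_partner hu H hw.mem hw.ne hwi
    refine ⟨{y | y * σ y = 1}, by simp, ?_, fun y hy => ?_⟩
    · rw [← Nat.card_coe_set_eq, Set.coe_ofPred, Classical.card_norm_fibre hu.toIsInvol (map_one σ) one_ne_zero, hu.card_fix]
      omega
    · obtain ⟨z, hz0, hz⟩ := exists_conj_quot hu.toIsInvol hy
      have hl0 : σ z ≠ 0 := (map_ne_zero σ).2 hz0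
      obtain ⟨g, hge, hgf, hgW, hgd⟩ := H.exists_dil hu hl0
      obtain ⟨g', hg'w, -, hg'W, hg'd⟩ := H'.exists_dil hu (inv_ne_zero hl0)
      obtain ⟨s, hs'⟩ := exists_su_of_gu hu (g * g') (by
        show (gmat g.1 * gmat g'.1).det = 1
        rw [Matrix.det_mul, hgd, hg'd, map_inv₀, hu.invol]
        field_simp)
      have hmat : ∀ v, mat s *ᵥ v = gmat g.1 *ᵥ (gmat g'.1 *ᵥ v) := fun v => by
        rw [hs', Matrix.mulVec_mulVec]; rfl
      refine ⟨s, σ z, (σ (σ z))⁻¹, (σ z)⁻¹, hl0, ?_, ?_, ?_, ?_⟩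
      · rw [hmat, hg'W e ⟨hw.mem.a_e hu, hw'W.a_e hu⟩, hge]
      · rw [hmat, hg'W f ⟨hw.mem.a_f hu, hw'W.a_f hu⟩, hgf]
      · rw [hmat, hg'w, Matrix.mulVec_smul, hgW _ hw.mem]
      · rw [hu.invol, ← div_eq_mul_inv, hz]

variable (p : ℕ) [Fact p.Prime] [CharP F p] (hn : 3 ≤ n)
include p hn

/-- A lift of the image of an element fixing a point fixes the image point. -/
theorem lift_pt {β : MulAut (Cfsg.PSU n F q)} {w w' : Vn n F} (hw0 : w ≠ 0) (hw : hB n σ w w = 0) (hw'0 : w' ≠ 0)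
    (hw' : hB n σ w' w' = 0)
    (hT : ∀ c, c + σ c = 0 → ∃ c', c' + σ c' = 0 ∧ β (mkU (tr hu w c)) = mkU (tr hu w' c'))
    {x v : Su n F q} {a : F} (hx : mat x *ᵥ w = a • w) (hv : mkU v = β (mkU x)) :
    ∃ b : F, mat v *ᵥ w' = b • w' := by
  obtain ⟨κ, hκ0, hκ⟩ := skew_exists hu
  obtain ⟨c', hc', h'⟩ := hT κ hκ
  have hN : a * σ a * κ + σ (a * σ a * κ) = 0 := by
    rw [map_mul, map_mul, hu.invol]; linear_combination a * σ a * hκ
  obtain ⟨c'', hc'', h''⟩ := hT _ hN
  have hvw : hB n σ (mat v *ᵥ w') (mat v *ᵥ w') = 0 := by rw [hB_mat hu]; exact hw'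
  have h1 : mkU (tr hu (mat v *ᵥ w') c') = mkU (tr hu w' c'') := by
    rw [← h'', ← tr_smul hu hw hκ, ← hx, ← conj_tr hu v hw' hc', ← conj_tr hu x hw hκ]
    simp only [map_mul, map_inv, hv, h']
  have h2 := eq_of_mkU_eq p hu (by omega) (tr_pow_p hu p (by omega) hvw hc')
    (tr_pow_p hu p (by omega) hw' hc'') h1
  obtain ⟨b, hb⟩ := tr_inj hu (mat_mulVec_ne_zero v hw'0) hvw hw' hc' hc''
    (param_ne_zero hu p (by omega) β hw0 hw hw' hκ hκ0 h') h2
  have hb0 : b ≠ 0 := fun h0 => hw'0 (by rw [hb, h0, zero_smul])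
  refine ⟨b⁻¹, ?_⟩
  conv_rhs => rw [hb]
  rw [smul_smul, inv_mul_cancel₀ hb0, one_smul]

variable {e f : Vn n F} (H : HP σ e f) {β : MulAut (Cfsg.PSU n F q)}
include H

/-- The image of the torus. -/
theorem torus_image (hβe : FixPt hu β e) (hβf : FixPt hu β f) {h : Su n F q} {l m : F}
    (he : mat h *ᵥ e = l • e) (hf : mat h *ᵥ f = m • f) :
    ∃ (h' : Su n F q) (l' m' : F), mkU h' = β (mkU h) ∧ mat h' *ᵥ e = l' • e ∧ mat h' *ᵥ f = m' • f ∧
      l' ≠ 0 ∧ m' ≠ 0 ∧ ∀ a, InW σ e f a → InW σ e f (mat h' *ᵥ a) := by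
  obtain ⟨h', hh'⟩ := mkU_surjective (β (mkU h))
  obtain ⟨l', hl', hl⟩ := lift_fix_pt hu p hn H.e_ne H.ee hβe he hh'
  obtain ⟨m', hm', hm⟩ := lift_fix_pt hu p hn H.f_ne H.ff hβf hf hh'
  refine ⟨h', l', m', hh', hl, hm, hl', hm', fun a ha => ⟨?_, ?_⟩⟩
  · have := hB_mat hu h' e a
    rw [hl, map_smulₛₗ, LinearMap.smul_apply, ha.1, smul_eq_mul, mul_eq_zero] at this
    exact this.resolve_left ((map_ne_zero σ).2 hl')
  · have := hB_mat hu h' f a
    rw [hm, map_smulₛₗ, LinearMap.smul_apply, ha.2, smul_eq_mul, mul_eq_zero] at this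
    exact this.resolve_left ((map_ne_zero σ).2 hm')

theorem torus_inW {h : Su n F q} {l m : F} (hl : l ≠ 0) (he : mat h *ᵥ e = l • e) (hf : mat h *ᵥ f = m • f)
    {a : Vn n F} (ha : InW σ e f a) : InW σ e f (mat h *ᵥ a) := by
  have hm : m ≠ 0 := fun h0 => mat_mulVec_ne_zero h H.f_ne (by rw [hf, h0, zero_smul])
  constructor
  · have := hB_mat hu h e a
    rw [he, map_smulₛₗ, LinearMap.smul_apply, ha.1, smul_eq_mul, mul_eq_zero] at this
    exact this.resolve_left ((map_ne_zero σ).2 hl)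
  · have := hB_mat hu h f a
    rw [hf, map_smulₛₗ, LinearMap.smul_apply, ha.2, smul_eq_mul, mul_eq_zero] at this
    exact this.resolve_left ((map_ne_zero σ).2 hm)

variable {φ : Vn n F → Vn n F} (hφ : IsPar hu β e f φ)
include hφ

/-- Equivariance under the torus. -/
theorem IsPar.equivariant {h h' : Su n F q} {l m l' m' : F} (hl : l ≠ 0) (hl' : l' ≠ 0)
    (he : mat h *ᵥ e = l • e) (hf : mat h *ᵥ f = m • f) (he' : mat h' *ᵥ e = l' • e) (hf' : mat h' *ᵥ f = m' • f)
    (hh : mkU h' = β (mkU h)) {a : Vn n F} (ha : InW σ e f a) :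
    φ (σ l • mat h *ᵥ a) = σ l' • mat h' *ᵥ φ a := by
  obtain ⟨d, hd⟩ := exists_d hu a
  obtain ⟨hm, h2⟩ := hφ a ha
  obtain ⟨d', hd', h3⟩ := h2 d hd
  have hE := H.isE hu ha hd
  have hE' := H.isE hu hm hd'
  have haW := torus_inW hu p hn H hl he hf ha
  have hmW := torus_inW hu p hn H hl' he' hf' hm
  have key : ∀ {k : Su n F q} {t : F} {v : Vn n F} {s : F}, mat k *ᵥ e = t • e → IsE σ e v s →
      InW σ e f (mat k *ᵥ v) → k * eS hu e v s * k⁻¹ = eS hu e (σ t • mat k *ᵥ v) (t * σ t * s) ∧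
      t * σ t * s + σ (t * σ t * s) = -hB n σ (σ t • mat k *ᵥ v) (σ t • mat k *ᵥ v) := by
    intro k t v s hk hv hkW
    have hv' : IsE σ e (mat k *ᵥ v) s := H.isE hu hkW (by rw [hB_mat hu]; exact hv.tr)
    exact ⟨by rw [suConj hu k hv, hk, eS_smul hu hv'], (hv'.smul hu t).tr⟩
  obtain ⟨k1, k2⟩ := key he hE haW
  obtain ⟨k3, k4⟩ := key he' hE' hmW
  refine IsPar.unique hu p hn H hφ (haW.smul _) (hmW.smul _) k2 k4 ?_
  rw [← k1, ← k3]
  simp only [map_mul, map_inv, hh, h3]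

/-- On a good line the parameter map is a field automorphism. -/
theorem IsPar.line_hom (hs : ¬ (n = 3 ∧ q = 2)) (hβe : FixPt hu β e) (hβf : FixPt hu β f) {w : Vn n F}
    (hw : Good σ e f w) : φ w ≠ 0 ∧ ∃ θ : F ≃+* F, ∀ t : F, φ (t • w) = θ t • φ w := by
  classical
  have hw0 : φ w ≠ 0 := fun h => hw.ne (IsPar.eq_zero hu p hn H hφ hβe hw.mem h)
  have hline : ∀ t : F, ∃ t' : F, φ (t • w) = t' • φ w := fun t => by
    rcases hw.iso with hwi | h3
    · exact (IsPar.line hu p hn H hφ hβe hβf hw.ne hw.mem hwi).2.2.1 t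
    · exact good_multiples hu h3 H (IsPar.mem hu p hn H hφ hw.mem) hw0 (IsPar.mem hu p hn H hφ (hw.mem.smul t))
  choose g hg using hline
  have ginj : ∀ {s t : F}, s • φ w = t • φ w → s = t := fun h => smul_left_injective F hw0 h
  have hadd : ∀ s t, g (s + t) = g s + g t := fun s t => ginj (by
    rw [← hg, add_smul, IsPar.add hu p hn H hφ (hw.mem.smul s) (hw.mem.smul t), hg, hg, ← add_smul])
  have h1 : g 1 = 1 := ginj (by rw [← hg, one_smul, one_smul])
  obtain ⟨R, hR0, hR, hT⟩ := exists_torus_set hu H hs hw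
  have hmul : ∀ r ∈ R, ∀ t, g (r * t) = g r * g t := fun r hr => by
    obtain ⟨h, l, m, μ, hl, he, hf, hμ, rfl⟩ := hT r hr
    obtain ⟨h', l', m', hh, he', hf', hl', -, hW'⟩ := torus_image hu p hn H hβe hβf he hf
    obtain ⟨μ', hμ'⟩ : ∃ μ' : F, mat h' *ᵥ φ w = μ' • φ w := by
      rcases hw.iso with hwi | h3
      · obtain ⟨h0, hi, -, -, hT'⟩ := IsPar.line hu p hn H hφ hβe hβf hw.ne hw.mem hwi
        exact lift_pt hu p hn hw.ne hwi h0 hi hT' hμ hh
      · exact good_multiples hu h3 H (IsPar.mem hu p hn H hφ hw.mem) hw0 (hW' _ (IsPar.mem hu p hn H hφ hw.mem))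
    have key : ∀ t, g (σ l * μ * t) = σ l' * μ' * g t := fun t => ginj (by
      have h4 := IsPar.equivariant hu p hn H hφ hl hl' he hf he' hf' hh (hw.mem.smul t)
      rw [Matrix.mulVec_smul, hμ, hg, Matrix.mulVec_smul, hμ', smul_smul, smul_smul, smul_smul, smul_smul] at h4
      rw [show σ l * μ * t = σ l * t * μ by ring, ← hg, h4]
      ring_nf)
    intro t
    have h5 := key 1
    rw [mul_one, h1, mul_one] at h5
    rw [key, h5]
  have hall := hom_of_large hu hadd h1 R hR0 hR hmul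
  let θ : F →+* F := RingHom.mk' ⟨⟨g, h1⟩, hall⟩ hadd
  exact ⟨hw0, RingEquiv.ofBijective θ ⟨θ.injective, Finite.injective_iff_surjective.1 θ.injective⟩, hg⟩

end Cfsg.Agent.AutPSU
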